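import Mathlib
import Cfsg.Agent.L0.M3
import Cfsg.Agent.H2.KThm
import Cfsg.Agent.H1.Frattini

set_option autoImplicit false
open Cfsg Subgroup CfsgH2 Function
open scoped commutatorElement

namespace CfsgL0
universe u

theorem direct_of_comm {G : Type*} [Group G] [Finite G] {p : ℕ} [Fact p.Prime] {P : Subgroup G}
    (hP : Syl p P ⊤) (h : piRes {p} ⊤ ≤ C[P]) : P.Normal ∧ ¬ p ∣ o[piRes {p} (⊤ : Subgroup G)] := by
  refine ⟨top_le_norm_iff.1 ?_, ?_⟩
  · rw [← hP.piRes_sup]; exact sup_le (h.trans (cent_le_norm _)) le_normalizer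
  · have h1 := hP.inf_norm (le_top (a := piRes {p} ⊤)) (le_top.trans le_norm_piRes)
    have h2 := h1.npc_of_norm_le_cent (inf_le_left.trans (h.trans (cent_anti inf_le_left)))
    exact NPC.iff_piRes.1 h2.of_piRes_npc

theorem sol_of_max_nil (n : ℕ) : ∀ (G : Type u) [Group G] [Finite G] (M : Subgroup G), Nat.card G = n →
    IsCoatom M → Nil[M] → (Odd o[M] ∨ ⁅M, M⁆ ≤ C[M]) → Group.IsSolvable G := by
  induction n using Nat.strong_induction_on with | _ n ih => ?_
  intro G _ _ M hn hM hnil h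
  by_cases hc : ∃ N : Subgroup G, N.Normal ∧ N ≠ ⊥ ∧ N ≤ M
  · obtain ⟨N, _, h0, hN⟩ := hc
    have h1 := ih _ (hn ▸ card_quot_lt h0) (G ⧸ N) (M.map (QuotientGroup.mk' N)) rfl
      (CfsgH1.isCoatom_map_of_ker_le (QuotientGroup.mk'_surjective N) hM (by rwa [QuotientGroup.ker_mk']))
      (isNilpotent_map _ hnil) (h.imp (fun h => h.of_dvd_nat (card_map_dvd _ _)) fun h => by
        rw [← comm_eq_bot_iff] at h ⊢
        rw [← map_commutator, ← map_commutator, h, Subgroup.map_bot])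
    haveI : Group.IsSolvable N := isSolvable_of_nilpotent (isNilpotent_of_le hnil hN)
    exact solvable_of_ker_le_range N.subtype (QuotientGroup.mk' N) (by simp)
  have hN : ∀ X, X ≤ M → X ≠ ⊥ → M ≤ N[X] → N[X] = M := fun X h1 h2 h3 =>
    ((hM.le_iff.1 h3).resolve_left fun e => hc ⟨X, top_le_norm_iff.1 e.ge, h2, h1⟩)
  have hS : ∀ (p : ℕ) [Fact p.Prime], p ∣ o[M] → Syl p O[{p}, M] ⊤ := fun p _ hd =>
    Syl.of_norm le_top (by
      rw [top_inf_eq, hN _ piCoreOf_le ((nil_syl_core hnil).ne_bot hd) le_norm_piCoreOf]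
      exact nil_syl_core hnil)
  have hnpc : ∀ (p : ℕ) (_ : Fact p.Prime), p ∣ o[M] → NPC p (⊤ : Subgroup G) := by
    intro p hp hd
    have sS := hS p hd
    have S0 := (nil_syl_core hnil).ne_bot hd
    set S := O[{p}, M]
    have nS : M ≤ N[S] := le_norm_piCoreOf
    have hSM : S ≤ M := piCoreOf_le
    rcases h with h | h
    · have hK : IsK kInfLower.{u} := Or.inl rfl
      refine hK.npc (odd_ne_two h hd) sS ?_
      rw [hN _ (iw_le.trans hSM) (cf_ne_bot (iw_cf hK.char) sS.pg S0) (nS.trans (cf_norm (iw_cf hK.char) sS.pg))]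
      exact NPC.of_nilpotent hnil
    · have Z0 := center_ne_bot sS.pg S0
      have nZ : N[Z[S]] = M := hN _ (inf_le_left.trans hSM) Z0 (nS.trans norm_le_norm_center)
      have hS2 : ⁅S, S⁆ ≤ Z[S] := le_inf commutator_self_le
        ((commutator_mono hSM hSM).trans (h.trans (cent_anti hSM)))
      have hgen : ∀ X, Z[S] ≤ X → X ≤ S → M ≤ N[X] := fun X h1 h2 => by
        rw [← nil_sup_core (π := {p}) hnil]
        exact sup_le (le_norm_of_commutator_le (hS2.trans h1) h2)
          (le_norm_of_le_cent ((le_centralizer_iff.1 piCoreOf_le_cent).trans (cent_anti h2)))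
      have hW : ∀ g ∈ (⊤ : Subgroup G), Z[S].map (CfsgH2.cj g) ≤ S → Z[S].map (CfsgH2.cj g) = Z[S] := by
        intro g _ hg
        have e1 : N[Z[S].map (CfsgH2.cj g)] = M.map (CfsgH2.cj g) := by rw [normalizer_map_cj, nZ]
        have h1 : Z[S] ≤ S.map (CfsgH2.cj g) := by
          rw [← piCoreOf_map_cj]
          refine nil_le_core (isNilpotent_map _ hnil) ?_ (isPGroup_iff_piN.1 sS.pg.to_inf_left)
          rw [← e1]; exact le_norm_of_le_cent (inf_le_right.trans (cent_anti hg))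
        have h2 := hN (Z[S] ⊔ Z[S].map (CfsgH2.cj g)) ((sup_le inf_le_left hg).trans hSM)
          (fun e => Z0 (le_bot_iff.1 (le_sup_left.trans e.le))) (hgen _ le_sup_left (sup_le inf_le_left hg))
        have h3 := hgen ((Z[S] ⊔ Z[S].map (CfsgH2.cj g)).map (CfsgH2.cj g⁻¹))
          (le_map_cj_iff.2 (by rw [inv_inv]; exact le_sup_right))
          (map_cj_le_iff.2 (by rw [inv_inv]; exact sup_le h1 (map_mono inf_le_left)))
        rw [normalizer_map_cj, h2, le_map_cj_iff, inv_inv] at h3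
        exact map_cj_eq (norm_le_norm_center (norm_le_norm_piCoreOf (mem_norm_of_map_le h3)))
      have h4 := sS.piRes_inf_eq_of_fusion le_top (hSM.trans nZ.ge) fun x hx u hu hux => by
        obtain ⟨v, hv, e⟩ := sS.fusion_weakly_closed inf_le_left inf_le_right hW hx hu hux
        exact ⟨v, hv.2, e⟩
      rw [nZ, nil_piRes_eq hnil, inf_comm _ S, inf_comm _ S, piCoreOf_inf_compl] at h4
      have h5 := sS.inf_norm (le_top (a := piRes {p} ⊤)) (le_top.trans le_norm_piRes)
      rw [h4] at h5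
      exact NPC.of_piRes (by simpa using h5.nd)
  have hH := hall_piRes_of_npc (M := ⊤) (π := {p | p ∣ o[M]}) fun p hp h1 _ => hnpc p hp h1
  set K := piRes {p | p ∣ o[M]} (⊤ : Subgroup G)
  have hMK : M ≤ N[K] := le_top.trans le_norm_piRes
  have hcop : o[M].Coprime o[K] := PiN.coprime PiN.self hH.pi
  by_cases K0 : K = ⊥
  · refine absurd (eq_top_iff.2 (le_of_syl fun p hp hd => ⟨_, hS p ?_, piCoreOf_le⟩)) hM.1
    have := hH.pi'
    rw [K0, compl_compl, relIndex_bot_left] at this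
    exact this p hp.out hd
  · obtain ⟨q, hq, hd⟩ := exists_prime_dvd_card K0
    haveI := Fact.mk hq
    obtain ⟨Q, hQ, hn⟩ := exists_inv_syl q hMK hcop (Or.inl (isSolvable_of_nilpotent hnil))
    have := isSolvable_sup (isSolvable_of_nilpotent hnil) (isSolvable_of_pgroup hQ.pg) hn
    rwa [hM.2 (M ⊔ Q) (lt_of_le_of_ne le_sup_left fun e => hQ.ne_bot hd ?_), isSolvable_top_iff] at this
    exact le_bot_iff.1 ((le_inf (le_sup_right.trans e.ge) hQ.le).trans (inf_eq_bot_of_coprime' hcop).le)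

end CfsgL0
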