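import Cfsg.Agent.H5.Sy3
import Cfsg.Agent.H2.BG0

/-! Extensions of `A₆` which preserve a class of elements of order three. -/

namespace CfsgL0
open Function Subgroup Cfsg CfsgH2 Equiv Equiv.Perm CfsgH5.Sy

theorem a6_three (y : alternatingGroup (Fin 6)) (hy : orderOf y = 3) :
    ∃ ψ : alternatingGroup (Fin 6) ≃* alternatingGroup (Fin 6), (ψ y).1.IsThreeCycle := by
  by_cases h : y.1.IsThreeCycle
  · exact ⟨.refl _, h⟩
  obtain ⟨ω, h1, -⟩ := exists_omega (α := Fin 6) rfl
  have ty (s : Perm (Fin 6)) (o : orderOf s = 3) (n : ¬ s.IsThreeCycle) : s.cycleType = {3, 3} := by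
    obtain ⟨k, hk⟩ := cycleType_prime_order (o ▸ Nat.prime_three)
    have h6 := s.sum_cycleType_le
    rw [o] at hk
    rw [hk, Multiset.sum_replicate, Fintype.card_fin, smul_eq_mul] at h6
    rcases (by omega : k = 0 ∨ k = 1) with rfl | rfl
    · exact absurd hk n
    · exact hk
  obtain ⟨c, hc, -⟩ := exists_three (α := Fin 6) (by simp) (x := 0) (y := 1) (by decide)
  have h2 : ¬ (ω c).IsThreeCycle := fun h3 => by
    have : (ω c).support = Finset.univ := Finset.eq_univ_of_forall fun x => mem_support.2 (h1 c hc x)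
    have h4 := h3.card_support
    rw [this] at h4
    simp at h4
  have h3 : IsConj (ω c) y.1 := isConj_iff_cycleType_eq.2 ((ty _ (by rw [MulEquiv.orderOf_eq, hc.orderOf]) h2).trans
    (ty _ (by rw [orderOf_coe, hy]) h).symm)
  have h4 := ω.symm.toMonoidHom.map_isConj h3
  have e : (alternatingGroup (Fin 6)).map ω.symm.toMonoidHom = alternatingGroup (Fin 6) :=
    characteristic_iff_map_eq.1 inferInstance ω.symm
  refine ⟨(ω.symm.subgroupMap _).trans (MulEquiv.subgroupCongr e), ?_⟩
  simp only [MulEquiv.toMonoidHom_eq_coe, MonoidHom.coe_coe, MulEquiv.symm_apply_apply] at h4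
  exact (isConj_iff_cycleType_eq.1 h4).symm.trans hc

theorem a6_ext {G : Type*} [Group G] {M : Subgroup G} [M.Normal] (ε : M ≃* alternatingGroup (Fin 6)) {y : M}
    (hy : orderOf y = 3) (h : ∀ g : G, IsConj y (MulAut.conjNormal g y)) (c : C[M] = ⊥) :
    ∃ φ : G →* Perm (Fin 6), Injective φ := by
  wlog h3 : (ε y).1.IsThreeCycle generalizing ε
  · obtain ⟨ψ, h4⟩ := a6_three (ε y) (by rw [MulEquiv.orderOf_eq, hy])
    exact this (ε.trans ψ) h4
  have key (g : G) : ∃ π : Perm (Fin 6), ∀ m : M, (ε (MulAut.conjNormal g m)).1 = π * ε m * π⁻¹ := by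
    obtain ⟨π, hπ⟩ := inner_of_three (by simp) ((ε.symm.trans (MulAut.conjNormal g)).trans ε) fun t ht => by
      have h1 := ((ε.symm.trans (MulAut.conjNormal g)).trans ε).toMonoidHom.map_isConj
        (alternatingGroup.isThreeCycle_isConj (by simp) h3 ht)
      have h2 := (ε.toMonoidHom.map_isConj (h g)).trans (by simpa using h1)
      exact (isConj_iff_cycleType_eq.1 ((alternatingGroup _).subtype.map_isConj h2)).symm.trans h3
    exact ⟨π, fun m => by simpa using hπ (ε m)⟩
  choose π hπ using key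
  have un (p q : Perm (Fin 6)) (e : ∀ m : M, p * ε m * p⁻¹ = q * ε m * q⁻¹) : p = q := by
    refine (inv_mul_eq_one.1 (cent_triv (by simp) _ fun a ha => ?_)).symm
    have := e (ε.symm ⟨a, ha⟩)
    rw [MulEquiv.apply_symm_apply] at this
    calc q⁻¹ * p * a = q⁻¹ * (p * a * p⁻¹) * p := by group
      _ = _ := by rw [this]; group
  refine ⟨MonoidHom.mk' π fun g k => un _ _ fun m => ?_, (injective_iff_map_eq_one _).2 fun g hg => ?_⟩
  · rw [← hπ, map_mul, MulAut.mul_apply, hπ, hπ]; group
  · refine mem_bot.1 (c ▸ mem_centralizer_iff.2 fun m hm => ?_)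
    have := hπ g ⟨m, hm⟩
    rw [show π g = 1 from hg, one_mul, inv_one, mul_one, Subtype.val_inj, ε.injective.eq_iff] at this
    exact (mul_inv_eq_iff_eq_mul.1 (congrArg Subtype.val this)).symm

end CfsgL0
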