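import Cfsg.Agent.L0.OT
import Cfsg.Agent.H2.FT
import Cfsg.Agent.H2.BG8

/-! Coprime action in an ambient group; invariant Schmidt groups; the Hughes subgroup. -/

namespace CfsgL0
open Cfsg Subgroup CfsgH2 Function
universe u v

theorem exists_amb (A : Type v) (G : Type u) [Group A] [Group G] [Finite A] [Finite G]
    [MulDistribMulAction A G] : ∃ (X : Type (max u v)) (_ : Group X) (_ : Finite X) (i : G →* X)
    (j : A →* X), Injective i ∧ Injective j ∧ (∀ a g, j a * i g * (j a)⁻¹ = i (a • g)) ∧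
    (map i ⊤).Normal ∧ ∀ H : Subgroup G, map j ⊤ ≤ N[map i H] ↔ ∀ a : A, ∀ x ∈ H, a • x ∈ H := by
  obtain ⟨X, _, _, i, j, hi, hj, h1, h2, -⟩ := CfsgH1.exists_ambient (MulDistribMulAction.toMulAut A G)
  refine ⟨X, _, ‹_›, i, j, hi, hj, h1, h2, fun H => ⟨fun h a x hx => ?_, ?_⟩⟩
  · have := conj_mem_of_norm (h ⟨a, trivial, rfl⟩) (mem_map_of_mem i hx)
    rw [h1] at this
    exact (mem_map_iff_mem hi).1 this
  · rintro h _ ⟨a, -, rfl⟩
    refine mem_norm_of_conj ?_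
    rintro _ ⟨x, hx, rfl⟩
    exact h1 a x ▸ mem_map_of_mem i (h a x hx)

theorem pg_of_npc {G : Type*} [Group G] [Finite G] {K A : Subgroup G} {p : ℕ} [Fact p.Prime]
    (hA : A ≤ N[K]) (hs : ∀ V, V ≤ K → K ≤ N[V] → A ≤ N[V] → V = ⊥ ∨ V = K) {P : Subgroup G}
    (hP : Syl p P K) (hn : A ≤ N[P]) (hd : p ∣ o[K]) (h2 : p ≠ 2)
    (h : ∀ W, W ≠ ⊥ → W ≤ P → A ≤ N[W] → P ≤ N[W] → K ⊓ N[W] < K → NPC p (K ⊓ N[W])) : PG[p, K] := by
  have h0 := kL_ne_bot hP.pg (hP.ne_bot hd)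
  by_cases h1 : K ≤ N[kL P]
  · rw [← (hs _ (kL_le.trans hP.le) h1 (hn.trans norm_le_norm_kL)).resolve_left h0]
    exact hP.pg.to_le kL_le
  have h3 := CfsgH3.npc_of_kL h2 hP (h _ h0 kL_le (hn.trans norm_le_norm_kL)
    (le_normalizer.trans norm_le_norm_kL) (inf_lt_left.2 h1))
  rcases hs _ piCoreOf_le (le_norm_piCoreOf (π := {p}ᶜ)) (le_norm_piCoreOf' hA) with e | e
  · have := h3.sup_eq hP
    rw [e, bot_sup_eq] at this
    exact this ▸ hP.pg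
  · exact absurd (e ▸ hd) not_dvd_piCoreOf

theorem sol_of_inv_nil (n : ℕ) : ∀ (G : Type u) [Group G] [Finite G] (K A : Subgroup G), o[K] = n →
    A ≤ N[K] → o[A].Coprime o[K] → (∀ H < K, A ≤ N[H] → Nil[H]) → Sol[K] := by
  induction n using Nat.strong_induction_on with | _ n ih => ?_
  intro G _ _ K A hn hA hc h
  by_cases hs : ∀ V, V ≤ K → K ≤ N[V] → A ≤ N[V] → V = ⊥ ∨ V = K
  · by_cases h2 : PG[2, K]
    · exact isSolvable_of_pgroup h2
    obtain ⟨p, hp, hd, hp2⟩ : ∃ p : ℕ, p.Prime ∧ p ∣ o[K] ∧ p ≠ 2 := by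
      by_contra! h3
      exact h2 (isPGroup_iff_piN.2 h3)
    haveI := Fact.mk hp
    obtain ⟨P, hP, hPA⟩ := exists_inv_syl p hA hc (sol_or hc)
    exact isSolvable_of_pgroup (pg_of_npc hA hs hP hPA hd hp2 fun W _ _ h1 _ h3 =>
      .of_nilpotent (h _ h3 (le_norm_inf hA (le_norm_norm h1))))
  push Not at hs
  obtain ⟨V, h1, h2, h3, h4, h5⟩ := hs
  refine isSolvable_of_qt h2 (ih _ (hn ▸ card_qt_lt (by rwa [inf_eq_right.2 h1])) _ _ (qt V A) rfl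
    (qt_le_norm hA) (coprime_qt hc) fun H hH h6 => ?_)
    (isSolvable_of_le (isSolvable_of_nilpotent (h V (h1.lt_of_ne h5) h3)) inf_le_right)
  rw [← qt_qc (X := H)]
  exact isNilpotent_qt (h _ (by rwa [← qc_qt_of_le h2 h1, qc_lt_qc]) (le_norm_qc h3 h6))

theorem inv_schmidt {G : Type*} [Group G] [Finite G] {K A : Subgroup G} (hA : A ≤ N[K])
    (hc : o[A].Coprime o[K]) (h : ∀ H < K, A ≤ N[H] → Nil[H]) (hK : ¬ Nil[K]) :
    ∃ (q r : ℕ) (_ : Fact q.Prime) (_ : Fact r.Prime) (Q R : Subgroup G), q ≠ r ∧ q ∣ o[K] ∧ Syl q Q K ∧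
      Syl r R K ∧ K ≤ N[Q] ∧ A ≤ N[Q] ∧ A ≤ N[R] ∧ R ⊔ Q = K := by
  have hs := sol_of_inv_nil _ G K A rfl hA hc h
  have h1 := sol_comm_lt hs (by rintro rfl; exact hK nil_bot)
  obtain ⟨r, hr, hd⟩ := Nat.exists_prime_and_dvd (n := ⁅K, K⁆.relIndex K) fun e =>
    h1.not_ge (relIndex_eq_one.1 e)
  haveI := Fact.mk hr
  obtain ⟨R, hR, hRA⟩ := exists_inv_syl r hA hc (.inr hs)
  have h2 : piRes {r} K < K := piRes_le.lt_of_ne fun e =>
    (hR.not_dvd_of_le (hR.le_commutator_of_piRes e)) hd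
  have hM := h _ h2 (hA.trans norm_le_norm_piRes)
  have h3 : ∀ (q : ℕ) [Fact q.Prime], q ≠ r → Syl q O[{q}, piRes {r} K] K := fun q hq e =>
    (nil_syl_core hM).trans piRes_le fun hd => e (piN_relIndex_piRes q hq.out hd)
  have h4 : ∀ q : ℕ, N[K] ≤ N[O[{q}, piRes {r} K]] := fun q =>
    norm_le_norm_piRes.trans norm_le_norm_piCoreOf
  by_contra! h5
  refine hK (nil_of_syl fun q hq hqd => ?_)
  by_cases e : q = r
  · subst e
    refine ⟨R, hR, le_of_syl fun s hs hsd => ?_⟩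
    by_cases e : s = q
    · subst e; exact ⟨R, hR, le_normalizer⟩
    have h6 := h _ ((sup_le hR.le (h3 s e).le).lt_of_ne (h5 s q ‹_› ‹_› _ R e hsd (h3 s e) hR
      (le_normalizer.trans (h4 s)) (hA.trans (h4 s)) hRA)) (le_norm_sup hRA (hA.trans (h4 s)))
    exact ⟨_, h3 s e, le_sup_right.trans ((hR.mono le_sup_left (sup_le hR.le (h3 s e).le)).le_norm_of_nilpotent h6)⟩
  · exact ⟨_, h3 q e, le_normalizer.trans (h4 q)⟩

end CfsgL0
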