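import Cfsg.Agent.H8.CC
import Cfsg.Agent.H8.Basic
import Cfsg.Agent.L0.TwoF
import Cfsg.Agent.H1.Frob

/-! The Brauer–Suzuki–Wall theorem: the setting and the count of pairs of involutions. -/

namespace CfsgL0
open Function Subgroup Cfsg CfsgH2 CfsgH8

variable {G : Type*} [Group G] {t s g x y : G} {K : Subgroup G}

structure BW (t s : G) (K : Subgroup G) : Prop where
  ot : orderOf t = 2
  ab : ∀ a ∈ K, ∀ b ∈ K, a * b = b * a
  tK : t ∈ K
  os : s * s = 1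
  sK : s ∉ K
  cen : ∀ g, g * t = t * g → g ∈ K ∨ g * s ∈ K
  uni : ∀ y ∈ K, y * y = 1 → y = 1 ∨ y = t
  inv : ∀ x ∈ K, s * x * s⁻¹ = x⁻¹
  ti : ∀ g, ∀ y ∈ K, y ≠ 1 → g * y * g⁻¹ ∈ K → g * t = t * g
  cj : ∀ x, orderOf x = 2 → IsConj t x

theorem ord2 (h1 : x ≠ 1) (h2 : x * x = 1) : orderOf x = 2 := orderOf_eq_prime (by rw [pow_two, h2]) h1

/-- the number of ways to write `x` as a product of two conjugates of `t` -/
noncomputable def np (t x : G) : ℕ := Nat.card {p : G × G // IsConj t p.1 ∧ IsConj t p.2 ∧ p.1 * p.2 = x}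

theorem np_conj (t x g : G) : np t (g * x * g⁻¹) = np t x := by
  refine Nat.card_congr (Equiv.subtypeEquiv ((MulAut.conj g).toEquiv.prodCongr (MulAut.conj g).toEquiv) ?_).symm
  rintro ⟨a, b⟩
  have k (a : G) : IsConj t (g * a * g⁻¹) ↔ IsConj t a :=
    ⟨fun h => h.trans (isConj_iff.2 ⟨g, rfl⟩).symm, fun h => h.trans (isConj_iff.2 ⟨g, rfl⟩)⟩
  simp [k, -isConj_iff]

theorem sum_np [Fintype G] (t : G) : ∑ x, np t x = C1[t].index ^ 2 := by
  classical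
  have : C1[t].index = Fintype.card {x // IsConj t x} := by
    rw [← ncard_conj_eq_index, ← Nat.card_coe_set_eq, Nat.card_eq_fintype_card]; rfl
  rw [this, pow_two, ← Fintype.card_prod, ← Finset.card_univ, Finset.card_eq_sum_card_fiberwise
    (f := fun p : {x // IsConj t x} × {x // IsConj t x} => p.1.1 * p.2.1) (t := Finset.univ) (by simp)]
  refine Finset.sum_congr rfl fun x _ => ?_
  rw [np, ← Fintype.card_subtype, Nat.card_eq_fintype_card]
  exact Fintype.card_congr ⟨fun p => ⟨(⟨p.1.1, p.2.1⟩, ⟨p.1.2, p.2.2.1⟩), p.2.2.2⟩,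
    fun p => ⟨(p.1.1.1, p.1.2.1), p.1.1.2, p.1.2.2, p.2⟩, fun _ => rfl, fun _ => rfl⟩

namespace BW
variable (h : BW t s K)
include h

theorem out_inv (e : g * s ∈ K) (hy : y ∈ K) : g * y * g⁻¹ = y⁻¹ := by
  have e1 : g = g * s * s := by rw [mul_assoc, h.os, mul_one]
  calc _ = g * s * (s * y * s⁻¹) * (g * s)⁻¹ := by nth_rw 1 2 [e1]; group
    _ = _ := by rw [h.inv y hy, h.ab _ e _ (inv_mem hy), mul_inv_cancel_right]

theorem out_sq (e : g * s ∈ K) : g * g = 1 := by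
  have e1 : s⁻¹ = s := inv_eq_of_mul_eq_one_right h.os
  have := h.out_inv e e
  rw [mul_inv_rev, ← mul_assoc, e1] at this
  have := mul_right_cancel this
  rwa [mul_eq_right] at this

theorem out_not (e : g * s ∈ K) : g ∉ K := fun e1 => h.sK ((mul_mem_cancel_left e1).1 e)

theorem gd (hy : y ∈ K) (h1 : y ≠ 1) (e : g * y * g⁻¹ ∈ K) : g ∈ K ∨ g * s ∈ K := h.cen g (h.ti g y hy h1 e)

theorem conj_mem (e : g ∈ K ∨ g * s ∈ K) (hy : y ∈ K) : g * y * g⁻¹ ∈ K := by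
  rcases e with e | e
  exacts [mul_mem (mul_mem e hy) (inv_mem e), h.out_inv e hy ▸ inv_mem hy]

theorem mem_C : g ∈ C1[t] ↔ g ∈ K ∨ g * s ∈ K := by
  rw [mem_centralizer_singleton_iff]
  refine ⟨h.cen g, fun e => e.elim (fun e => h.ab _ e _ h.tK) fun e => mul_inv_eq_iff_eq_mul.1 ?_⟩
  rw [h.out_inv e h.tK, inv_eq_of_mul_eq_one_right (inv_mul_self h.ot)]

theorem le : K ≤ C1[t] := fun _ e => h.mem_C.2 (.inl e)

theorem ss : s * s ∈ K := h.os ▸ one_mem K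

theorem cardC : o[C1[t]] = o[K] * 2 := by
  rw [← relIndex_eq_two_iff_exists_notMem_and.2 ⟨s, h.mem_C.2 (.inr h.ss), h.sK, fun b hb => (h.mem_C.1 hb).symm⟩,
    card_mul_relIndex h.le]

theorem norm {X : Subgroup G} [Finite G] (l : X ≤ K) (h0 : X ≠ ⊥) : N[X] = K ⊔ zpowers s := by
  obtain ⟨⟨y, hy⟩, h1⟩ := ne_bot_iff_exists_ne_one.1 h0
  refine le_antisymm (fun g hg => ?_) (sup_le (fun g hg => mem_norm_of_conj fun x hx => ?_)
    (zpowers_le.2 (mem_norm_of_conj fun x hx => h.inv x (l hx) ▸ inv_mem hx)))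
  · rcases h.gd (l hy) (fun e => h1 (Subtype.ext e)) (l (conj_mem_of_norm hg hy)) with e | e
    · exact mem_sup_left e
    · exact (mul_mem_cancel_right (mem_sup_right (mem_zpowers s))).1 (mem_sup_left e)
  · rwa [h.ab g hg x (l hx), mul_inv_cancel_right]

theorem cls_inv (o : orderOf x = 2) : x ∈ Cls K :=
  let ⟨g, hg⟩ := isConj_iff.1 (h.cj x o).symm
  ⟨inv_ne_one o, g, hg ▸ h.tK⟩

theorem cls_comm (hy : y ∈ Cls K) (h1 : x ≠ 1) (c : x * y = y * x) : x ∈ Cls K := by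
  obtain ⟨y1, g, hg⟩ := hy
  rcases h.gd (g := g * x * g⁻¹) hg (conj_ne_one g y1) (by
    rwa [conj_mul, c, ← conj_mul, mul_inv_cancel_right]) with e | e
  · exact ⟨h1, g, e⟩
  · have := h.out_sq e
    rw [conj_mul, conj_eq_one_iff] at this
    exact h.cls_inv (ord2 h1 this)

theorem isConj : IsConj t x ↔ x ≠ 1 ∧ x * x = 1 := by
  refine ⟨fun e => ?_, fun e => h.cj x (ord2 e.1 e.2)⟩
  obtain ⟨g, rfl⟩ := isConj_iff.1 e
  exact ⟨conj_ne_one g (inv_ne_one h.ot), by rw [conj_mul, inv_mul_self h.ot, mul_one, mul_inv_cancel]⟩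

theorem np_eq : np t x = Nat.card {u // u ≠ 1 ∧ u * u = 1 ∧ u * x ≠ 1 ∧ u * x * u⁻¹ = x⁻¹} := by
  refine Nat.card_congr ⟨fun p => ⟨p.1.1, ?_⟩, fun u => ⟨(u.1, u.1 * x), ?_⟩, fun p => ?_, fun _ => rfl⟩
  · obtain ⟨⟨a, b⟩, h1, h2, rfl⟩ := p
    obtain ⟨a1, a2⟩ := h.isConj.1 h1
    obtain ⟨b1, b2⟩ := h.isConj.1 h2
    refine ⟨a1, a2, by rwa [← mul_assoc, a2, one_mul], ?_⟩
    rw [← mul_assoc, a2, one_mul, mul_inv_rev, inv_eq_of_mul_eq_one_right b2]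
  · obtain ⟨u, h1, h2, h3, h4⟩ := u
    refine ⟨h.isConj.2 ⟨h1, h2⟩, h.isConj.2 ⟨h3, ?_⟩, by rw [← mul_assoc, h2, one_mul]⟩
    rw [inv_eq_of_mul_eq_one_right h2] at h4
    rw [← mul_assoc, h4, inv_mul_cancel]
  · obtain ⟨⟨a, b⟩, h1, h2, rfl⟩ := p
    simp [← mul_assoc, (h.isConj.1 h1).2]

theorem np_one [Finite G] : np t 1 = C1[t].index := by
  rw [h.np_eq, ← ncard_conj_eq_index, ← Nat.card_coe_set_eq]
  exact Nat.card_congr (Equiv.subtypeEquivRight fun u => by simp [h.isConj, -isConj_iff]; tauto)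

theorem np_K (hy : y ∈ K) (h1 : y ≠ 1) : np t y = o[K] := by
  rw [h.np_eq]
  refine Nat.card_congr (Equiv.subtypeEquiv (Equiv.mulRight s) fun u => ⟨fun ⟨u1, u2, u3, u4⟩ => ?_, fun e => ?_⟩)
  · refine (h.gd hy h1 (u4 ▸ inv_mem hy)).resolve_left fun e => u3 ?_
    rw [h.ab u e y hy, mul_inv_cancel_right, eq_inv_iff_mul_eq_one] at u4
    rw [(h.uni u e u2).resolve_left u1, (h.uni y hy u4).resolve_left h1, inv_mul_self h.ot]
  · exact ⟨fun e1 => h.out_not e (e1 ▸ one_mem K), h.out_sq e,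
      fun e1 => h.out_not e (eq_inv_of_mul_eq_one_left e1 ▸ inv_mem hy), h.out_inv e hy⟩

theorem np_cls (hx : x ∈ Cls K) : np t x = o[K] := by
  obtain ⟨h1, g, hg⟩ := hx
  rw [← np_conj t x g, h.np_K hg (conj_ne_one g h1)]

variable [Finite G]

theorem odd_index : Odd C1[t].index := by
  obtain ⟨P, hP⟩ := exists_syl (p := 2) (⊤ : Subgroup G)
  obtain ⟨z, hz, o⟩ := exists_prime_order_mem Nat.prime_two (dvd_card_of_pgroup (hP.pg.to_le inf_le_left)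
    (center_ne_bot hP.pg (hP.ne_bot (h.ot ▸ (⊤ : Subgroup G).orderOf_dvd_natCard (mem_top t)))))
  obtain ⟨g, hg⟩ := isConj_iff.1 (h.cj z o).symm
  have := (hP.map_cj_mem (mem_top g)).not_dvd_of_le (K := C1[t]) (by
    rintro _ ⟨a, ha, rfl⟩
    rw [mem_centralizer_singleton_iff, ← hg]
    exact (conj_mul.trans (by rw [mem_centralizer_iff.1 hz.2 a ha])).trans conj_mul.symm)
  rwa [relIndex_top_right, Nat.two_dvd_ne_zero, ← Nat.odd_iff] at this

theorem ncard_cls : (Cls K).ncard = C1[t].index * (o[K] - 1) :=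
  CfsgH8.ncard_cls h.le (fun _ hn _ ha => h.conj_mem (h.mem_C.1 hn) ha) fun _ _ ha h1 e => h.mem_C.2 (h.gd ha h1 e)

theorem odd_cent (h1 : x ≠ 1) (hx : x ∉ Cls K) : ¬ 2 ∣ o[C1[x]] := fun d => by
  obtain ⟨u, hu, o⟩ := exists_prime_order_mem Nat.prime_two d
  exact hx (h.cls_comm (h.cls_inv o) h1 (mem_centralizer_singleton_iff.1 hu).symm)

/-- an element inverted by an involution and not conjugate into `K` -/
theorem real {u : G} (h1 : x ≠ 1) (hx : x ∉ Cls K) (u1 : u ≠ 1) (u2 : u * u = 1) (e : u * x * u⁻¹ = x⁻¹) :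
    CC C1[x] ∧ u ∈ N[C1[x]] ∧ (∀ y ∈ C1[x], u * y * u⁻¹ = y⁻¹) ∧ np t x = o[C1[x]] := by
  have key {x : G} (h1 : x ≠ 1) (hx : x ∉ Cls K) (e : u * x * u⁻¹ = x⁻¹) :
      u ∈ N[C1[x]] ∧ (∀ y ∈ C1[x], u * y * u⁻¹ = y⁻¹) ∧ ∀ y ∈ C1[x], ∀ z ∈ C1[x], y * z = z * y := by
    have n : u ∈ N[C1[x]] := mem_norm_of_conj fun y hy => mem_centralizer_singleton_iff.2 (by
      have e1 : x = u * x⁻¹ * u⁻¹ := by rw [← conj_inv, e, inv_inv]
      rw [e1, conj_mul, conj_mul, (Commute.inv_right (mem_centralizer_singleton_iff.1 hy)).eq])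
    have i (y : G) (hy : y ∈ C1[x]) : u * y * u⁻¹ = y⁻¹ := CfsgH1.inv_of_fpf_involution n
      (eq_bot_iff.2 fun y ⟨a, b⟩ => by_contra fun y1 => hx (h.cls_comm (h.cls_comm (h.cls_inv (ord2 u1 u2)) y1
        (mem_centralizer_singleton_iff.1 b)) h1 (mem_centralizer_singleton_iff.1 a).symm)) u2 hy
    refine ⟨n, i, fun y hy z hz => inv_injective ?_⟩
    rw [← i _ (mul_mem hy hz), ← conj_mul, i y hy, i z hz, mul_inv_rev]
  obtain ⟨n, i, c⟩ := key h1 hx e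
  refine ⟨fun y hy y1 => le_antisymm (fun z hz => mem_centralizer_singleton_iff.2 ?_)
    fun z hz => mem_centralizer_singleton_iff.2 (c z hz y hy), n, i, ?_⟩
  · have hy' := (mem_centralizer_singleton_iff.1 hy).symm
    exact (key y1 (fun e => hx (h.cls_comm e h1 hy')) (i y hy)).2.2 z hz x (mem_centralizer_singleton_iff.2 hy')
  · have o (w : G) (hw : w ∈ C1[x]) (w2 : w * w = 1) : w = 1 := by_contra fun w1 =>
      h.odd_cent h1 hx (ord2 w1 w2 ▸ C1[x].orderOf_dvd_natCard hw)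
    have e1 : u⁻¹ = u := inv_eq_of_mul_eq_one_right u2
    rw [h.np_eq]
    refine Nat.card_congr (Equiv.subtypeEquiv (Equiv.mulLeft u) fun v => ⟨fun ⟨_, v2, _, v4⟩ => ?_, fun hv => ?_⟩)
    · refine mem_centralizer_singleton_iff.2 (mul_inv_eq_iff_eq_mul.1 ?_)
      calc _ = u * (v * x * v⁻¹) * u⁻¹ := by simp only [Equiv.coe_mulLeft]; group
        _ = _ := by rw [v4, ← conj_inv, e, inv_inv]
    · have e2 : v = u * (u * v) := by rw [← mul_assoc, u2, one_mul]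
      have nu : u ∉ C1[x] := fun m => u1 (o u m u2)
      refine ⟨fun v1 => nu (by simpa [v1] using hv), ?_, fun v3 => nu ((mul_mem_cancel_right
        (eq_inv_of_mul_eq_one_left v3 ▸ inv_mem (self_mem_cent1 x))).1 hv), ?_⟩
      · have := i _ hv
        rw [e1] at this
        rw [e2, ← mul_assoc]
        exact mul_eq_one_iff_eq_inv.2 this
      · rw [e2, ← e]
        calc _ = u * (u * v * x * (u * v)⁻¹) * u⁻¹ := by group
          _ = _ := by rw [mul_inv_eq_iff_eq_mul.2 (mem_centralizer_singleton_iff.1 (show u * v ∈ _ from hv))]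

theorem real' (h1 : x ≠ 1) (hx : x ∉ Cls K) (e : np t x ≠ 0) : ∃ u, orderOf u = 2 ∧
    CC C1[x] ∧ u ∈ N[C1[x]] ∧ (∀ y ∈ C1[x], u * y * u⁻¹ = y⁻¹) ∧ np t x = o[C1[x]] := by
  rw [h.np_eq] at e
  obtain ⟨u, u1, u2, -, u4⟩ := (Nat.card_ne_zero.1 e).1
  exact ⟨u, ord2 u1 u2, h.real h1 hx u1 u2 u4⟩

end BW

end CfsgL0
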