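import Cfsg.Agent.L0.BW1
import Cfsg.Agent.H3.PF4
import Cfsg.Agent.H3.Misc2
import Cfsg.Agent.H3.Eta

/-! The Brauer–Suzuki–Wall theorem: characters. -/

namespace CfsgL0
open Function Subgroup Cfsg CfsgH2 CfsgH8 CfsgH3
open scoped ComplexConjugate

variable {G : Type*} [Group G] [Fintype G] {t s g x y : G} {K : Subgroup G} {θ a b c : G → ℂ}

theorem gen_split (h : IsGeneralizedCharacter G θ) (h2 : ⟪θ, θ⟫ = 2) :
    ∃ a b, SIrr G a ∧ SIrr G b ∧ ⟪a, b⟫ = 0 ∧ θ = a + b := by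
  classical
  obtain ⟨s, ε, hs, hε, -, -, e⟩ := h.exists_signed_sum (m := 2) (by simpa using h2) (by norm_num)
  obtain ⟨a, b, hab, rfl⟩ := Finset.card_eq_two.1 hs
  rw [Finset.sum_pair hab] at e
  refine ⟨_, _, a.2.sIrr.smul_sign (by exact_mod_cast hε a (by simp)),
    b.2.sIrr.smul_sign (by exact_mod_cast hε b (by simp)), ?_, e⟩
  rw [classInner_smul_left, classInner_smul_right, a.2.classInner_of_ne b.2 fun h => hab (Subtype.ext h)]
  simp

theorem gen_coef (h : IsGeneralizedCharacter G θ) {m : ℕ} (hm : ⟪θ, θ⟫ = m) (h3 : m ≤ 3) (ha : SIrr G a) :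
    ⟪θ, a⟫ = 0 ∨ ⟪θ, a⟫ = 1 ∨ ⟪θ, a⟫ = -1 := by
  obtain ⟨s, ε, -, h1, h0, e, -⟩ := h.exists_signed_sum hm h3
  obtain ⟨d, χ, hd, hχ, rfl⟩ := ha.exists_sign
  rw [classInner_smul_right, e ⟨χ, hχ⟩]
  by_cases k : (⟨χ, hχ⟩ : IrrCharacter G) ∈ s
  · rcases h1 _ k with k | k <;> rcases hd with rfl | rfl <;> simp [k]
  · simp [h0 _ k]

theorem inner_np (t : G) (ha : SIrr G a) :
    ⟪a, fun x => np t x⟫ * Nat.card G * a 1 = C1[t].index ^ 2 * a t ^ 2 := by
  classical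
  obtain ⟨d, χ, hd, hχ, rfl⟩ := ha.exists_sign
  have e : (fun x => (np t x : ℂ)) = ∑ ψ : IrrCharacter G,
      conj (C1[t].index ^ 2 * (ψ.1 t * ψ.1 t / ψ.1 1) / Nat.card G) • ψ.1 := by
    funext x
    rw [← Complex.conj_natCast, np, (eq_div_iff (natCard_ne_zero G)).2 (card_class_pairs t t x), Finset.mul_sum,
      Finset.sum_div, map_sum, Finset.sum_apply]
    refine Finset.sum_congr rfl fun ψ _ => ?_
    rw [Pi.smul_apply, smul_eq_mul, ← Complex.conj_conj (ψ.1 x), ← map_mul, Complex.conj_conj]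
    congr 1; ring
  rw [classInner_smul_left, e, classInner_sum_right, Finset.sum_eq_single ⟨χ, hχ⟩ (fun ψ _ n => by
    rw [classInner_smul_right, hχ.classInner_of_ne ψ.2 fun e => n (Subtype.ext e.symm), mul_zero]) (by simp),
    classInner_smul_right, hχ.classInner_self, Complex.conj_conj]
  have := natCard_ne_zero G
  have := hχ.apply_one_ne_zero
  simp only [Pi.smul_apply, smul_eq_mul]
  field_simp

theorem vanish_of_orth {A : Type*} [Group A] [Fintype A] (hc : ∀ a b : A, a * b = b * a) {f : A → ℂ}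
    (h : ∀ l : A →* ℂˣ, ⟪(fun _ => 1) - fun y => (l y : ℂ), f⟫ = 0) {y : A} (hy : y ≠ 1) : f y = 0 := by
  classical
  have := congrFun (eq_zero_of_orth_unitsHom hc (f := f - ⟪f, fun _ => 1⟫ • fun y => if y = 1 then (Nat.card A : ℂ) else 0)
    fun l => by
      have h1 := classInner_eq_zero_comm.1 (h l)
      rw [classInner_sub_right, sub_eq_zero] at h1
      rw [classInner_sub_left, classInner_smul_left, ← h1, sub_eq_zero, classInner, classInner]
      simp [inv_mul_cancel₀ (natCard_ne_zero A), -Nat.card_eq_fintype_card]) y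
  simpa [hy] using this

theorem bw_arith {n k m : ℤ} (hn : Odd n) (h : n * m ^ 2 = 2 * (m * k + 1) * (m * k + 2)) : m = 2 ∨ m = -2 := by
  have d : m ∣ 4 := ⟨n * m - 2 * m * k ^ 2 - 6 * k, by linear_combination -h⟩
  obtain ⟨j, rfl⟩ := hn
  have h1 := Int.le_of_dvd (by norm_num) d
  have h2 := Int.le_of_dvd (by norm_num) (neg_dvd.2 d)
  obtain ⟨u, hu⟩ : ∃ u, u = k ^ 2 := ⟨_, rfl⟩
  have h3 : (2 * j + 1) * m ^ 2 = 2 * m ^ 2 * u + 6 * m * k + 4 := by rw [hu]; linear_combination h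
  have h4 : -4 ≤ m := by omega
  interval_cases m <;> omega

/-- the generalized character `(1 - l)^G - 1` -/
noncomputable def bt (K : Subgroup G) (l : K →* ℂˣ) : G → ℂ :=
  indFun K ((fun _ => 1) - fun y => (l y : ℂ)) - fun _ => 1

theorem bt_gen (l : K →* ℂˣ) : IsGeneralizedCharacter G (bt K l) :=
  (isGen_one.sub (isIrr_of_unitsHom l).isGen).ind.sub isGen_one

theorem bt_one (l : K →* ℂˣ) : bt K l 1 = -1 := by simp [bt, indFun_apply_one]

theorem bt_out (l : K →* ℂˣ) (h1 : x ≠ 1) (hx : x ∉ Cls K) : bt K l x = -1 := by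
  simp [bt, indFun_eq_zero_of_not_conj _ fun g e => hx ⟨h1, g⁻¹, by rwa [inv_inv]⟩]

open Classical in
theorem inner_uh {A : Type*} [Group A] [Fintype A] (l m : A →* ℂˣ) :
    ⟪fun y => (l y : ℂ), fun y => (m y : ℂ)⟫ = if l = m then 1 else 0 := by
  rw [(isIrr_of_unitsHom l).classInner_eq_ite (isIrr_of_unitsHom m)]
  exact if_congr ⟨fun e => MonoidHom.ext fun y => Units.ext (congrFun e y), fun e => by rw [e]⟩ rfl rfl

variable [Fintype K]

theorem inner_bt (l : K →* ℂˣ) (ha : IsClassFunction G a) :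
    ⟪bt K l, a⟫ = ⟪(fun _ => 1) - fun y => (l y : ℂ), fun y : K => a y⟫ - ⟪fun _ => 1, a⟫ := by
  rw [bt, classInner_sub_left, classInner_indFun_left _ ha]

theorem bt_inner_one {l : K →* ℂˣ} (h : l ≠ 1) : ⟪bt K l, fun _ => 1⟫ = 0 := by
  have := inner_uh l 1
  rw [inner_bt _ (isClassFunction_const 1), classInner_sub_left, isIrr_one.classInner_self,
    isIrr_one.classInner_self, (show ⟪fun y => (l y : ℂ), fun _ => 1⟫ = 0 by simpa [h] using this)]
  simp

namespace BW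
variable (h : BW t s K)
include h

theorem ind_apply {θ : K → ℂ} (h1 : θ 1 = 0) (y : K) : indFun K θ y = θ y + θ y⁻¹ := by
  classical
  by_cases y1 : y = 1
  · simp [y1, indFun_apply_one, h1]
  have e (x : G) : extendByZero K θ (x * y * x⁻¹) =
      (if x ∈ K then θ y else 0) + if x * s ∈ K then θ y⁻¹ else 0 := by
    by_cases a : x ∈ K
    · rw [if_pos a, if_neg fun e => h.out_not e a, h.ab x a y y.2, mul_inv_cancel_right, extendByZero_coe, add_zero]
    by_cases b : x * s ∈ K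
    · rw [if_neg a, if_pos b, h.out_inv b y.2, zero_add]; exact extendByZero_coe θ y⁻¹
    · rw [if_neg a, if_neg b, add_zero, extendByZero_of_not_mem _ fun e =>
        (h.gd y.2 (fun e => y1 (Subtype.ext e)) e).elim a b]
  have e2 (c : ℂ) : ∑ x : G, (if x ∈ K then c else 0) = Nat.card K * c := by
    rw [← Finset.sum_filter, ← sum_subgroup_eq]; simp
  rw [indFun_apply', Finset.sum_congr rfl fun x _ => e x, Finset.sum_add_distrib, e2,
    (show ∑ x, (if x * s ∈ K then θ y⁻¹ else 0) = _ from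
      Equiv.sum_comp (Equiv.mulRight s) fun x => if x ∈ K then θ y⁻¹ else 0), e2]
  have := natCard_ne_zero K
  field_simp

theorem bt_apply (l : K →* ℂˣ) (y : K) : bt K l y = 1 - l y - l⁻¹ y := by
  rw [bt, Pi.sub_apply, h.ind_apply (by simp)]
  simp; ring

open Classical in
theorem bt_bt {l m : K →* ℂˣ} (hl : l ≠ 1) (hm : m ≠ 1) :
    ⟪bt K l, bt K m⟫ = 1 + (if l = m then 1 else 0) + if l = m⁻¹ then 1 else 0 := by
  have e : (fun y : K => bt K m y) =
      (fun y => ((1 : K →* ℂˣ) y : ℂ)) - (fun y => (m y : ℂ)) - fun y => (m⁻¹ y : ℂ) := funext (h.bt_apply m)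
  rw [inner_bt _ (bt_gen m).isClassFunction, classInner_eq_zero_comm.1 (bt_inner_one hm), e]
  change ⟪(fun y => ((1 : K →* ℂˣ) y : ℂ)) - _, _⟫ - 0 = _
  simp only [classInner_sub_left, classInner_sub_right, inner_uh]
  simp [hl, hm.symm, (show 1 ≠ m⁻¹ from fun e => hm (by rw [← uh_mul_inv_cancel m, ← e, uh_mul_one]))]

theorem bt_np {l : K →* ℂˣ} (hl : l ≠ 1) :
    ⟪bt K l, fun x => np t x⟫ + ⟪fun _ => 1, fun x => np t x⟫ = o[K] := by
  have e : ⟪(fun _ => 1) - fun y => (l y : ℂ), fun y : K => (np t y : ℂ)⟫ =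
      ⟪(fun _ => 1) - fun y => (l y : ℂ), (o[K] : ℂ) • fun _ => 1⟫ := by
    unfold classInner
    refine congrArg _ (Finset.sum_congr rfl fun y _ => ?_)
    by_cases y1 : y = 1
    · simp [y1]
    · simp [h.np_K y.2 fun e => y1 (Subtype.ext e)]
  have := inner_uh l 1
  rw [inner_bt _ fun g x => by rw [np_conj], sub_add_cancel, e, classInner_smul_right, classInner_sub_left,
    isIrr_one.classInner_self, (show ⟪fun y => (l y : ℂ), fun _ => 1⟫ = 0 by simpa [hl] using this)]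
  simp

theorem dual : ∃ n : K →* ℂˣ, (∀ l : K →* ℂˣ, l = l⁻¹ → l = 1 ∨ l = n) ∧ (2 < o[K] → ∃ l : K →* ℂˣ, l ≠ l⁻¹) := by
  letI : CommGroup K := { (inferInstance : Group K) with mul_comm a b := Subtype.ext (h.ab _ a.2 _ b.2) }
  have : NeZero (Monoid.exponent K : ℂ) := ⟨Nat.cast_ne_zero.2 Monoid.exponent_ne_zero_of_finite⟩
  obtain ⟨e⟩ := CommGroup.monoidHom_mulEquiv_of_hasEnoughRootsOfUnity K ℂ
  refine ⟨e.symm ⟨t, h.tK⟩, fun l hl => ?_, fun h2 => ?_⟩
  · rcases h.uni _ (e l).2 (by rw [← coe_mul, ← map_mul, eq_inv_iff_mul_eq_one.1 hl, map_one, coe_one]) with k | k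
    · exact .inl (e.map_eq_one_iff.1 (Subtype.ext k))
    · exact .inr (e.eq_symm_apply.2 (Subtype.ext k))
  · by_contra! k
    refine h2.not_ge (le_of_le_of_eq (card_le_of_le (K := zpowers t) fun y hy => ?_) (by rw [Nat.card_zpowers, h.ot]))
    have := congrArg e (eq_inv_iff_mul_eq_one.1 (k (e.symm ⟨y, hy⟩)))
    rw [map_mul, e.apply_symm_apply, map_one] at this
    rcases h.uni y hy (congrArg Subtype.val this) with rfl | rfl
    exacts [one_mem _, mem_zpowers _]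

theorem sq_t (l : K →* ℂˣ) : l⁻¹ ⟨t, h.tK⟩ = l ⟨t, h.tK⟩ ∧ ((l ⟨t, h.tK⟩ : ℂ) = 1 ∨ (l ⟨t, h.tK⟩ : ℂ) = -1) := by
  have : l ⟨t, h.tK⟩ * l ⟨t, h.tK⟩ = 1 := by
    rw [← map_mul, (show (⟨t, h.tK⟩ * ⟨t, h.tK⟩ : K) = 1 from Subtype.ext (inv_mul_self h.ot)), map_one]
  exact ⟨inv_eq_of_mul_eq_one_right this, mul_self_eq_one_iff.1 (by rw [← Units.val_mul, this, Units.val_one])⟩

theorem norm2 {l : K →* ℂˣ} (hl : l ≠ l⁻¹) : ⟪bt K l, bt K l⟫ = 2 := by
  have : l ≠ 1 := fun e => hl (by rw [e]; ext; simp)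
  rw [h.bt_bt this this, if_pos rfl, if_neg hl]; norm_num

theorem coef {l : K →* ℂˣ} (hl : l ≠ 1) (ha : SIrr G a) :
    ⟪bt K l, a⟫ = 0 ∨ ⟪bt K l, a⟫ = 1 ∨ ⟪bt K l, a⟫ = -1 := by
  by_cases e : l = l⁻¹
  · exact gen_coef (bt_gen l) (m := 3) (by rw [h.bt_bt hl hl, if_pos rfl, if_pos e]; norm_num) le_rfl ha
  · exact gen_coef (bt_gen l) (m := 2) (h.norm2 e) (by norm_num) ha

theorem sirr_sub {l : K →* ℂˣ} (hl : l ≠ l⁻¹) (ha : SIrr G a) (e : ⟪bt K l, a⟫ = 1) : SIrr G (bt K l - a) :=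
  ((bt_gen l).sub ha.isGen).sIrr (by
    rw [classInner_sub_left, classInner_sub_right, classInner_sub_right, h.norm2 hl, e,
      ha.isGen.classInner_comm (bt_gen l), e, ha.classInner_self]; norm_num)

theorem good {l : K →* ℂˣ} (hl : l ≠ l⁻¹) : ∃ a, SIrr G a ∧ ⟪a, fun _ => 1⟫ = 0 ∧ ∀ m, m ≠ 1 → ⟪bt K m, a⟫ = 1 := by
  classical
  have n1 {l : K →* ℂˣ} (hl : l ≠ l⁻¹) : l ≠ 1 := fun e => hl (by rw [e]; ext; simp)
  obtain ⟨a, b, ha, hb, hab, e⟩ := gen_split (bt_gen l) (h.norm2 hl)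
  have o (a b : G → ℂ) (ha : SIrr G a) (hb : SIrr G b) (hab : ⟪a, b⟫ = 0) (e : bt K l = a + b) :
      ⟪a, fun _ => 1⟫ = 0 := by
    by_contra k
    have h1 := bt_inner_one (n1 hl)
    rw [(ha.eq_smul isIrr_one.sIrr k).2, classInner_smul_left, mul_eq_zero, or_iff_right k,
      classInner_eq_zero_comm] at hab
    rw [e, classInner_add_left, hab, add_zero] at h1
    exact k h1
  have pick (a b : G → ℂ) (ha : SIrr G a) (hb : SIrr G b) (e : bt K l = a + b) (m : K →* ℂˣ) (hm : m ≠ 1)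
      (k : ⟪bt K m, a⟫ ≠ 1) : ⟪bt K m, a⟫ = 0 ∧ ⟪bt K m, b⟫ = 1 ∧ m ≠ l ∧ m ≠ l⁻¹ := by
    have h1 := h.bt_bt hm (n1 hl)
    rw [e, classInner_add_right] at h1
    rcases (h.coef hm ha) with h2 | h2 | h2 <;> rcases (h.coef hm hb) with h3 | h3 | h3 <;> rw [h2, h3] at h1 <;>
      split_ifs at h1 <;> first | exact absurd h2 k | exact ⟨h2, h3, ‹_›, ‹_›⟩ | norm_num at h1
  have nn (a b : G → ℂ) (ha : SIrr G a) (hb : SIrr G b) (hab : ⟪a, b⟫ = 0) (e : bt K l = a + b) (m n : K →* ℂˣ)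
      (hm : m ≠ m⁻¹) (hn : n ≠ n⁻¹) (m1 : ⟪bt K m, a⟫ = 1) (m0 : ⟪bt K m, b⟫ = 0) (n0 : ⟪bt K n, a⟫ = 0)
      (n2 : ⟪bt K n, b⟫ = 1) : False := by
    have h1 := h.bt_bt (n1 hm) (n1 hn)
    have h2 := (h.sirr_sub hm ha m1).classInner_cases (h.sirr_sub hn hb n2)
    have h3 := (h.sirr_sub hm ha m1).eq_of_classInner_eq_one (h.sirr_sub hn hb n2)
    rw [classInner_sub_left, classInner_sub_right, classInner_sub_right, m0, hab,
      ha.isGen.classInner_comm (bt_gen n), n0, h1] at h2 h3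
    have h4 := congrFun (h3 (by split_ifs at h2 ⊢ <;> first | (norm_num at h2; done) | norm_num)) 1
    have h5 := congrFun e 1
    obtain ⟨i, hi⟩ := ha.isGen.exists_int_apply_one
    simp only [Pi.sub_apply, Pi.add_apply, bt_one, hi] at h4 h5
    have : (2 * i + 1 : ℂ) = 0 := by linear_combination -h4 - h5
    norm_cast at this
    omega
  obtain ⟨n0, u, -⟩ := h.dual
  have bad (a b : G → ℂ) (ha : SIrr G a) (hb : SIrr G b) (hab : ⟪a, b⟫ = 0) (e : bt K l = a + b) (m n : K →* ℂˣ)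
      (hm : m ≠ m⁻¹) (hn : n ≠ 1) (m1 : ⟪bt K m, a⟫ = 1) (m0 : ⟪bt K m, b⟫ = 0) (n0 : ⟪bt K n, a⟫ = 0)
      (n2 : ⟪bt K n, b⟫ = 1) (m2 : m ≠ l) (m3 : m ≠ l⁻¹) : False := by
    have hn' : n = n⁻¹ := by_contra fun k => nn a b ha hb hab e m n hm k m1 m0 n0 n2
    have un (k : K →* ℂˣ) (hk : k = k⁻¹) : k = 1 ∨ k = n :=
      (u k hk).imp id fun e => e.trans ((u n hn').resolve_left hn).symm
    have al (k : K →* ℂˣ) (hk : k ≠ k⁻¹) : ⟪bt K k, a⟫ = 1 := by_contra fun j =>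
      let ⟨j1, j2, _⟩ := pick a b ha hb e k (n1 hk) j
      nn a b ha hb hab e m k hm hk m1 m0 j1 j2
    have v := vanish_of_orth (fun a b : K => Subtype.ext (h.ab _ a.2 _ b.2))
      (f := (fun y : K => a y) - (fun y => ((1 : K →* ℂˣ) y : ℂ)) - fun y => (n y : ℂ)) (y := ⟨t, h.tK⟩) (fun k => by
        have := inner_bt k ha.isClassFunction
        rw [classInner_eq_zero_comm.1 (o a b ha hb hab e), sub_zero] at this
        rw [classInner_sub_right, classInner_sub_right, ← this]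
        change _ - ⟪(fun y => ((1 : K →* ℂˣ) y : ℂ)) - _, _⟫ - ⟪(fun y => ((1 : K →* ℂˣ) y : ℂ)) - _, _⟫ = 0
        simp only [classInner_sub_left, inner_uh]
        by_cases hk : k = k⁻¹
        · rcases un k hk with rfl | rfl
          · rw [this]; simp [classInner]
          · simp [n0, hn, hn.symm]
        · simp [al k hk, n1 hk, hn.symm, (show k ≠ n from fun e => hk (e ▸ hn'))])
      fun e => inv_ne_one h.ot (congrArg Subtype.val e)
    have w (k : K →* ℂˣ) (hk : k ≠ k⁻¹) : (⟪bt K l, fun x => np t x⟫ - ⟪a, fun x => np t x⟫) * Nat.card G *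
        (-1 - a 1) = C1[t].index ^ 2 * (2 * k ⟨t, h.tK⟩ + n ⟨t, h.tK⟩) ^ 2 := by
      have h1 := inner_np t (h.sirr_sub hk ha (al k hk))
      have h2 := h.bt_apply k ⟨t, h.tK⟩
      rw [(h.sq_t k).1] at h2
      simp only [Pi.sub_apply, MonoidHom.one_apply, Units.val_one] at v
      rw [classInner_sub_left, eq_sub_of_add_eq (h.bt_np (n1 hk)), ← eq_sub_of_add_eq (h.bt_np (n1 hl)),
        Pi.sub_apply, Pi.sub_apply, bt_one, h2] at h1
      rw [h1, (show a t = 1 + n ⟨t, h.tK⟩ by linear_combination v)]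
      ring
    have w' (k : K →* ℂˣ) (hk : k ≠ k⁻¹) : (k ⟨t, h.tK⟩ : ℂ) = l ⟨t, h.tK⟩ := by
      have := mul_left_cancel₀ (pow_ne_zero 2 (Nat.cast_ne_zero.2 index_ne_zero_of_finite))
        ((w k hk).symm.trans (w l hl))
      rcases (h.sq_t k).2 with h1 | h1 <;> rcases (h.sq_t l).2 with h2 | h2 <;> rcases (h.sq_t n).2 with h3 | h3 <;>
        rw [h1, h2, h3] at this <;> first | exact h1.trans h2.symm | norm_num at this
    obtain ⟨ω, -, hω⟩ := exists_unitsHom_of_not_mem (N := (⊥ : Subgroup K)) (v := ⟨t, h.tK⟩)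
      (fun a b => mem_bot.2 (by rw [(show a * b = b * a from Subtype.ext (h.ab _ a.2 _ b.2))]; group))
      fun e => inv_ne_one h.ot (congrArg Subtype.val (mem_bot.1 e))
    have r (k : K →* ℂˣ) (hk : k ≠ k⁻¹) : k * ω = 1 ∨ k * ω = n := un _ (by_contra fun j => hω (by
      have := (w' _ j).trans (w' k hk).symm
      rw [Units.val_inj, MonoidHom.mul_apply, mul_eq_left] at this
      exact this))
    rcases r l hl with h1 | h1 <;> rcases r l⁻¹ (fun e => hl (e.trans (inv_inv l)).symm) with h2 | h2 <;>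
      rcases r m hm with h3 | h3 <;> first
      | exact hl (mul_right_cancel (h1.trans h2.symm))
      | exact m2 (mul_right_cancel (h3.trans h1.symm))
      | exact m3 (mul_right_cancel (h3.trans h2.symm))
  by_contra! k
  obtain ⟨n, n2, hn⟩ := k a ha (o a b ha hb hab e)
  have hba := classInner_eq_zero_comm.1 hab
  have e' := e.trans (add_comm a b)
  obtain ⟨m, m2, hm⟩ := k b hb (o b a hb ha hba e')
  obtain ⟨p1, p2, p3, p4⟩ := pick a b ha hb e n n2 hn
  obtain ⟨q1, q2, q3, q4⟩ := pick b a hb ha e' m m2 hm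
  by_cases j : m = m⁻¹
  · refine bad b a hb ha hba e' n m (fun i => ?_) m2 p2 p1 q1 q2 p3 p4
    rw [((u n i).resolve_left n2).trans ((u m j).resolve_left m2).symm, q2] at p1
    exact one_ne_zero p1
  · exact bad a b ha hb hab e m n j n2 q2 q1 p1 p2 q3 q4

omit [Fintype K] in
theorem chars (h2 : 2 < o[K]) : ∃ (δ : ℤ) (a b : G → ℂ), (δ = 1 ∨ δ = -1) ∧ SIrr G a ∧ SIrr G b ∧
    (C1[t].index : ℤ) = (2 * o[K] + δ) * (o[K] + δ) ∧ a 1 = δ * (2 * o[K] + δ) ∧ b 1 = -2 * δ * (o[K] + δ) ∧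
    ⟪a, fun _ => 1⟫ = 0 ∧ (∀ x ∈ Cls K, a x = 1) ∧ ∀ x, x ≠ 1 → x ∉ Cls K → a x + b x = -1 := by
  classical
  obtain ⟨l, hl⟩ := h.dual.choose_spec.2 h2
  have l1 : l ≠ 1 := fun e => hl (by rw [e]; ext; simp)
  obtain ⟨a, ha, a0, a1⟩ := h.good hl
  have hb := h.sirr_sub hl ha (a1 l l1)
  have v (y : K) (hy : y ≠ 1) : ((fun y : K => a y) - fun _ => 1 : K → ℂ) y = 0 :=
    vanish_of_orth (fun a b : K => Subtype.ext (h.ab _ a.2 _ b.2)) (fun k => by
      have := inner_bt k ha.isClassFunction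
      rw [classInner_eq_zero_comm.1 a0, sub_zero] at this
      rw [classInner_sub_right, ← this]
      change _ - ⟪(fun y => ((1 : K →* ℂˣ) y : ℂ)) - _, fun y => ((1 : K →* ℂˣ) y : ℂ)⟫ = 0
      simp only [classInner_sub_left, inner_uh]
      by_cases hk : k = 1
      · rw [this]; simp [classInner, hk]
      · simp [a1 k hk, hk]) hy
  obtain ⟨m, hm⟩ := ((ha.isGen.restrict K).sub isGen_one).exists_eq_mul_card v
  have v' (x : G) (hx : x ∈ Cls K) : a x = 1 := by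
    obtain ⟨x1, g, hg⟩ := hx
    rw [← ha.isClassFunction x g]
    exact sub_eq_zero.1 (v ⟨_, hg⟩ fun e => conj_ne_one g x1 (congrArg Subtype.val e))
  have at1 := v' t (h.cls_inv h.ot)
  have f1 : a 1 = m * o[K] + 1 := eq_add_of_sub_eq hm
  have e1 := inner_np t ha
  have e2 := inner_np t hb
  have e3 := inner_np t (isIrr_one (G := G)).sIrr
  have e4 := h.bt_np l1
  have e5 := h.bt_apply l ⟨t, h.tK⟩
  have e6 : (Nat.card G : ℂ) = o[K] * 2 * C1[t].index := by rw [← C1[t].card_mul_index, h.cardC]; push_cast; rfl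
  have e7 : (l ⟨t, h.tK⟩ : ℂ) ^ 2 = 1 := by rcases (h.sq_t l).2 with k | k <;> rw [k] <;> norm_num
  rw [(h.sq_t l).1] at e5
  rw [classInner_sub_left, Pi.sub_apply, Pi.sub_apply, bt_one, e5] at e2
  rw [at1, f1, e6] at e1 e2
  rw [e6] at e3
  have e8 : (C1[t].index * m ^ 2 : ℂ) = 2 * (m * o[K] + 1) * (m * o[K] + 2) := by
    refine mul_left_cancel₀ (a := (C1[t].index * o[K] ^ 2 : ℂ)) (mul_ne_zero (Nat.cast_ne_zero.2 index_ne_zero_of_finite)
      (pow_ne_zero 2 (natCard_ne_zero K))) ?_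
    linear_combination (-(m * o[K] + 2)) * e1 + (m * o[K] + 1) * e2 - (m * o[K] + 1) * (m * o[K] + 2) * e3 +
      (o[K] * 2 * C1[t].index * (m * o[K] + 1) * (m * o[K] + 2)) * e4 + 4 * C1[t].index ^ 2 * (m * o[K] + 1) * e7
  have e9 : (C1[t].index * m ^ 2 : ℤ) = 2 * (m * o[K] + 1) * (m * o[K] + 2) := by exact_mod_cast e8
  have r (x : G) (x1 : x ≠ 1) (hx : x ∉ Cls K) : a x + (bt K l - a) x = -1 := by simp [bt_out l x1 hx]
  rcases bw_arith (Odd.natCast h.odd_index) e9 with rfl | rfl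
  · exact ⟨1, a, _, .inl rfl, ha, hb, by linarith, by rw [f1]; push_cast; ring,
      by rw [Pi.sub_apply, bt_one, f1]; push_cast; ring, a0, v', r⟩
  · exact ⟨-1, a, _, .inr rfl, ha, hb, by linarith, by rw [f1]; push_cast; ring,
      by rw [Pi.sub_apply, bt_one, f1]; push_cast; ring, a0, v', r⟩

end BW

end CfsgL0
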