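import Cfsg.Agent.L0.BW2
import Cfsg.Agent.H1.Misc1
import Cfsg.Agent.H2.Frob

/-! The Brauer–Suzuki–Wall theorem: counting elements. -/

namespace CfsgL0
open Function Subgroup Cfsg CfsgH2 CfsgH8 CfsgH3
open scoped commutatorElement

variable {G : Type*} [Group G] {t s g x y u v : G} {K A Q L R : Subgroup G} {p q l : ℕ}

/-- elements of order not prime to `m` -/
def PE (G : Type*) [Group G] (m : ℕ) : Set G := {x | ∃ p, p.Prime ∧ p ∣ m ∧ p ∣ orderOf x}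

theorem PE.ne_one (h : x ∈ PE G q) : x ≠ 1 := by
  rintro rfl
  obtain ⟨p, hp, -, d⟩ := h
  exact hp.not_dvd_one (orderOf_one (G := G) ▸ d)

theorem PE.conj (h : x ∈ PE G q) (e : IsConj x y) : y ∈ PE G q := by
  obtain ⟨g, rfl⟩ := isConj_iff.1 e
  obtain ⟨p, hp, a, d⟩ := h
  exact ⟨p, hp, a, (orderOf_conj g x).symm ▸ d⟩

theorem PE.of (h1 : x ≠ 1) (h : orderOf x ∣ q) : x ∈ PE G q :=
  let ⟨p, hp, d⟩ := Nat.exists_prime_and_dvd (mt orderOf_eq_one_iff.1 h1)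
  ⟨p, hp, d.trans h, d⟩

theorem sum_ind {S : Type*} [Semiring S] [Fintype G] (X : Set G) [DecidablePred (· ∈ X)] (c : S) :
    ∑ x, (if x ∈ X then c else 0) = X.ncard * c := by
  rw [← Finset.sum_filter, Finset.sum_const, nsmul_eq_mul, Set.ncard_eq_toFinset_card' X]
  simp

theorem sirr_zero [Finite G] {a : G → ℂ} (ha : SIrr G a) {d : ℕ} (hd : a 1 ^ 2 = d ^ 2) (hp : p.Prime)
    (h : ¬ p ∣ Nat.card G / d) (hx : p ∣ orderOf x) : a x = 0 := by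
  obtain ⟨e, χ, he, hχ, rfl⟩ := ha.exists_sign
  obtain ⟨m, -, hm⟩ := hχ.exists_pos_apply_one
  have : (m : ℂ) ^ 2 = d ^ 2 := by rcases he with rfl | rfl <;> simpa [hm] using hd
  obtain rfl : m = d := Nat.pow_left_injective two_ne_zero (by exact_mod_cast this)
  rw [Pi.smul_apply, hχ.eq_zero_of_defect_zero hp hm h hx, smul_zero]

variable [Finite G]

theorem conj_into [Fact p.Prime] (h : ¬ p ∣ A.index) (hR : PG[p, R]) : ∃ g, R.map (CfsgH2.cj g) ≤ A := by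
  obtain ⟨S, hS⟩ := exists_syl (p := p) A
  obtain ⟨g, -, hg⟩ := (hS.trans le_top (by rwa [relIndex_top_right])).exists_conj_le hR le_top
  exact ⟨g, hg.trans hS.le⟩

theorem gd_der (hp : p.Prime) (ab : ∀ a ∈ A, ∀ b ∈ A, a * b = b * a)
    (gd : ∀ g, ∀ a ∈ A, a ≠ 1 → g * a * g⁻¹ ∈ A → g * g ∈ A) (h : ¬ p ∣ A.index) (o : ¬ 2 ∣ o[L]) :
    ¬ p ∣ o[(⁅L, L⁆ : Subgroup G)] := fun d => by
  have := Fact.mk hp
  obtain ⟨F, hF⟩ := exists_syl (p := p) L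
  obtain ⟨g, hg⟩ := conj_into h hF.pg
  have k (n : G) (h1 : n ∈ L) (h2 : n ∈ N[F]) (a : G) (ha : a ∈ F) : a * n = n * a := by
    by_cases a1 : a = 1
    · simp [a1]
    have m (a : G) (ha : a ∈ F) : g * a * g⁻¹ ∈ A := hg ⟨a, ha, rfl⟩
    have := mem_of_pow_mem_coprime (H := A) (x := g * n * g⁻¹) (n := 2) (by
      rw [pow_two]
      exact gd (g * n * g⁻¹) _ (m a ha) (conj_ne_one g a1) (by
        convert m _ (conj_mem_of_norm h2 ha) using 1; group)) (by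
      rw [orderOf_conj]
      exact (coprime_iff_not_dvd Nat.prime_two).2 fun e => o (e.trans (L.orderOf_dvd_natCard h1)))
    have := ab _ (m a ha) _ this
    rwa [conj_mul, conj_mul, mul_left_inj, mul_right_inj] at this
  have e := hF.focal_abelian ⟨⟨fun a b => Subtype.ext (k _ (hF.le b.2) (le_normalizer b.2) _ a.2)⟩⟩
  rw [(commutator_eq_bot_iff_le_centralizer (H₁ := F) (H₂ := L ⊓ N[F])).2 fun a ha =>
    mem_centralizer_iff.2 fun n hn => (k n hn.1 hn.2 a ha).symm, inf_comm] at e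
  exact (hF.inf_norm (comm_le_left le_normalizer) (hF.le.trans le_norm_comm_left)).ne_bot d e

theorem cc_cls (h : CC A) (e : o[A] = q) : Cls A = PE G q :=
  Set.Subset.antisymm (fun _ hx => .of hx.1 (e ▸ cls_orderOf_dvd hx)) fun _ ⟨_, hp, a, b⟩ =>
    h.mem_cls_of_prime hp (e ▸ a) b

theorem cc_fpf (h : CC Q) (hu : u ∉ Q) : Q ⊓ C1[u] = ⊥ := eq_bot_iff.2 fun y ⟨a, b⟩ => by_contra fun y1 =>
  hu (h.mem_of_comm a y1 (mem_centralizer_singleton_iff.1 b).symm)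

theorem cc_mul (h : CC Q) (o : ¬ 2 ∣ o[Q]) (h0 : Q ≠ ⊥) (hu : orderOf u = 2) (hv : orderOf v = 2) (nu : u ∈ N[Q])
    (nv : v ∈ N[Q]) : u * v ∈ Q := by
  obtain ⟨⟨y, hy⟩, y1⟩ := ne_bot_iff_exists_ne_one.1 h0
  have i {u : G} (hu : orderOf u = 2) (nu : u ∈ N[Q]) {y : G} (hy : y ∈ Q) := CfsgH1.inv_of_fpf_involution nu
    (cc_fpf h fun e => o (hu ▸ Q.orderOf_dvd_natCard e)) (inv_mul_self hu) hy
  refine h.mem_of_comm hy (fun e => y1 (Subtype.ext e)) (mul_inv_eq_iff_eq_mul.1 ?_)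
  calc _ = u * (v * y * v⁻¹) * u⁻¹ := by group
    _ = _ := by rw [i hv nv hy, i hu nu (inv_mem hy), inv_inv]

theorem le_norm_of (hy : y ∈ N[Q]) (f : Q ⊓ C1[y] = ⊥) (c : ∀ n ∈ N[Q], n * y * n⁻¹ * y⁻¹ ∈ Q)
    (l : N[Q] ⊓ C1[y] ≤ A) (e : o[N[Q]] = o[Q] * o[A]) : A ≤ N[Q] := by
  have h1 : N[Q] ≤ Q ⊔ N[Q] ⊓ C1[y] := fun n hn => by
    obtain ⟨x, hx, e⟩ := CfsgH1.exists_conj_of_fpf hy f (c n hn)
    rw [← mul_inv_cancel_left x n]
    refine mul_mem (mem_sup_left hx) (mem_sup_right ⟨mul_mem (le_normalizer (inv_mem hx)) hn,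
      mem_centralizer_singleton_iff.2 ?_⟩)
    calc _ = x⁻¹ * (n * y * n⁻¹ * y⁻¹ * y) * n := by group
      _ = _ := by rw [← e]; group
  have h2 := (card_le_of_le h1).trans (Nat.le_of_dvd (Nat.mul_pos Nat.card_pos Nat.card_pos)
    (card_sup_dvd (.inr inf_le_left)))
  rw [e] at h2
  exact eq_of_le_of_card_ge l (Nat.le_of_mul_le_mul_left h2 Nat.card_pos) ▸ inf_le_left

/-- the conclusion of the theorem -/
def BWC (Q D : Subgroup G) : Prop :=
  2 * Nat.card G = o[Q] * (o[Q] + 1) * (o[Q] - 1) ∧ CC Q ∧ Ab[D] ∧ 2 * o[D] + 1 = o[Q] ∧ Q ⊓ D = ⊥ ∧ N[Q] = Q ⊔ D ∧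
    ∀ X : Subgroup G, X ≤ D → X ≠ ⊥ → N[X] = N[D] ∧
      ∃ u : G, orderOf u = 2 ∧ u ∉ D ∧ (∀ d ∈ D, u * d * u⁻¹ = d⁻¹) ∧ N[D] = D ⊔ zpowers u

theorem bwc_of (c : 2 * Nat.card G = o[Q] * (o[Q] + 1) * (o[Q] - 1)) (hQ : CC Q)
    (ab : ∀ a ∈ A, ∀ b ∈ A, a * b = b * a) (e : 2 * o[A] + 1 = o[Q]) (l : A ≤ N[Q]) (n : o[N[Q]] = o[Q] * o[A])
    (h : A ≠ ⊥ → ∃ u, orderOf u = 2 ∧ u ∉ A ∧ (∀ d ∈ A, u * d * u⁻¹ = d⁻¹) ∧ ∀ X ≤ A, X ≠ ⊥ → N[X] = A ⊔ zpowers u) :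
    BWC Q A := by
  have d : Q ⊓ A = ⊥ := inf_eq_bot_of_coprime' (by rw [← e]; simp)
  refine ⟨c, hQ, ⟨⟨fun a b => Subtype.ext (ab _ a.2 _ b.2)⟩⟩, e, d, (eq_of_le_of_card_ge (sup_le le_normalizer l)
    (by rw [card_sup_of_disj (.inr l) d, n])).symm, fun X hX h0 => ?_⟩
  have h1 : A ≠ ⊥ := fun e => h0 (le_bot_iff.1 (e ▸ hX))
  obtain ⟨u, h2, h3, h4, h5⟩ := h h1
  exact ⟨(h5 X hX h0).trans (h5 A le_rfl h1).symm, u, h2, h3, h4, h5 A le_rfl h1⟩

structure BC (t : G) (K : Subgroup G) (q l : ℕ) : Prop where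
  n : C1[t].index = q * l
  c1 : q.Coprime (o[K] * 2)
  c2 : l.Coprime (o[K] * 2)
  c3 : q.Coprime l

omit [Finite G] in
theorem BC.symm (h : BC t K q l) : BC t K l q := ⟨h.n.trans (mul_comm _ _), h.c2, h.c1, h.c3.symm⟩

omit [Finite G] in
theorem BC.of (n : C1[t].index = q * l) (ev : 2 ∣ o[K])
    (c : q = 2 * o[K] + 1 ∧ l = o[K] + 1 ∨ q + 1 = 2 * o[K] ∧ l + 1 = o[K]) : BC t K q l := by
  obtain ⟨j, hj⟩ := ev
  rw [hj] at c
  refine ⟨n, ?_, ?_, ?_⟩ <;> try rw [hj]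
  all_goals rw [← Nat.isCoprime_iff_coprime]; rcases c with ⟨a, b⟩ | ⟨a, b⟩ <;> zify at a b
  · exact ⟨1, -1, by push_cast; omega⟩
  · exact ⟨-1, 1, by push_cast; omega⟩
  · exact ⟨1 - 2 * j, j, by push_cast; rw [b]; ring⟩
  · exact ⟨-1 - 2 * j, j, by push_cast; rw [eq_sub_of_add_eq b]; ring⟩
  · exact ⟨-1, 2, by omega⟩
  · exact ⟨1, -2, by omega⟩

namespace BW
variable (h : BW t s K) (b : BC t K q l)
include h b

omit [Finite G] in
theorem card : Nat.card G = o[K] * 2 * (q * l) := by rw [← C1[t].card_mul_index, h.cardC, b.n]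

theorem indexK : K.index = 2 * (q * l) :=
  Nat.eq_of_mul_eq_mul_left Nat.card_pos (by rw [K.card_mul_index, h.card b, mul_assoc])

theorem nd (hp : p.Prime) (p2 : p ≠ 2) (d : p ∣ o[K]) : ¬ p ∣ K.index := by
  rw [h.indexK b, hp.dvd_mul, Nat.prime_dvd_prime_iff_eq hp Nat.prime_two, or_iff_right p2]
  exact fun e => hp.not_dvd_one ((b.c1.mul_left b.c2) ▸ Nat.dvd_gcd e (d.mul_right 2))

theorem cls_prime (hp : p.Prime) (d : p ∣ o[K] * 2) (o : orderOf x = p) : x ∈ Cls K := by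
  by_cases p2 : p = 2
  · exact h.cls_inv (o.trans p2)
  have := Fact.mk hp
  obtain ⟨g, hg⟩ := conj_into (h.nd b hp p2 ((hp.dvd_mul.1 d).resolve_right fun e =>
    p2 ((Nat.prime_dvd_prime_iff_eq hp Nat.prime_two).1 e))) (isPGroup_zpowers (x := x) (k := 1)
      (by rw [pow_one, ← o, pow_orderOf_eq_one]))
  exact ⟨fun e => hp.ne_one (by rw [← o, e, orderOf_one]), g, hg ⟨x, mem_zpowers x, rfl⟩⟩

omit h [Finite G] in
theorem not_cls (hx : x ∈ PE G q) : x ∉ Cls K := fun e =>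
  let ⟨_, hp, a, d⟩ := hx
  hp.not_dvd_one (b.c1 ▸ Nat.dvd_gcd a ((d.trans (cls_orderOf_dvd e)).mul_right 2))

theorem part (h1 : x ≠ 1) (hx : x ∉ Cls K) : x ∈ PE G q ∨ x ∈ PE G l := by
  obtain ⟨p, hp, d⟩ := Nat.exists_prime_and_dvd (mt orderOf_eq_one_iff.1 h1)
  have e := d.trans (orderOf_dvd_natCard x)
  rw [h.card b, hp.dvd_mul, hp.dvd_mul (m := q)] at e
  refine (e.resolve_left fun e => hx ?_).imp (fun e => ⟨p, hp, e, d⟩) fun e => ⟨p, hp, e, d⟩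
  obtain ⟨w, ⟨j, rfl⟩, o⟩ := exists_prime_order_mem (H := zpowers x) hp (Nat.card_zpowers x ▸ d)
  exact h.cls_comm (h.cls_prime b hp e o) h1 (Commute.self_zpow x j)

variable (dis : Disjoint (PE G q) (PE G l))
include dis

theorem cent_dvd (hx : x ∈ PE G q) : o[C1[x]] ∣ q := by
  refine Nat.Coprime.dvd_of_dvd_mul_left (m := o[K] * 2 * l) (Nat.Coprime.symm (Nat.coprime_of_dvd fun r hr d1 d2 => ?_))
    (by rw [mul_assoc, mul_comm l, ← h.card b]; exact card_subgroup_dvd_card _)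
  obtain ⟨w, hw, o⟩ := exists_prime_order_mem hr d2
  have c : Commute w x := mem_centralizer_singleton_iff.1 hw
  rcases hr.dvd_mul.1 d1 with e | e
  · exact not_cls b hx (h.cls_comm (h.cls_prime b hr e o) (PE.ne_one hx) c.symm)
  obtain ⟨p, hp, a, d⟩ := hx
  obtain ⟨_, ⟨j, rfl⟩, o'⟩ := exists_prime_order_mem (H := zpowers x) hp (Nat.card_zpowers x ▸ d)
  have := (c.zpow_right j).orderOf_mul_eq_mul_orderOf_of_coprime (by
    rw [o, o']; exact (b.c3.symm.coprime_dvd_left e).coprime_dvd_right a)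
  rw [o, o'] at this
  exact Set.disjoint_left.1 dis ⟨p, hp, a, this ▸ dvd_mul_left _ _⟩ ⟨r, hr, e, this ▸ dvd_mul_right _ _⟩

open Classical in
theorem ind_sum [Fintype G] {S : Type*} [Semiring S] (f : G → S) (c1 c2 c3 : S) (h1 : ∀ x ∈ Cls K, f x = c1)
    (h2 : ∀ x ∈ PE G q, f x = c2) (h3 : ∀ x ∈ PE G l, f x = c3) :
    ∑ x, f x = f 1 + (q * l * (o[K] - 1) : ℕ) * c1 + (PE G q).ncard * c2 + (PE G l).ncard * c3 := by
  rw [← b.n, ← h.ncard_cls, ← sum_ind, ← sum_ind, ← sum_ind, ← Finset.sum_ite_eq_of_mem' Finset.univ 1 f (by simp),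
    ← Finset.sum_add_distrib, ← Finset.sum_add_distrib, ← Finset.sum_add_distrib]
  refine Finset.sum_congr rfl fun x _ => ?_
  by_cases x1 : x = 1
  · rw [if_pos x1, if_neg fun e => e.1 x1, if_neg fun e => PE.ne_one e x1, if_neg fun e => PE.ne_one e x1]; simp
  by_cases hx : x ∈ Cls K
  · rw [if_neg x1, if_pos hx, if_neg fun e => not_cls b e hx, if_neg fun e => not_cls b.symm e hx, h1 x hx]; simp
  rcases h.part b x1 hx with e | e
  · rw [if_neg x1, if_neg hx, if_pos e, if_neg (Set.disjoint_left.1 dis e), h2 x e]; simp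
  · rw [if_neg x1, if_neg hx, if_neg (Set.disjoint_right.1 dis e), if_pos e, h3 x e]; simp

theorem total : o[K] * 2 * (q * l) = 1 + q * l * (o[K] - 1) + (PE G q).ncard + (PE G l).ncard := by
  have := Fintype.ofFinite G
  simpa [← h.card b] using h.ind_sum b dis (fun _ => (1 : ℕ)) 1 1 1 (fun _ _ => rfl) (fun _ _ => rfl) fun _ _ => rfl

theorem np_le (hx : x ∈ PE G q) : np t x ≤ q := by
  by_cases e : np t x = 0
  · omega
  obtain ⟨_, -, -, -, -, e⟩ := h.real' (PE.ne_one hx) (not_cls b hx) e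
  exact e ▸ Nat.le_of_dvd (Nat.pos_of_mul_pos_right (b.n ▸ Nat.pos_of_ne_zero index_ne_zero_of_finite))
    (h.cent_dvd b dis hx)

theorem np_bound {c : ℕ} (hc : ∀ x ∈ PE G q, np t x ≤ c)
    (e : q * l + q * l * (o[K] - 1) * o[K] + (PE G q).ncard * c + (PE G l).ncard * l = (q * l) ^ 2) :
    (∀ x ∈ PE G q, np t x = c) ∧ ∀ x ∈ PE G l, np t x = l := by
  classical
  have := Fintype.ofFinite G
  let f (x : G) : ℕ := if x ∈ PE G q then c else if x ∈ PE G l then l else np t x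
  have f2 (x : G) (hx : x ∈ PE G q) : f x = c := if_pos hx
  have f3 (x : G) (hx : x ∈ PE G l) : f x = l := (if_neg (Set.disjoint_right.1 dis hx)).trans (if_pos hx)
  have h1 := h.ind_sum b dis f o[K] c l (fun x hx => by
    simp only [f]; rw [if_neg fun e => not_cls b e hx, if_neg fun e => not_cls b.symm e hx, h.np_cls hx]) f2 f3
  have f1 : f 1 = q * l := by
    simp only [f]; rw [if_neg fun e => PE.ne_one e rfl, if_neg fun e => PE.ne_one e rfl, h.np_one, b.n]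
  rw [f1, Nat.cast_id, Nat.cast_id, Nat.cast_id, e, ← b.n, ← sum_np] at h1
  have h2 := (Finset.sum_eq_sum_iff_of_le fun x _ => show np t x ≤ f x by
    simp only [f]
    split_ifs with a1 a2
    exacts [hc x a1, h.np_le b.symm dis.symm a2, le_rfl]).1 h1.symm
  exact ⟨fun x hx => (h2 x (by simp)).trans (f2 x hx), fun x hx => (h2 x (by simp)).trans (f3 x hx)⟩

end BW

theorem BW.nums (h : BW t s K) (h2 : 2 < o[K]) : ∃ q l, (q = 2 * o[K] + 1 ∧ l = o[K] + 1 ∨ q + 1 = 2 * o[K] ∧ l + 1 = o[K]) ∧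
    C1[t].index = q * l ∧ Disjoint (PE G q) (PE G l) ∧ (PE G q).ncard + 1 = q ^ 2 := by
  have := Fintype.ofFinite G
  obtain ⟨δ, a, b, hδ, ha, hb, n, a1, b1, a0, v, w⟩ := h.chars h2
  obtain ⟨q, l, c, e1, e2⟩ : ∃ q l : ℕ, (q = 2 * o[K] + 1 ∧ l = o[K] + 1 ∨ q + 1 = 2 * o[K] ∧ l + 1 = o[K]) ∧
      (q : ℤ) = 2 * o[K] + δ ∧ (l : ℤ) = o[K] + δ := by
    rcases hδ with rfl | rfl
    exacts [⟨_, _, .inl ⟨rfl, rfl⟩, by omega⟩, ⟨2 * o[K] - 1, o[K] - 1, .inr (by omega), by omega⟩]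
  have n' : C1[t].index = q * l := by rw [← e1, ← e2] at n; exact_mod_cast n
  have c' := BC.of n' (h.ot ▸ K.orderOf_dvd_natCard h.tK) c
  have d2 : (δ : ℂ) ^ 2 = 1 := by rcases hδ with rfl | rfl <;> simp
  have e1' : (q : ℂ) = 2 * o[K] + δ := by exact_mod_cast e1
  have e2' : (l : ℂ) = o[K] + δ := by exact_mod_cast e2
  have z1 (x : G) (hx : x ∈ PE G q) : a x = 0 := by
    obtain ⟨p, hp, d, o⟩ := hx
    refine sirr_zero ha (d := q) (by rw [a1, e1', mul_pow, d2, one_mul]) hp (fun e => hp.not_dvd_one ?_) o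
    rw [h.card c', mul_left_comm, Nat.mul_div_cancel_left _ (by omega)] at e
    exact (c'.c1.mul_right c'.c3) ▸ Nat.dvd_gcd d e
  have z2 (x : G) (hx : x ∈ PE G l) : a x = -1 := by
    rw [← w x (PE.ne_one hx) (BW.not_cls c'.symm hx), left_eq_add]
    obtain ⟨p, hp, d, o⟩ := hx
    refine sirr_zero hb (d := 2 * l) (by rw [b1]; push_cast; rw [e2']; linear_combination 4 * (o[K] + δ) ^ 2 * d2) hp
      (fun e => hp.not_dvd_one ?_) o
    rw [h.card c', (by ring : o[K] * 2 * (q * l) = 2 * l * (o[K] * q)), Nat.mul_div_cancel_left _ (by omega)] at e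
    exact (c'.c2.mul_right c'.c3.symm) ▸ Nat.dvd_gcd d (e.trans ⟨2, by ring⟩)
  have dis : Disjoint (PE G q) (PE G l) := Set.disjoint_left.2 fun x h1 h2 => by
    have := (z1 x h1).symm.trans (z2 x h2)
    norm_num at this
  refine ⟨q, l, c, n', dis, ?_⟩
  have s1 := h.ind_sum c' dis a 1 0 (-1) v z1 z2
  rw [classInner_one_right, mul_eq_zero, or_iff_right (inv_ne_zero (natCard_ne_zero G))] at a0
  have s2 := congrArg (Nat.cast : ℕ → ℂ) (h.total c' dis)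
  rw [a0, a1] at s1
  push_cast [Nat.cast_sub (by omega : 1 ≤ o[K])] at s1 s2
  have : ((PE G q).ncard + 1 : ℂ) = q ^ 2 := by
    rw [e2'] at s1 s2
    linear_combination -s2 - s1 + (δ - q) * e1'
  exact_mod_cast this

end CfsgL0
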