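import Cfsg.Agent.L0.MC2
import Cfsg.Agent.L0.Invol
import Cfsg.Agent.L0.Count
import Cfsg.Agent.S0948
import Cfsg.Agent.S4479
import Cfsg.Agent.H8.SmallId
import Cfsg.Agent.H2.Frob

/-! Groups with a Klein four Sylow `2`-subgroup normal in the centralizer of an involution. -/

namespace CfsgL0
open Function Subgroup Cfsg CfsgH2

variable {G : Type*} [Group G] [Finite G] {P V : Subgroup G} {x z : G}

theorem k4_idx3 (s : Syl 2 P ⊤) (hk : K4 P) (hn : ¬ NPC 2 (⊤ : Subgroup G)) : C[P].relIndex N[P] = 3 := by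
  have h2 := (s.mono le_normalizer le_top).not_dvd_of_le (le_cent_self hk.ab)
  have h3 := hk.dvd6 le_rfl
  have h1 : C[P].relIndex N[P] ≠ 1 := fun e => hn (s.npc_of_norm_le_cent (inf_le_right.trans (relIndex_eq_one.1 e)))
  have := Nat.le_of_dvd (by omega) h3
  generalize C[P].relIndex N[P] = n at *
  interval_cases n <;> simp_all

theorem k4_arith {n x y z : ℕ} {ε : ℤ} (hε : ε = 1 ∨ ε = -1) (hx : 0 < x) (hy : 0 < y) (c3 : (4 : ℤ) ∣ y - ε)
    (c4 : (4 : ℤ) ∣ z + 1) (hs : (1 : ℤ) + x + ε * y - z = 0)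
    (h : (n : ℤ) * ((x + 1) * (y + ε) * (z - 1)) = 8 * (x * y * z)) : n ≤ 15 := by
  by_contra h0
  have h1 : (16 : ℤ) ≤ n := by omega
  rcases hε with rfl | rfl
  · obtain ⟨a, rfl⟩ : ∃ a, x = a + 1 := ⟨x - 1, by omega⟩
    obtain ⟨b, rfl⟩ : ∃ a, y = a + 1 := ⟨y - 1, by omega⟩
    obtain rfl : z = a + b + 3 := by omega
    push_cast at h
    have := mul_le_mul_of_nonneg_right h1
      (show (0 : ℤ) ≤ (a + 1 + 1) * (b + 1 + 1) * (a + b + 3 - 1) by
        have : (0 : ℤ) ≤ a + b + 3 - 1 := by omega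
        positivity)
    have ha : (0 : ℤ) ≤ a := by omega
    have hb : (0 : ℤ) ≤ b := by omega
    nlinarith [mul_nonneg ha hb, mul_nonneg ha (mul_nonneg ha hb), mul_nonneg hb (mul_nonneg ha hb), mul_nonneg ha ha,
      mul_nonneg hb hb]
  · obtain ⟨a, rfl⟩ : ∃ a, y = a + 3 := ⟨y - 3, by omega⟩
    obtain ⟨b, rfl⟩ : ∃ a, z = a + 3 := ⟨z - 3, by omega⟩
    obtain rfl : x = a + b + 5 := by omega
    push_cast at h
    have := mul_le_mul_of_nonneg_right h1
      (show (0 : ℤ) ≤ (a + b + 5 + 1) * (a + 3 + -1) * (b + 3 - 1) by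
        have : (0 : ℤ) ≤ a + 3 + -1 := by omega
        have : (0 : ℤ) ≤ b + 3 - 1 := by omega
        positivity)
    have ha : (0 : ℤ) ≤ a := by omega
    have hb : (0 : ℤ) ≤ b := by omega
    nlinarith [mul_nonneg ha hb, mul_nonneg ha (mul_nonneg ha hb), mul_nonneg hb (mul_nonneg ha hb), mul_nonneg ha ha,
      mul_nonneg hb hb]

theorem k4_bound (s : Syl 2 P ⊤) (hk : K4 P) (hn : ¬ NPC 2 (⊤ : Subgroup G)) (hx : x ∈ P) (ho : orderOf x = 2)
    (hc : C1[x] ≤ C[P]) : (∀ s t : G, orderOf s = 2 → orderOf t = 2 → IsConj s t) ∧ C1[x].index ≤ 15 := by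
  obtain ⟨M, hM⟩ := CfsgH4.exists_pmod 2
  obtain ⟨Q, rfl⟩ := s.exists_top
  have hodd : Odd (Q : Subgroup G).index := Nat.odd_iff.2 (Nat.two_dvd_ne_zero.1 Q.not_dvd_index)
  have hG : Nat.card G = 4 * (Q : Subgroup G).index := by rw [← hk.1, card_mul_index]
  have hnc : ¬ ∃ N : Subgroup G, N.Normal ∧ Nat.card N = (Q : Subgroup G).index := by
    rintro ⟨N, hN, e⟩
    refine hn (.of_sub le_top (top_le_norm_iff.2 hN) (e ▸ Q.not_dvd_index) ?_)
    have := N.card_mul_index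
    rw [hG, e, mul_comm] at this
    rw [relIndex_top_right, Nat.eq_of_mul_eq_mul_right (CfsgH2.index_pos _) this]
    exact (PiN.of_prime (π := {2}) Nat.prime_two rfl).pow 2
  obtain ⟨-, -, -, -, hone⟩ := CfsgH4.k4_setup hodd hG hnc Q hx ho
  refine ⟨hone, ?_⟩
  obtain ⟨ζ₂, ζ₃, ζ₄, ε, hε, n2, n3, d23, d24, d34, hB, hv, c2, c3, c4, hs⟩ :=
    Cfsg.Agent.S0948.result M hM.1 Q (k4_iff.2 hk) hone
  have n4 : ζ₄.1 ≠ fun _ => 1 := fun e => by
    have := (hv x ho).2.2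
    rw [e] at this
    norm_num at this
  have h := Cfsg.Agent.S4479.result M hM.1 _ hodd hG hnc Q x hx ho ζ₂ ζ₃ ζ₄ 1 ε (-1) hB ⟨n2, n3, n4, d23, d24, d34⟩
    ⟨.inl rfl, hε, .inr rfl⟩ (by simpa using hv x ho)
  have e : C[(Q : Subgroup G)] = C1[x] := le_antisymm (cent_le_cent1 hx) hc
  have h1 := hs 1 (by simp)
  rw [← CfsgH4.coe_charDegree (CfsgH3.Cfsg.IsIrrCharacter.isCharacter ζ₂.2), ← CfsgH4.coe_charDegree (CfsgH3.Cfsg.IsIrrCharacter.isCharacter ζ₃.2),
    ← CfsgH4.coe_charDegree (CfsgH3.Cfsg.IsIrrCharacter.isCharacter ζ₄.2)] at h1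
  refine k4_arith hε (Nat.pos_of_ne_zero (CfsgH4.charDegree_ne_zero ζ₂.2))
    (Nat.pos_of_ne_zero (CfsgH4.charDegree_ne_zero ζ₃.2)) c3 c4 (by exact_mod_cast h1) ?_
  rw [e, ← C1[x].card_mul_index] at h
  have c0 : (o[C1[x]] : ℚ) ≠ 0 := Nat.cast_ne_zero.2 Nat.card_pos.ne'
  have i0 : (C1[x].index : ℚ) ≠ 0 := Nat.cast_ne_zero.2 (CfsgH2.index_pos _).ne'
  generalize charDegree ζ₂.1 = a at *
  generalize charDegree ζ₃.1 = b at *
  generalize charDegree ζ₄.1 = c at *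
  have d0 : ((a : ℚ) + (1 : ℤ)) * (b + ε) * (c + (-1 : ℤ)) ≠ 0 := fun e => by
    rw [e] at h
    exact Nat.card_pos.ne' (by simpa using h : Nat.card G = 0)
  have : (C1[x].index : ℚ) * ((a + 1) * (b + ε) * (c - 1)) = 8 * (a * b * c) := by
    push_cast at h d0
    rw [sub_eq_add_neg (c : ℚ)]
    generalize ((a : ℚ) + 1) * (b + ε) * (c + -1) = D at *
    field_simp at h
    linear_combination h
  exact_mod_cast this

theorem k4_a5 (s : Syl 2 P ⊤) (hk : K4 P) (hn : ¬ NPC 2 (⊤ : Subgroup G)) (hx : x ∈ P) (ho : orderOf x = 2)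
    (hc : C1[x] ≤ C[P]) (hf : N[P].normalCore = ⊥) : Nonempty (G ≃* alternatingGroup (Fin 5)) := by
  have h1 := (k4_bound s hk hn hx ho hc).2
  have h2 := k4_idx3 s hk hn
  have h3 := relIndex_mul_index (CfsgH2.cent_le_norm P)
  have e : C[P] = C1[x] := le_antisymm (cent_le_cent1 hx) hc
  have hi : Injective (MulAction.toPermHom G (G ⧸ N[P])) := by
    rw [← MonoidHom.ker_eq_bot_iff, ← normalCore_eq_ker, hf]
  have h4 : Nat.card G ∣ N[P].index.factorial := by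
    have := Fintype.ofFinite (G ⧸ N[P])
    classical
    have := card_dvd_of_injective _ hi
    rwa [Nat.card_eq_fintype_card (α := Equiv.Perm _), Fintype.card_perm, ← Nat.card_eq_fintype_card] at this
  have h5 := card_mul_relIndex (le_cent_self hk.ab)
  have h6 := (s.mono (le_cent_self hk.ab) le_top).nd
  have h7 := s.not_dvd_of_le (K := N[P]) le_normalizer
  have h8 := C[P].card_mul_index
  rw [relIndex_top_right] at h7
  rw [← e] at h1
  rw [← h5, ← h3, h2, hk.1] at h8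
  rw [← h3, h2] at h1
  rw [← h8] at h4
  have h9 : N[P].index = 5 ∧ P.relIndex C[P] = 1 := by
    generalize N[P].index = n at *
    generalize P.relIndex C[P] = k at *
    have : n ≤ 5 := by omega
    have := Nat.le_of_dvd (Nat.factorial_pos _) h4
    interval_cases n <;> simp [Nat.factorial] at * <;> omega
  exact CfsgH8.nonempty_equiv_alt_of_injective _ hi h9.1 (by rw [← h8, h9.1, h9.2]; rfl)

/-- either the four-group is Sylow, or the conjugates of a suitable involution commute. -/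
theorem k4_syl_or (hk : K4 V) (hx : x ∈ V) (x1 : x ≠ 1) (s : Syl 2 V C1[x]) (hn : C1[x] ≤ N[V]) :
    Syl 2 V ⊤ ∨ ∃ z ∈ V, z ≠ 1 ∧ ¬ IsConj x z ∧ ∀ g, g * z * g⁻¹ ∈ C1[z] := by
  obtain ⟨S, hS, l⟩ := exists_syl_ge hk.pg le_top
  by_cases e : V = S
  · exact .inl (e ▸ hS)
  right
  have x2 := hk.2 x hx
  have l1 : S ⊓ C1[x] = V := s.eq_of_le (hS.pg.to_le inf_le_left) (le_inf l s.le) inf_le_right
  obtain ⟨z, hz, z1⟩ := exists_ne_one (nil_inf_cent_ne_bot (nil_of_pg hS.pg) le_rfl le_normalizer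
    fun e => x1 (e.le (l hx)))
  have zV : z ∈ V := l1 ▸ mem_inf.2 ⟨hz.1, cent_le_cent1 (l hx) hz.2⟩
  have nc : ¬ IsConj x z := fun h => by
    obtain ⟨g, rfl⟩ := isConj_iff.1 h
    have := (s.map_cj g).card_le hS.pg (CfsgH2.centralizer_conj g x ▸ le_cent1_iff.2 hz.2)
    rw [CfsgH2.card_map_cj] at this
    exact e (eq_of_le_of_card_le l this)
  obtain ⟨n, hn1, n1⟩ := SetLike.exists_of_lt (lt_inf_norm (nil_of_pg hS.pg) (lt_of_le_of_ne l e))
  have zx : z ∉ zpowers x := fun h => (zpowers_two x2 h).elim z1 fun e => nc (e ▸ IsConj.refl _)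
  have e1 : n * x * n⁻¹ = x * z := by
    rcases hk.cases hx x1 zV zx (conj_mem_of_norm hn1.2 hx) with e | e | e | e
    · exact absurd (conj_eq_one_iff.1 e) x1
    · exact absurd (l1 ▸ mem_inf.2 ⟨hn1.1, mem_centralizer_singleton_iff.2 (mul_inv_eq_iff_eq_mul.1 e)⟩) n1
    · exact absurd (isConj_iff.2 ⟨n, e⟩) nc
    · exact e
  refine ⟨z, zV, z1, nc, fun g => ?_⟩
  have v2 : g * z * g⁻¹ * (g * z * g⁻¹) = 1 := by rw [conj_mul, hk.2 z zV]; simp
  have inv : ∀ w ∈ C1[x], w * w = 1 → w ∈ V := fun w h h2 => s.mem_of_norm hn h (k := 1) (by rw [pow_one, pow_two, h2])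
  rcases conj_or_common x2 v2 with ⟨k, h⟩ | ⟨m, h1, h2, h3, h4⟩
  · exact absurd ((isConj_iff.2 ⟨_, h⟩).trans (isConj_iff.2 ⟨g, rfl⟩).symm) nc
  have hw := inv _ (mem_centralizer_singleton_iff.2 h3) (inv_mul_self h2)
  rcases hk.cases hx x1 zV zx hw with e | e | e | e
  · exact absurd e (inv_ne_one h2)
  · refine absurd ((congrArg (· ∈ zpowers _) e).mp (pow_mem (mem_zpowers _) m)) (not_mem_zpowers_mul (orderOf_two_iff.2 ⟨x2, x1⟩)
      (orderOf_two_iff.2 ⟨v2, by simpa using z1⟩) fun e => nc ?_)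
    exact (isConj_iff.2 ⟨g, e.symm⟩).symm
  · exact mem_centralizer_singleton_iff.2 (e ▸ h4).symm
  · rw [e, ← e1] at h4
    have h5 : n⁻¹ * (g * z * g⁻¹) * n ∈ V := inv _ (mem_map_cj.1 (CfsgH2.centralizer_conj n x ▸
      mem_centralizer_singleton_iff.2 h4.symm)) (by
        rw [show ∀ v : G, n⁻¹ * v * n * (n⁻¹ * v * n) = n⁻¹ * (v * v) * n from fun v => by group, v2]; simp)
    have := conj_mem_of_norm hn1.2 h5
    exact cent_le_cent1 zV (le_cent_self hk.ab (by simpa [mul_assoc] using this))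

omit [Finite G] in
theorem ncl_ea (z2 : z * z = 1) (h : ∀ g, g * z * g⁻¹ ∈ C1[z]) :
    ∀ a ∈ normalClosure ({z} : Set G), a * a = 1 := by
  have hc : ∀ a ∈ Group.conjugatesOfSet ({z} : Set G), ∀ b ∈ Group.conjugatesOfSet ({z} : Set G), a * b = b * a := by
    intro a ha b hb
    simp only [Group.mem_conjugatesOfSet_iff, Set.mem_singleton_iff, exists_eq_left, isConj_iff] at ha hb
    obtain ⟨g, rfl⟩ := ha
    obtain ⟨k, rfl⟩ := hb
    have := congrArg (fun y => k * y * k⁻¹) (mem_centralizer_singleton_iff.1 (h (k⁻¹ * g)))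
    simpa [mul_assoc] using this
  have ab : Ab[normalClosure ({z} : Set G)] := isMulCommutative_closure hc
  intro a ha
  induction ha using closure_induction with
  | mem a ha =>
    simp only [Group.mem_conjugatesOfSet_iff, Set.mem_singleton_iff, exists_eq_left, isConj_iff] at ha
    obtain ⟨g, rfl⟩ := ha
    rw [conj_mul, z2]; simp
  | one => simp
  | mul a b ha hb h1 h2 =>
    rw [mul_assoc, ← mul_assoc b, ← comm_of_isMulComm ab ha hb, mul_assoc, h2, mul_one, h1]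
  | inv a _ h1 => rw [← mul_inv_rev, h1, inv_one]

end CfsgL0
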