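import Cfsg.Agent.L0.BW3
import Cfsg.Agent.L0.K4A

/-! The Brauer–Suzuki–Wall theorem. -/

namespace CfsgL0
open Function Subgroup Cfsg CfsgH2 CfsgH8
open scoped commutatorElement

variable {G : Type*} [Group G] [Finite G] {t s g x y u v : G} {K A Q L R : Subgroup G} {p q l : ℕ}

theorem ti_of_der [Fact p.Prime] (h : ∀ R : Subgroup G, PG[p, R] → R ≠ ⊥ → PG[p, (⁅N[R], N[R]⁆ : Subgroup G)])
    (R : Subgroup G) : R ≠ ⊥ → ∀ P Q, Syl p P ⊤ → Syl p Q ⊤ → R ≤ P → R ≤ Q → P = Q := by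
  induction R using WellFoundedGT.induction with | ind R ih
  intro h0 P Q hP hQ l1 l2
  rcases l1.eq_or_lt with rfl | l1
  · exact (hP.eq_of_le hQ.pg l2 le_top).symm
  rcases l2.eq_or_lt with rfl | l2
  · exact hQ.eq_of_le hP.pg l1.le le_top
  obtain ⟨S, hS⟩ := exists_syl (p := p) N[R]
  have d := hS.le_of_norm (h R (hP.pg.to_le l1.le) h0) (comm_le_left le_normalizer) (hS.le.trans le_norm_comm_left)
  have n : N[R] ≤ N[S] := fun g hg => mem_norm_of_conj fun x hx => by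
    have := mul_mem (d (commutator_mem_commutator hg (hS.le hx))) hx
    rwa [commutatorElement_def, inv_mul_cancel_right] at this
  obtain ⟨T, hT, l⟩ := exists_syl_ge hS.pg le_top
  have k (P : Subgroup G) (hP : Syl p P ⊤) (l1 : R < P) : P = T :=
    have a := lt_inf_normalizer hP.pg l1
    ih _ a (ne_bot_of_gt a) P T hP hT inf_le_left
      ((hS.le_of_norm' (hP.pg.to_le inf_le_left) inf_le_right (inf_le_right.trans n)).trans l)
  exact (k P hP l1).trans (k Q hQ l2).symm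

namespace BW
variable (h : BW t s K) (b : BC t K q l) (dis : Disjoint (PE G q) (PE G l)) (cX : (PE G q).ncard + 1 = q ^ 2)
  (g2 : 2 * Nat.card G = q * (q + 1) * (q - 1))
include h b dis cX g2

theorem cent_eq (hx : x ∈ PE G q) : o[C1[x]] = q := by
  obtain ⟨j, hj⟩ := h.cent_dvd b dis hx
  have h1 := ncard_conj_mul_card_centralizer x
  have h2 := Set.ncard_le_ncard (s := {y | IsConj x y}) fun y hy => PE.conj hx hy
  have h3 : 0 < {y | IsConj x y}.ncard := (Set.ncard_pos).2 ⟨x, IsConj.refl x⟩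
  have o : ¬ 2 ∣ j := fun d => Nat.prime_two.not_dvd_one
    (b.c1 ▸ Nat.dvd_gcd (hj ▸ d.mul_left _) (dvd_mul_left _ _))
  have p := Nat.card_pos (α := C1[x])
  obtain ⟨r, rfl⟩ : ∃ r, q = r + 1 := ⟨q - 1, by rcases q with _ | q <;> simp at cX ⊢⟩
  have h4 : j * (r * (r + 2)) = 2 * {y | IsConj x y}.ncard := Nat.eq_of_mul_eq_mul_left p (by
    rw [← h1, add_tsub_cancel_right] at g2
    rw [← mul_assoc, ← hj]
    linear_combination -g2)
  have h5 : j ≤ 2 := by
    by_contra k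
    have := Nat.mul_le_mul_right (r * (r + 2)) (show 3 ≤ j by omega)
    nlinarith
  rw [hj, (by interval_cases j <;> simp_all : j = 1), mul_one]

omit h b dis in
theorem norm_card (c : CC Q) (e : o[Q] = q) (h1 : 1 < q) : 2 * o[N[Q]] = q * (q - 1) := by
  have h2 := c.ncard_cls
  obtain ⟨r, rfl⟩ : ∃ r, q = r + 1 := ⟨q - 1, by omega⟩
  rw [cc_cls c e, e, add_tsub_cancel_right] at h2
  have h3 : N[Q].index = r + 2 := Nat.eq_of_mul_eq_mul_right (show 0 < r by omega) (by rw [← h2]; linarith)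
  refine Nat.eq_of_mul_eq_mul_right (show 0 < r + 2 by omega) ?_
  rw [mul_assoc, ← h3, card_mul_index, g2, h3]; ring

theorem plus (hq : q = 2 * o[K] + 1) (hl : l = o[K] + 1) : ∃ Q, BWC Q K := by
  have p := Nat.card_pos (α := K)
  have tot := h.total b dis
  obtain ⟨x, hx⟩ : (PE G q).Nonempty := Set.nonempty_of_ncard_ne_zero (by nlinarith)
  have e := (h.np_bound b dis (c := q) (fun x hx => h.np_le b dis hx) (by
    obtain ⟨j, hj⟩ : ∃ j, o[K] = j + 1 := ⟨o[K] - 1, by omega⟩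
    generalize (PE G q).ncard = X, (PE G l).ncard = Y at *
    rw [hj] at hq hl tot ⊢
    rw [add_tsub_cancel_right] at tot ⊢
    subst hq hl
    zify at *
    linear_combination (-(j + 2)) * tot + (j + 1) * cX)).1 x hx
  obtain ⟨u, ou, -, -, i, -⟩ := h.real' (PE.ne_one hx) (not_cls b hx) (by omega)
  obtain ⟨g, rfl⟩ := isConj_iff.1 (h.cj u ou)
  have hx' : g⁻¹ * x * g⁻¹⁻¹ ∈ PE G q := PE.conj hx (isConj_iff.2 ⟨_, rfl⟩)
  obtain ⟨c, n, -, -⟩ := h.real (PE.ne_one hx') (not_cls b hx') (inv_ne_one h.ot) (inv_mul_self h.ot) (by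
    rw [conj_inv, ← i x (self_mem_cent1 x)]; group)
  have e1 := h.cent_eq b dis cX g2 hx'
  have e2 := norm_card cX g2 c e1 (by omega)
  generalize C1[g⁻¹ * x * g⁻¹⁻¹] = Q at *
  have o : ¬ 2 ∣ o[Q] := by omega
  have Q0 : Q ≠ ⊥ := fun e => by rw [e, card_bot] at e1; omega
  have tQ {w : G} (o' : orderOf w = 2) : w ∉ Q := fun e => o (o' ▸ Q.orderOf_dvd_natCard e)
  have e3 : o[N[Q]] = o[Q] * o[K] := by rw [e1]; rw [hq] at e2 ⊢; simp only [add_tsub_cancel_right] at e2; linarith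
  refine ⟨Q, bwc_of (e1 ▸ g2) c h.ab (by omega) (le_norm_of n (cc_fpf c (tQ h.ot)) (fun m hm => ?_)
    (fun v ⟨v1, v2⟩ => (h.mem_C.1 v2).elim id fun v3 => ?_) e3) e3 fun _ =>
    ⟨s, ord2 (fun e => h.sK (e ▸ one_mem K)) h.os, h.sK, h.inv, fun X => h.norm⟩⟩
  · exact cc_mul c o Q0 ((orderOf_conj m t).trans h.ot) ((orderOf_inv t).trans h.ot)
      (mul_mem (mul_mem hm n) (inv_mem hm)) (inv_mem n)
  · have v4 : v * t * s ∈ K := by
      rw [mem_centralizer_singleton_iff.1 v2, mul_assoc]; exact mul_mem h.tK v3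
    exact absurd (cc_mul c o Q0 (ord2 (x := v) (fun e => h.out_not v3 (e ▸ one_mem K)) (h.out_sq v3)) h.ot v1 n)
      (tQ (ord2 (fun e => h.out_not v4 (e ▸ one_mem K)) (h.out_sq v4)))

theorem minus (hq : q + 1 = 2 * o[K]) (hl : l + 1 = o[K]) : ∃ Q D : Subgroup G, BWC Q D := by
  have ev : 2 ∣ o[K] := h.ot ▸ K.orderOf_dvd_natCard h.tK
  have nc (Q : Subgroup G) (c : CC Q) (e : o[Q] = q) : o[N[Q]] = q * l := by
    have := norm_card cX g2 c e (by omega)
    rw [(by omega : q - 1 = 2 * l)] at this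
    linarith
  have ol : ¬ 2 ∣ q * l := by rw [Nat.prime_two.dvd_mul]; omega
  have ni {x u : G} (hx : x ∈ PE G q) (u1 : u ≠ 1) (u2 : u * u = 1) : u * x * u⁻¹ ≠ x⁻¹ := fun e =>
    let ⟨c, n, _⟩ := h.real (PE.ne_one hx) (not_cls b hx) u1 u2 e
    ol (nc _ c (h.cent_eq b dis cX g2 hx) ▸ ord2 u1 u2 ▸ Subgroup.orderOf_dvd_natCard _ n)
  have tot := h.total b dis
  have cY : (PE G l).ncard = q * o[K] * (l - 1) := by
    obtain ⟨j, rfl⟩ : ∃ j, l = j + 1 := ⟨l - 1, by omega⟩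
    generalize (PE G q).ncard = X, (PE G (j + 1)).ncard = Y at *
    rw [← hl] at hq tot ⊢
    obtain rfl : q = 2 * j + 3 := by omega
    simp only [add_tsub_cancel_right] at tot ⊢
    linarith
  have hD (y : G) (hy : y ∈ PE G l) : CC C1[y] ∧ o[C1[y]] = l ∧ C1[y].relIndex N[C1[y]] = 2 ∧
      ∃ u, orderOf u = 2 ∧ u ∈ N[C1[y]] ∧ ∀ d ∈ C1[y], u * d * u⁻¹ = d⁻¹ := by
    have e := (h.np_bound b dis (c := 0) (fun x hx => by
      by_contra k
      obtain ⟨u, ou, -, -, i, -⟩ := h.real' (PE.ne_one hx) (not_cls b hx) (by omega)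
      exact ni hx (inv_ne_one ou) (inv_mul_self ou) (i x (self_mem_cent1 x))) (by
      obtain ⟨j, rfl⟩ : ∃ j, l = j + 1 := ⟨l - 1, by omega⟩
      rw [cY, ← hl]
      obtain rfl : q = 2 * j + 3 := by omega
      simp only [add_tsub_cancel_right]
      ring)).2 y hy
    obtain ⟨u, ou, c, n, i, e1⟩ := h.real' (PE.ne_one hy) (not_cls b.symm hy) (by omega)
    rw [e] at e1
    have l1 : 1 < l := e1 ▸ (one_lt_card_iff_ne_bot _).2 fun e => PE.ne_one hy (mem_bot.1 (e ▸ self_mem_cent1 y))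
    have h2 := c.ncard_cls
    rw [cc_cls c e1.symm, ← e1, cY] at h2
    have h3 := relIndex_mul_index (le_normalizer (H := C1[y]))
    have h4 := C1[y].card_mul_index
    rw [← h3, ← Nat.eq_of_mul_eq_mul_right (by omega) h2, ← e1, h.card b] at h4
    exact ⟨c, e1.symm, Nat.eq_of_mul_eq_mul_left (show 0 < l * (q * o[K]) by
      have := Nat.card_pos (α := K); have : 0 < q := by omega
      positivity) (by linarith), u, ou, n, i⟩
  obtain ⟨x, p, hp, pq, ox⟩ : ∃ x : G, ∃ p, p.Prime ∧ p ∣ q ∧ orderOf x = p := by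
    obtain ⟨p, hp, d⟩ := Nat.exists_prime_and_dvd (show q ≠ 1 by omega)
    have := Fact.mk hp
    obtain ⟨x, hx⟩ := exists_prime_orderOf_dvd_card' (G := G) p (h.card b ▸ (d.mul_right l).mul_left _)
    exact ⟨x, p, hp, d, hx⟩
  have := Fact.mk hp
  have hx : x ∈ PE G q := ⟨p, hp, pq, ox.ge.antisymm ox.le ▸ dvd_rfl⟩
  have hx' : x⁻¹ ∈ PE G q := ⟨p, hp, pq, by rw [orderOf_inv, ox]⟩
  have ord (w : G) (hw : w ∈ PE G q) : orderOf w = p := by
    have d : Disjoint {y | IsConj x y} {y | IsConj x⁻¹ y} := Set.disjoint_left.2 fun y h1 h2 => by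
      obtain ⟨g, hg⟩ := isConj_iff.1 (IsConj.trans h1 (IsConj.symm h2))
      obtain ⟨u, -, ⟨k, hk⟩, e⟩ := CfsgH1.exists_two_inverts hg
      have o := h.odd_cent (PE.ne_one hx) (not_cls b hx)
      refine ni hx (fun u1 => o ?_) (eq_one_of_coprime_order (isPGroup_zpowers (p := 2) (x := u) (k := k)
        (by rw [← hk, pow_orderOf_eq_one])) (mul_mem (mem_zpowers u) (mem_zpowers u))
        ((coprime_iff_not_dvd Nat.prime_two).2 fun d => o (d.trans (Subgroup.orderOf_dvd_natCard _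
          (mem_centralizer_singleton_iff.2 (mul_inv_eq_iff_eq_mul.1 ?_)))))) e
      · rw [u1, one_mul, inv_one, mul_one, eq_inv_iff_mul_eq_one] at e
        exact ord2 (PE.ne_one hx) e ▸ Subgroup.orderOf_dvd_natCard _ (self_mem_cent1 x)
      · calc _ = u * (u * x * u⁻¹) * u⁻¹ := by group
          _ = _ := by rw [e, ← conj_inv, e, inv_inv]
    have h1 := ncard_conj_mul_card_centralizer x
    have h2 := ncard_conj_mul_card_centralizer x⁻¹
    rw [h.cent_eq b dis cX g2 hx] at h1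
    rw [h.cent_eq b dis cX g2 hx'] at h2
    have e := Set.eq_of_subset_of_ncard_le (Set.union_subset (s := {y | IsConj x y}) (t := {y | IsConj x⁻¹ y})
      (fun y hy => PE.conj hx hy) fun y hy => PE.conj hx' hy) (by
      rw [Set.ncard_union_eq d]
      refine Nat.le_of_mul_le_mul_right (le_of_eq ?_) (show 0 < q by omega)
      obtain ⟨r, rfl⟩ : ∃ r, q = r + 1 := ⟨q - 1, by omega⟩
      rw [add_tsub_cancel_right] at g2
      zify at *
      linear_combination (r + 1) * cX - h1 - h2 - g2)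
    rcases e.ge hw with k | k <;> rw [← ord_isConj k]
    exacts [ox, (orderOf_inv x).trans ox]
  have sy (y : G) (hy : y ∈ PE G q) : Syl p C1[y] ⊤ := by
    have e := h.cent_eq b dis cX g2 hy
    refine ⟨le_top, isPGroup_of_exp fun w hw => ?_, fun d => hp.not_dvd_one ?_⟩
    · by_cases w1 : w = 1
      · simp [w1]
      · rw [← ord w (.of w1 (e ▸ Subgroup.orderOf_dvd_natCard _ hw)), pow_orderOf_eq_one]
    · have h1 := C1[y].card_mul_index
      rw [e, h.card b, mul_left_comm] at h1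
      rw [relIndex_top_right, Nat.eq_of_mul_eq_mul_left (by omega) h1] at d
      exact (b.c1.mul_right b.c3) ▸ Nat.dvd_gcd pq d
  have inX {R : Subgroup G} (hR : PG[p, R]) {y : G} (hy : y ∈ R) (y1 : y ≠ 1) : y ∈ PE G q := by
    obtain ⟨k, hk⟩ := pgroup_mem_order hR hy
    exact ⟨p, hp, pq, hk ▸ dvd_pow_self p fun e => y1 (orderOf_eq_one_iff.1 (by rw [hk, e, pow_zero]))⟩
  have der (L : Subgroup G) (o : ¬ 2 ∣ o[L]) : PG[p, (⁅L, L⁆ : Subgroup G)] := isPGroup_iff_piN.2 fun r hr d => by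
    have r2 : r ≠ 2 := fun e => o (e ▸ d.trans (card_dvd_of_le (comm_le_left le_normalizer)))
    have e := d.trans (card_subgroup_dvd_card _)
    rw [h.card b, hr.dvd_mul, hr.dvd_mul, hr.dvd_mul (m := q), Nat.prime_dvd_prime_iff_eq hr Nat.prime_two,
      or_iff_left r2] at e
    rcases e with e | e | e
    · exact absurd d (gd_der hr h.ab (fun g a ha a1 e => (h.gd ha a1 e).elim (fun e => mul_mem e e)
        fun e => h.out_sq e ▸ one_mem K) (h.nd b hr r2 e) o)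
    · obtain ⟨w, -, o'⟩ := exists_prime_order_mem hr d
      exact o'.symm.trans (ord w ⟨r, hr, e, o' ▸ dvd_rfl⟩)
    · obtain ⟨w, -, o'⟩ := exists_prime_order_mem hr d
      obtain ⟨c, e1, e2, -⟩ := hD w ⟨r, hr, e, o' ▸ dvd_rfl⟩
      refine absurd d (gd_der hr (fun _ ha _ hb => c.comm ha hb) (fun g a ha a1 e =>
        mem_subgroupOf.1 (mul_self_mem_of_index_two e2 ⟨g, c.mem_norm ha a1 e⟩)) (fun d => hr.not_dvd_one ?_) o)
      exact c.coprime_index ▸ Nat.dvd_gcd (e1 ▸ e) d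
  have ti := ti_of_der (p := p) fun R hR h0 => der N[R] fun d => by
    obtain ⟨w, hw, o⟩ := exists_prime_order_mem Nat.prime_two d
    obtain ⟨⟨y, hy⟩, y1⟩ := ne_bot_iff_exists_ne_one.1 h0
    refine ni (inX hR hy fun e => y1 (Subtype.ext e)) (inv_ne_one o) (inv_mul_self o)
      (CfsgH1.inv_of_fpf_involution hw (eq_bot_iff.2 fun a ⟨a1, a2⟩ => by_contra fun a3 => ?_) (inv_mul_self o) hy)
    have := inX hR a1 a3
    exact not_cls b this (h.cls_comm (h.cls_inv o) a3 (mem_centralizer_singleton_iff.1 a2))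
  have c : CC C1[x] := fun y hy y1 => ti (zpowers y) (by simpa using y1) _ _ (sy y (inX (sy x hx).pg hy y1)) (sy x hx)
    (zpowers_le.2 (self_mem_cent1 y)) (zpowers_le.2 hy)
  have e1 := h.cent_eq b dis cX g2 hx
  have e2 := nc _ c e1
  have s1 := sy x hx
  generalize C1[x] = Q at *
  by_cases l1 : l = 1
  · exact ⟨Q, ⊥, bwc_of (e1 ▸ g2) c (by simp) (by rw [card_bot]; omega) bot_le (by rw [e2, e1, l1, card_bot])
      fun e => absurd rfl e⟩
  obtain ⟨r, hr, d⟩ := Nat.exists_prime_and_dvd l1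
  obtain ⟨y, hy, o⟩ := exists_prime_order_mem hr (e2 ▸ d.mul_left q)
  obtain ⟨c', e3, e4, u, ou, n, i⟩ := hD y ⟨r, hr, d, o ▸ dvd_rfl⟩
  have uD : u ∉ C1[y] := fun e => ol ((ou ▸ e3 ▸ Subgroup.orderOf_dvd_natCard _ e).mul_left q)
  have e5 : o[N[Q]] = o[Q] * o[C1[y]] := by rw [e2, e1, e3]
  refine ⟨Q, _, bwc_of (e1 ▸ g2) c (fun _ ha _ hb => c'.comm ha hb) (by omega) (le_norm_of hy (cc_fpf c fun e =>
    hr.not_dvd_one (b.c3 ▸ Nat.dvd_gcd (o ▸ e1 ▸ Subgroup.orderOf_dvd_natCard _ e) d)) (fun m hm => ?_) inf_le_right e5)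
    e5 fun _ => ⟨u, ou, uD, i, fun X hX X0 => le_antisymm (fun g hg => ?_) (sup_le (fun g hg => mem_norm_of_conj
      fun a ha => by rwa [c'.comm hg (hX ha), mul_inv_cancel_right])
      (zpowers_le.2 (mem_norm_of_conj fun a ha => i a (hX ha) ▸ inv_mem ha)))⟩⟩
  · exact s1.le_of_norm' (der N[Q] (e2 ▸ ol)) le_top (comm_le_left le_normalizer) (commutator_mem_commutator hm hy)
  · obtain ⟨⟨a, ha⟩, a1⟩ := ne_bot_iff_exists_ne_one.1 X0
    have m := c'.mem_norm (hX ha) (fun e => a1 (Subtype.ext e)) (hX (conj_mem_of_norm hg ha))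
    by_cases k : g ∈ C1[y]
    · exact mem_sup_left k
    · exact (mul_mem_cancel_right (mem_sup_right (mem_zpowers u))).1 (mem_sup_left (mem_subgroupOf.1
        ((mul_mem_iff_of_index_two e4 (a := ⟨g, m⟩) (b := ⟨u, n⟩)).2 (iff_of_false k uD))))

end BW

theorem a5_pe : Disjoint (PE (alternatingGroup (Fin 5)) 5) (PE _ 3) ∧ (PE (alternatingGroup (Fin 5)) 5).ncard = 24 := by
  have k : ∀ x : alternatingGroup (Fin 5), x ^ 2 = 1 ∨ x ^ 3 = 1 ∨ x ^ 5 = 1 := by decide +kernel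
  have e (x : alternatingGroup (Fin 5)) {p : ℕ} (hp : p.Prime) : x ∈ PE _ p ↔ p ∣ orderOf x :=
    ⟨fun ⟨r, hr, a, b⟩ => (Nat.prime_dvd_prime_iff_eq hr hp).1 a ▸ b, fun d => ⟨p, hp, dvd_rfl, d⟩⟩
  refine ⟨Set.disjoint_left.2 fun x h1 h2 => ?_, ?_⟩
  · rw [e x (by norm_num)] at h1 h2
    rcases k x with d | d | d <;> have := orderOf_dvd_of_pow_eq_one d
    exacts [absurd (h1.trans this) (by norm_num), absurd (h1.trans this) (by norm_num),
      absurd (h2.trans this) (by norm_num)]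
  · rw [(show PE (alternatingGroup (Fin 5)) 5 = (Finset.univ.filter fun x => x ≠ 1 ∧ x ^ 5 = 1 :
      Finset (alternatingGroup (Fin 5))) from
      Set.ext fun x => ⟨fun hx => ?_, fun hx => ?_⟩), Set.ncard_coe_finset]
    · decide +kernel
    · refine Finset.mem_filter.2 ⟨by simp, PE.ne_one hx, ?_⟩
      rw [e x (by norm_num)] at hx
      rcases k x with d | d | d
      exacts [absurd (hx.trans (orderOf_dvd_of_pow_eq_one d)) (by norm_num),
        absurd (hx.trans (orderOf_dvd_of_pow_eq_one d)) (by norm_num), d]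
    · exact .of (Finset.mem_filter.1 hx).2.1 (orderOf_dvd_of_pow_eq_one (Finset.mem_filter.1 hx).2.2)

theorem BW.nums2 (h : BW t s K) (h2 : o[K] = 2) : ∃ q l,
    (q = 2 * o[K] + 1 ∧ l = o[K] + 1 ∨ q + 1 = 2 * o[K] ∧ l + 1 = o[K]) ∧
    C1[t].index = q * l ∧ Disjoint (PE G q) (PE G l) ∧ (PE G q).ncard + 1 = q ^ 2 := by
  have c4 : o[C1[t]] = 4 := by rw [h.cardC, h2]
  have k : K4 C1[t] := ⟨c4, fun x hx => (h.mem_C.1 hx).elim (fun e => by
    rw [← pow_two, ← h2]; exact orderOf_dvd_iff_pow_eq_one.1 (K.orderOf_dvd_natCard e)) h.out_sq⟩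
  have hs : Syl 2 C1[t] ⊤ := ⟨le_top, k.pg, by
    rw [relIndex_top_right, Nat.two_dvd_ne_zero, ← Nat.odd_iff]; exact h.odd_index⟩
  have sC : s ∈ C1[t] := h.mem_C.2 (.inr h.ss)
  have n : ¬ NPC 2 (⊤ : Subgroup G) := fun n => by
    obtain ⟨g, hg⟩ := isConj_iff.1 (h.cj s (ord2 (fun e => h.sK (e ▸ one_mem K)) h.os))
    obtain ⟨a, ha, u, hu, rfl⟩ := (mem_sup_of_norm' (le_top.trans le_norm_piCoreOf)).1 ((n.sup_eq hs).ge (mem_top g))
    have := mul_mem ha (conj_mem_of_norm (le_norm_piCoreOf (mem_top t)) (inv_mem ha))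
    rw [mul_assoc a, mem_centralizer_singleton_iff.1 hu] at hg
    rw [show a * (t * a⁻¹ * t⁻¹) = a * (t * u) * (a * u)⁻¹ * t⁻¹ by group, hg] at this
    have := (inf_eq_bot_of_piN (isPGroup_iff_piN.1 hs.pg) (piN_piCoreOf (M := ⊤))).le
      (mem_inf.2 ⟨mul_mem sC (inv_mem (self_mem_cent1 t)), this⟩)
    exact h.sK (mul_inv_eq_one.1 (mem_bot.1 this) ▸ h.tK)
  have hc : C1[t] ≤ C[C1[t]] := le_cent_of_comm k.ab le_rfl
  have hc' : C[C1[t]] ≤ C1[t] := centralizer_le (by simpa using self_mem_cent1 t)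
  have e := C1[t].card_mul_index
  rw [c4] at e
  rw [h2]
  by_cases f : N[C1[t]].normalCore = ⊥
  · obtain ⟨ε⟩ := k4_a5 hs k n (self_mem_cent1 t) h.ot hc f
    have e1 : Nat.card G = 60 := by
      rw [Nat.card_congr ε.toEquiv, nat_card_alternatingGroup, Nat.card_fin]; rfl
    have e2 (m : ℕ) : PE G m = ε ⁻¹' PE _ m := Set.ext fun x => by simp [PE]
    refine ⟨5, 3, .inl ⟨rfl, rfl⟩, by omega, by rw [e2, e2]; exact a5_pe.1.preimage ε, ?_⟩
    rw [e2, Set.ncard_preimage_of_injective_subset_range ε.injective (by simp [ε.surjective.range_eq]), a5_pe.2]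
    rfl
  have l := normalCore_le N[C1[t]]
  generalize hM : N[C1[t]].normalCore = M at *
  have : M.Normal := hM ▸ inferInstance
  obtain ⟨⟨v, v1, v2⟩, v3⟩ := ne_bot_iff_exists_ne_one.1 (show M ⊓ C1[t] ≠ ⊥ from fun e => f (by
    rw [← e, left_eq_inf]
    exact (le_cent_of_inf_eq_bot l (le_top.trans le_normalizer_of_normal) e).trans hc'))
  have l2 : C1[t] ≤ M := fun w hw => by
    by_cases w1 : w = 1
    · exact w1 ▸ one_mem M
    obtain ⟨g, rfl⟩ := isConj_iff.1 ((h.cj v (ord2 (fun e => v3 (Subtype.ext e)) (k.2 v v2))).symm.trans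
      (h.cj w (ord2 w1 (k.2 w hw))))
    exact this.conj_mem v v1 g
  have e1 := k4_idx3 hs k n
  rw [le_antisymm hc' hc, eq_top_iff.2 (le_normalizer_of_normal.trans ((hs.mono l2 le_top).norm_le_of_norm l)),
    relIndex_top_right] at e1
  have d : PE G 1 = ∅ := Set.eq_empty_of_forall_notMem fun x ⟨p, hp, a, _⟩ => hp.not_dvd_one a
  have := h.total (q := 3) (l := 1) (.of e1 (by omega) (by omega)) (by simp [d])
  rw [d, h2] at this
  exact ⟨3, 1, .inr ⟨rfl, rfl⟩, e1, by simp [d], by simp at this; omega⟩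

theorem BW.main (h : BW t s K) : ∃ Q D : Subgroup G, BWC Q D := by
  have ev : 2 ∣ o[K] := h.ot ▸ K.orderOf_dvd_natCard h.tK
  obtain ⟨q, l, c, n, dis, cX⟩ := (Nat.le_of_dvd Nat.card_pos ev).eq_or_lt.elim (fun e => h.nums2 e.symm) h.nums
  have b := BC.of n ev c
  have g2 : 2 * Nat.card G = q * (q + 1) * (q - 1) := by
    rw [h.card b]
    rcases c with ⟨rfl, rfl⟩ | ⟨a, b⟩
    · rw [add_tsub_cancel_right]; ring
    · rw [a, (by omega : q - 1 = 2 * l)]; ring
  rcases c with ⟨a, c⟩ | ⟨a, c⟩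
  exacts [let ⟨Q, e⟩ := h.plus b dis cX g2 a c; ⟨Q, K, e⟩, h.minus b dis cX g2 a c]

end CfsgL0
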