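import Cfsg.Agent.L0.BW4
import Cfsg.Agent.H8.Za14
import Cfsg.Agent.S0514

/-! The Brauer–Suzuki–Wall theorem: identification with `PSL₂(q)`. -/

namespace CfsgL0
open Function Subgroup Cfsg CfsgH2 CfsgH8 CfsgH8.Za MulAction

variable {G : Type*} [Group G] [Finite G] {t s : G} {K Q R S O : Subgroup G}

theorem zk_of_cc (c : CC Q) (hi : N[Q].index = o[Q] + 1) (h1 : 1 < o[Q]) : ∃ b, ZK ((1 : G) : G ⧸ N[Q]) b Q := by
  classical
  set a : G ⧸ N[Q] := ((1 : G) : G ⧸ N[Q])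
  have st (g : G) : g • a = a ↔ g ∈ N[Q] := by rw [← mem_stabilizer_iff, stabilizer_quotient]
  have fx (u : G) (hu : u ∈ Q) (u1 : u ≠ 1) (y : G ⧸ N[Q]) (e : u • y = y) : y = a := by
    obtain ⟨g, rfl⟩ := exists_smul_eq G a y
    have h2 : g⁻¹ * u * g⁻¹⁻¹ ∈ N[Q] := (st _).1 (by rw [inv_inv, mul_smul, mul_smul, e, inv_smul_smul])
    have h3 : g⁻¹ * u * g⁻¹⁻¹ ∈ Q := mem_of_pow_mem_coprime (n := Q.relIndex N[Q])
      (mem_subgroupOf.1 (pow_index_mem (Q.subgroupOf N[Q]) ⟨_, h2⟩)) (by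
        rw [orderOf_conj]
        exact (c.coprime_index.coprime_dvd_left (Q.orderOf_dvd_natCard hu)).coprime_dvd_right
          (relIndex_dvd_index_of_le le_normalizer))
    exact (st g).2 (inv_mem_iff.1 (c.mem_norm hu u1 h3))
  have tr (b : G ⧸ N[Q]) (hb : b ≠ a) (y : G ⧸ N[Q]) (hy : y ≠ a) : ∃ k ∈ Q, k • b = y := by
    let f : Q → {y // y ≠ a} := fun k => ⟨k.1 • b, fun e => hb (by
      rw [← inv_smul_smul k.1 b, e, (st _).2 (le_normalizer (inv_mem k.2))])⟩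
    have fi : Injective f := fun k m e => Subtype.ext (eq_comm.1 (inv_mul_eq_one.1 (by_contra fun n =>
      hb (fx _ (mul_mem (inv_mem m.2) k.2) n b (by
        rw [mul_smul, show k.1 • b = m.1 • b from congrArg Subtype.val e, inv_smul_smul])))))
    have := Fintype.ofFinite (G ⧸ N[Q])
    obtain ⟨k, hk⟩ := (fi.bijective_of_nat_card_le (by
      rw [Nat.card_eq_fintype_card, Fintype.card_subtype_compl, Fintype.card_subtype_eq, ← Nat.card_eq_fintype_card,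
        ← index, hi]; omega)).2 ⟨y, hy⟩
    exact ⟨k, k.2, congrArg Subtype.val hk⟩
  have three (g : G) (x y z : G ⧸ N[Q]) (h1 : x ≠ y) (h2 : y ≠ z) (h3 : x ≠ z) (e1 : g • x = x) (e2 : g • y = y)
      (e3 : g • z = z) : g = 1 := by
    obtain ⟨w, rfl⟩ := exists_smul_eq G a x
    have n (y : G ⧸ N[Q]) (h : w • a ≠ y) : w⁻¹ • y ≠ a := fun e => h (by rw [← e, smul_inv_smul])
    have f (y : G ⧸ N[Q]) (e : g • y = y) : (w⁻¹ * g * w) • w⁻¹ • y = w⁻¹ • y := by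
      rw [mul_smul, mul_smul, smul_inv_smul, e]
    obtain ⟨u, hu, e⟩ := tr _ (n y h1) _ (n z h3)
    have m : w⁻¹ * g * w ∈ N[Q] := (st _).1 (by simpa using f _ e1)
    have u1 : u ≠ 1 := fun e1 => h2 (by simpa [e1] using e)
    have k : u⁻¹ * (w⁻¹ * g * w * u * (w⁻¹ * g * w)⁻¹) = 1 := by_contra fun k =>
      n y h1 (fx _ (mul_mem (inv_mem hu) (conj_mem_of_norm m hu)) k _ (by
        rw [mul_smul, mul_smul, mul_smul, inv_smul_eq_iff.2 (f y e2).symm, e, f z e3, inv_smul_eq_iff, e]))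
    by_contra g1
    refine n y h1 (fx _ (c.mem_of_comm hu u1 (mul_inv_eq_iff_eq_mul.1 (inv_mul_eq_one.1 k).symm)) (fun e => g1 ?_) _
      (f y e2))
    rwa [mul_assoc, inv_mul_eq_one, eq_comm, mul_eq_right] at e
  have : Nontrivial (G ⧸ N[Q]) := Finite.one_lt_card_iff_nontrivial.1 (by rw [← index, hi]; omega)
  obtain ⟨b, hb⟩ := exists_ne a
  refine ⟨b, ⟨fun g hg => ?_, fun x y z w h1 h2 => ?_, three⟩, hb.symm, fun k hk => (st k).2 (le_normalizer hk),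
    fun g hg k hk => conj_mem_of_norm ((st g).1 hg) hk, tr b hb, fun k hk e => by_contra fun n => hb (fx k hk n b e)⟩
  · obtain ⟨x, -, y, -, z, -, h1, h2, h3⟩ := (Set.two_lt_ncard (s := (Set.univ : Set (G ⧸ N[Q])))).1 (by
      rw [Set.ncard_univ, ← index, hi]; omega)
    exact three g x y z h1 h3 h2 (hg x) (hg y) (hg z)
  · obtain ⟨u, rfl⟩ := exists_smul_eq G a x
    obtain ⟨v, rfl⟩ := exists_smul_eq G a z
    obtain ⟨k, hk, e⟩ := tr (u⁻¹ • y) (fun e => h1 (by rw [← e, smul_inv_smul])) (v⁻¹ • w)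
      fun e => h2 (by rw [← e, smul_inv_smul])
    exact ⟨v * k * u⁻¹, by rw [mul_smul, mul_smul, inv_smul_smul, (st k).2 (le_normalizer hk)],
      by rw [mul_smul, mul_smul, e, smul_inv_smul]⟩

theorem BW.psl [IsSimpleGroup G] (h : BW t s K) : ∃ (F : Type) (_ : Field F) (_ : Fintype F),
    (Fintype.card F = 2 * o[K] + 1 ∨ Fintype.card F + 1 = 2 * o[K]) ∧
      Nonempty (G ≃* Matrix.ProjectiveSpecialLinearGroup (Fin 2) F) := by
  have ev : 2 ∣ o[K] := h.ot ▸ K.orderOf_dvd_natCard h.tK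
  obtain ⟨q, l, c, n, -⟩ := (Nat.le_of_dvd Nat.card_pos ev).eq_or_lt.elim (fun e => h.nums2 e.symm) h.nums
  obtain ⟨Q, D, g1, cc, -, e1, e2, e3, -⟩ := h.main
  have p := Nat.card_pos (α := G)
  have q1 : 1 < o[Q] := by
    by_contra k
    rw [(by omega : o[Q] - 1 = 0)] at g1; omega
  have e4 := N[Q].card_mul_index
  rw [e3, card_sup_of_disj (.inr (e3 ▸ le_sup_right)) e2, ← e3] at e4
  have hi : N[Q].index = o[Q] + 1 := Nat.eq_of_mul_eq_mul_left (show 0 < 2 * (o[Q] * o[D]) by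
    have : 0 < o[D] := Nat.card_pos
    positivity) (by rw [mul_assoc, e4, g1, (by omega : o[Q] - 1 = 2 * o[D])]; ring)
  obtain ⟨b, k⟩ := zk_of_cc cc hi q1
  have e5 := k.card_G
  have hd : 2 * o[HH G ((1 : G) : G ⧸ N[Q]) b] = o[Q] - 1 :=
    Nat.eq_of_mul_eq_mul_left (show 0 < o[Q] * (o[Q] + 1) by positivity) (by rw [← g1, e5]; ring)
  obtain ⟨p, _, el⟩ := k.elem ((one_lt_card_iff_ne_bot _).1 q1) hd.ge
  obtain ⟨m, hm⟩ := IsPGroup.iff_card.1 (isPGroup_of_exp el.2)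
  have := Fintype.ofFinite (GaloisField p m)
  have hF : Fintype.card (GaloisField p m) = o[Q] := by
    rw [← Nat.card_eq_fintype_card, GaloisField.card p m (by rintro rfl; simp [hm] at q1), hm]
  refine ⟨GaloisField p m, inferInstance, this, ?_, ?_⟩
  · have g2 : 2 * Nat.card G = q * (q + 1) * (q - 1) := by
      rw [h.card (.of n ev c)]
      rcases c with ⟨rfl, rfl⟩ | ⟨a, b⟩
      · rw [add_tsub_cancel_right]; ring
      · rw [a, (by omega : q - 1 = 2 * l)]; ring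
    have mono {a b : ℕ} (h : a < b) (h1 : 1 < b) : a * (a + 1) * (a - 1) < b * (b + 1) * (b - 1) :=
      Nat.mul_lt_mul_of_lt_of_le (Nat.mul_lt_mul'' h (by omega)) (by omega) (by omega)
    have := Nat.le_of_dvd Nat.card_pos ev
    rcases lt_trichotomy q o[Q] with k | k | k
    · have := mono k q1; omega
    · omega
    · have := mono k (by omega); omega
  rcases k.zas_or with hz | ⟨M, R⟩
  · exact psl_of_half hz k hd _ hF
  have := R.card b
  rw [← index, hi] at this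
  rcases R.normal.eq_bot_or_eq_top with rfl | rfl
  · rw [card_bot] at this; omega
  · rw [card_top, e5, mul_eq_left₀ (by omega), mul_eq_one] at this; omega

theorem dih_conj {n : ℕ} (hn : 2 ≤ n) (hS : Syl 2 S ⊤) (e : S ≃* DihedralGroup n) (h : ∀ H : Subgroup G, H.index ≠ 2)
    (x y : G) (hx : orderOf x = 2) (hy : orderOf y = 2) : IsConj x y := by
  obtain ⟨r, -, -, hi, -⟩ := CfsgHv.dihedral_amb (by omega) e
  have k (x : G) (hx : orderOf x = 2) : ∃ g, g * x * g⁻¹ ∈ zpowers r := by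
    obtain ⟨g, -, hg⟩ := hS.exists_conj_le (isPGroup_zpowers (x := x) (k := 1) (by simp [← hx])) le_top
    by_contra! k
    obtain ⟨M, -, hM, -⟩ := thompson_transfer (Nat.odd_iff.2 (Nat.two_dvd_ne_zero.1 (relIndex_top_right S ▸ hS.nd))) hi
      (inv_mul_self ((orderOf_conj g x).trans hx)) (hg ⟨x, mem_zpowers x, rfl⟩) fun w e => k (w * g) (by
        convert e using 1; simp [mul_assoc])
    exact h M hM
  obtain ⟨g, hg⟩ := k x hx
  obtain ⟨w, hw⟩ := k y hy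
  exact (isConj_iff.2 ⟨g, eq_of_orderOf_two inferInstance hg hw ((orderOf_conj g x).trans hx)
    ((orderOf_conj w y).trans hy)⟩).trans (isConj_iff.2 ⟨w, rfl⟩).symm

theorem dih_out {n : ℕ} (hn : 2 ≤ n) (e : S ≃* DihedralGroup n) (l : R ≤ S) (c : Cyc[R]) (i : R.relIndex S = 2)
    {y : G} (hy : y ∈ S) (h1 : y ∉ R) : y * y = 1 := by
  obtain ⟨r, hr, o, hi, -, h⟩ := CfsgHv.dihedral_amb (by omega) e
  have e1 := card_mul_relIndex l
  have e2 := card_mul_relIndex (zpowers_le.2 hr)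
  rw [i] at e1
  rw [hi] at e2
  by_cases y1 : y ∈ zpowers r
  swap; · rw [← pow_two, (h y hy y1).1]
  obtain ⟨g, rfl⟩ := (Subgroup.isCyclic_iff_exists_zpowers_eq_top R).1 c
  by_cases g1 : g ∈ zpowers r
  · exact absurd (eq_of_le_of_card_ge (zpowers_le.2 g1) (by omega) ▸ y1) h1
  have := Nat.le_of_dvd two_pos (orderOf_dvd_of_pow_eq_one (h g (l (mem_zpowers g)) g1).1)
  rw [Nat.card_zpowers] at e1 e2
  rw [← pow_two, ← orderOf_dvd_iff_pow_eq_one, ← (by omega : orderOf r = 2)]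
  exact orderOf_dvd_of_mem_zpowers y1

theorem bw_of (ht : orderOf t = 2) (cj : ∀ x y : G, orderOf x = 2 → orderOf y = 2 → IsConj x y) (pS : PG[2, S])
    (oO : ¬ 2 ∣ o[O]) (e : O ⊔ S = C1[t]) (n : S ≤ N[O]) (l : R ≤ S) (c : Cyc[R]) (i : R.relIndex S = 2) (tR : t ∈ R)
    (sq : ∀ y ∈ S, y ∉ R → y * y = 1) (cO : R ≤ C[O]) (iO : ∀ s ∈ S, s ∉ R → ∀ y ∈ O, s * y * s⁻¹ = y⁻¹)
    (hc : ∀ Y ≤ O, Y ≠ ⊥ → N[Y] ≤ C1[t]) : ∃ s, BW t s (O ⊔ R) := by
  obtain ⟨s, sS, sR, hs⟩ := relIndex_eq_two_iff_exists_notMem_and.1 i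
  have d {x : G} (h1 : x ∈ O) (h2 : x ∈ S) : x = 1 :=
    mem_bot.1 ((inf_eq_bot_of_coprime' (coprime_of_pgroup pS oO)).le ⟨h2, h1⟩)
  have m {x : G} (hx : x ∈ O ⊔ R) : ∃ a ∈ O, ∃ b ∈ R, a * b = x := (mem_sup_of_norm' (l.trans n)).1 hx
  have cm {a b : G} (ha : a ∈ O) (hb : b ∈ R) : Commute a b := mem_centralizer_iff.1 (cO hb) a ha
  have inv (x : G) (hx : x ∈ O ⊔ R) : s * x * s⁻¹ = x⁻¹ := by
    obtain ⟨a, ha, b, hb, rfl⟩ := m hx
    have := sq _ (mul_mem sS (l hb)) fun e => sR ((mul_mem_cancel_right hb).1 e)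
    rw [← conj_mul, iO s sS sR a ha, (cm ha hb).eq, mul_inv_rev, mul_right_inj,
      inv_eq_of_mul_eq_one_right (sq s sS sR), eq_inv_iff_mul_eq_one, mul_assoc, this]
  have ab (a : G) (ha : a ∈ O ⊔ R) (b : G) (hb : b ∈ O ⊔ R) : a * b = b * a := inv_injective (by
    rw [← inv _ (mul_mem ha hb), ← conj_mul, inv a ha, inv b hb, mul_inv_rev])
  have od {y : G} {p : ℕ} (hy : y ∈ O ⊔ R) (o : orderOf y = p) (hp : p.Coprime 2) : y ∈ O := by
    obtain ⟨a, ha, b, hb, rfl⟩ := m hy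
    have h1 := pow_orderOf_eq_one (a * b)
    rw [(cm ha hb).mul_pow, o, mul_eq_one_iff_inv_eq] at h1
    rwa [eq_one_of_coprime_order pS (l hb) (hp.coprime_dvd_left (orderOf_dvd_of_pow_eq_one
      (d (h1 ▸ inv_mem (pow_mem ha p)) (pow_mem (l hb) p)))), mul_one]
  have uni (y : G) (hy : y ∈ O ⊔ R) (y2 : y * y = 1) : y = 1 ∨ y = t := by
    obtain ⟨a, ha, b, hb, rfl⟩ := m hy
    rw [← pow_two, (cm ha hb).mul_pow, mul_eq_one_iff_eq_inv] at y2
    have a2 := d (pow_mem ha 2) (y2 ▸ inv_mem (pow_mem (l hb) 2))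
    obtain rfl : a = 1 := by_contra fun a1 => oO (orderOf_eq_prime a2 a1 ▸ O.orderOf_dvd_natCard ha)
    rw [one_mul, or_iff_not_imp_left]
    exact fun b1 => eq_of_orderOf_two c hb tR (orderOf_eq_prime (inv_eq_one.1 (y2.symm.trans a2)) b1) ht
  have cen (g : G) (hg : g * t = t * g) : g ∈ O ⊔ R ∨ g * s ∈ O ⊔ R := by
    obtain ⟨a, ha, b, hb, rfl⟩ := (mem_sup_of_norm' n).1 (e.ge (mem_centralizer_singleton_iff.2 hg))
    exact (hs b hb).symm.imp (fun h => mul_mem (mem_sup_left ha) (mem_sup_right h))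
      fun h => mul_assoc a b s ▸ mul_mem (mem_sup_left ha) (mem_sup_right h)
  refine ⟨s, ht, ab, mem_sup_right tR, sq s sS sR, fun h => ?_, cen, uni, inv, fun g y hy y1 h => ?_,
    fun x hx => cj t x ht hx⟩
  · obtain ⟨a, ha, b, hb, e⟩ := m h
    rw [d ha ((mul_mem_cancel_right (l hb)).1 (e.symm ▸ sS)), one_mul] at e
    exact sR (e ▸ hb)
  obtain ⟨p, hp, dp⟩ := Nat.exists_prime_and_dvd (mt orderOf_eq_one_iff.1 y1)
  obtain ⟨_, ⟨j, rfl⟩, o⟩ := exists_prime_order_mem (H := zpowers y) hp (Nat.card_zpowers y ▸ dp)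
  have h1 := zpow_mem hy j
  have h2 := zpow_mem h j
  rw [conj_zpow] at h2
  beta_reduce at o
  generalize y ^ j = w at *
  have o' := (orderOf_conj g w).trans o
  have u {x : G} (hx : x ∈ O ⊔ R) (o : orderOf x = 2) : x = t := (uni x hx (inv_mul_self o)).resolve_left (inv_ne_one o)
  refine mul_inv_eq_iff_eq_mul.1 ?_
  by_cases p2 : p = 2
  · exact (u h1 (o.trans p2) ▸ u h2 (o'.trans p2) :)
  have cp := (Nat.coprime_primes hp Nat.prime_two).2 p2
  have c1 : g * t * g⁻¹ * (g * w * g⁻¹) = g * w * g⁻¹ * (g * t * g⁻¹) := by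
    rw [conj_mul, conj_mul, ab _ (mem_sup_right tR) _ h1]
  refine u ((cen _ (mem_centralizer_singleton_iff.1 (hc (zpowers (g * w * g⁻¹)) (zpowers_le.2 (od h2 o' cp))
    (fun e => hp.ne_one (by rw [← o', zpowers_eq_bot.1 e, orderOf_one])) (CfsgH2.cent_le_norm _
      (by rw [cent_zpowers]; exact mem_centralizer_singleton_iff.2 c1))))).resolve_right fun k => p2 ?_) ((orderOf_conj g t).trans ht)
  have h3 := ab _ k _ h2
  rw [mul_assoc, mul_inv_eq_iff_eq_mul.1 (inv _ h2), ← mul_assoc, ← mul_assoc, mul_left_inj, ← c1, mul_right_inj,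
    inv_eq_iff_mul_eq_one] at h3
  exact o'.symm.trans (ord2 (fun e => hp.ne_one (by rw [← o', e, orderOf_one])) h3)

theorem bw_dih [IsSimpleGroup G] (S : Sylow 2 G) {n : ℕ} (hn : 2 ≤ n) (e : (S : Subgroup G) ≃* DihedralGroup n)
    (ht : orderOf t = 2) (htS : t ∈ (S : Subgroup G)) (htZ : ∀ s ∈ (S : Subgroup G), s * t = t * s)
    (hO : O = O[{2}ᶜ, C1[t]])
    (ha : O ≠ ⊥ → Cyc[(S : Subgroup G) ⊓ C[O]] ∧ ((S : Subgroup G) ⊓ C[O]).relIndex S = 2)
    (hb : ∀ s ∈ (S : Subgroup G), s ∉ C[O] → ∀ y ∈ O, s * y * s⁻¹ = y⁻¹) (hc : ∀ Y ≤ O, Y ≠ ⊥ → N[Y] ≤ C1[t]) :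
    ∃ s R, R ≤ (S : Subgroup G) ∧ R.relIndex S = 2 ∧ BW t s (O ⊔ R) := by
  have cS : o[(S : Subgroup G)] = 2 * n := by rw [Nat.card_congr e.toEquiv, DihedralGroup.nat_card]
  have l : (S : Subgroup G) ≤ C1[t] := fun s hs => mem_centralizer_singleton_iff.2 (htZ s hs)
  have cj := dih_conj hn (syl_top S) e (simple_even_facts (even_iff_two_dvd.2 (ht ▸ orderOf_dvd_natCard t))
    (lt_of_lt_of_le (by omega) (card_le_card_group (S : Subgroup G)))).2.1
  have n1 : C1[t] ≤ N[O] := hO ▸ le_norm_piCoreOf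
  have e1 : O ⊔ S = C1[t] := by
    obtain ⟨N, hN, o, k, hk⟩ := Cfsg.Agent.S0514.result S n hn ⟨e⟩ t ht
    have h1 : N ≤ pPrimeCore 2 C1[t] := le_pPrimeCore (Nat.two_dvd_ne_zero.2 (Nat.odd_iff.1 o))
    refine ((syl_top S).mono l le_top).sup_eq_of_index (hO ▸ piCoreOf_le)
      (((piN_singleton Nat.prime_two index_ne_zero_of_finite).2 ⟨k, hk⟩).of_dvd ?_)
    rw [hO, ← map_pPrimeCore_subtype, relIndex, subgroupOf, comap_map_eq_self_of_injective (subtype_injective _)]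
    exact index_dvd_of_le h1
  obtain ⟨R, h1, h2, h3, h4, h5, h6⟩ : ∃ R ≤ (S : Subgroup G), Cyc[R] ∧ R.relIndex S = 2 ∧ t ∈ R ∧ R ≤ C[O] ∧
      ∀ s ∈ (S : Subgroup G), s ∉ R → ∀ y ∈ O, s * y * s⁻¹ = y⁻¹ := by
    by_cases h0 : O = ⊥
    swap
    · exact ⟨_, inf_le_left, (ha h0).1, (ha h0).2, ⟨htS, le_cent1_iff.1 (hO ▸ piCoreOf_le)⟩, inf_le_right,
        fun s hs k => hb s hs fun e => k ⟨hs, e⟩⟩
    suffices ∃ R ≤ (S : Subgroup G), Cyc[R] ∧ R.relIndex S = 2 ∧ t ∈ R from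
      let ⟨R, a, b, c, d⟩ := this
      ⟨R, a, b, c, d, fun x _ => mem_centralizer_iff.2 (by simp [h0]), by simp [h0]⟩
    obtain ⟨r, hr, o, hi, -, h⟩ := CfsgHv.dihedral_amb (by omega) e
    by_cases k : t ∈ zpowers r
    · exact ⟨_, zpowers_le.2 hr, inferInstance, hi, k⟩
    refine ⟨_, zpowers_le.2 htS, inferInstance, ?_, mem_zpowers t⟩
    have h1 := (h t htS k).2
    rw [← htZ r hr, mul_inv_cancel_right, eq_inv_iff_mul_eq_one, ← pow_two] at h1
    have h2 := Nat.le_of_dvd two_pos (orderOf_dvd_of_pow_eq_one h1)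
    have h3 := card_mul_relIndex (zpowers_le.2 htS)
    rw [Nat.card_zpowers, ht] at h3
    omega
  obtain ⟨s, h⟩ := bw_of ht cj S.isPGroup' (hO ▸ not_dvd_piCoreOf) e1 (l.trans n1) h1 h2 h3 h4
    (fun y => dih_out hn e h1 h2 h3) h5 h6 hc
  exact ⟨s, R, h1, h3, h⟩

end CfsgL0
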