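import Cfsg.Agent.L0.NCS2
import Cfsg.Agent.H3.Sm1
import Cfsg.Agent.H8.Za17
import Cfsg.Agent.H8.PslC

/-! Simple groups with a Sylow 2-subgroup of order 8 that is an involution centralizer. -/

namespace CfsgL0
open Function Subgroup Cfsg CfsgH2 CfsgH8 CfsgH8.Za

variable {G : Type*} [Group G] [Finite G] [IsSimpleGroup G] {S : Subgroup G}

theorem simple_k4 (hS : Syl 2 S ⊤) (h2 : 2 < Nat.card G) (ev : 2 ∣ Nat.card G) : ∃ V ≤ S, K4 V := by
  obtain ⟨x, y, ox, oy, c, xy⟩ : ∃ x y : G, orderOf x = 2 ∧ orderOf y = 2 ∧ Commute x y ∧ x ≠ y := by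
    by_contra! k
    obtain ⟨t, ht⟩ := exists_prime_orderOf_dvd_card' 2 ev
    exact inv_ne_one ht (mem_bot.1 ((simple_even_facts (even_iff_two_dvd.2 ev) h2).1 ▸
      CfsgH4.brauer_suzuki k (CfsgSm.core_bot ev) ht))
  have V := k4_of (inv_mul_self ox) (inv_ne_one ox) (inv_mul_self oy)
    (fun e => (zpowers_two (inv_mul_self ox) e).elim (inv_ne_one oy) xy.symm) c.symm
  obtain ⟨g, -, hg⟩ := hS.exists_conj_le V.pg le_top
  exact ⟨_, hg, V.map (CfsgH2.cj_injective g)⟩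

theorem c8_psl (hS : Syl 2 S ⊤) (h8 : o[S] = 8) (h : ∀ z ∈ Z[S], orderOf z = 2 → C1[z] ≤ S) :
    ∃ (F : Type) (_ : Field F) (_ : Fintype F), (Fintype.card F = 7 ∨ Fintype.card F = 9 ∨ Fintype.card F % 2 = 0) ∧
      Nonempty (G ≃* Matrix.ProjectiveSpecialLinearGroup (Fin 2) F) := by
  have d : 2 ∣ o[S] := by omega
  have ev := d.trans S.card_subgroup_dvd_card
  have g2 : 2 < Nat.card G := lt_of_lt_of_le (by omega) (card_le_card_group S)
  obtain ⟨-, i2, ns⟩ := simple_even_facts (even_iff_two_dvd.2 ev) g2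
  obtain ⟨V, l, hV⟩ := simple_k4 hS g2 ev
  obtain ⟨z, zS, oz⟩ : ∃ z ∈ Z[S], orderOf z = 2 := exists_prime_order_mem Nat.prime_two
    (dvd_card_of_pgroup (hS.pg.to_le inf_le_left) (center_ne_bot hS.pg (hS.ne_bot (by rwa [card_top]))))
  have e : C1[z] = S := (h z zS oz).antisymm (le_cent1_iff.2 zS.2)
  by_cases c : V ≤ C[S]
  · have ab : S ≤ C[S] := by
      have h1 := card_mul_relIndex l
      rw [hV.1, h8] at h1
      obtain ⟨s, sS, sV⟩ := SetLike.not_le_iff_exists.1 fun e : S ≤ V => by have := card_le_of_le e; rw [hV.1] at this; omega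
      have h2 := eq_sup_of_two l (by omega) (zpowers_le.2 sS) fun e => sV (e (mem_zpowers s))
      exact h2.ge.trans (sup_le c (zpowers_le.2 (le_cent1_iff.1 (h2.ge.trans (sup_le
        (fun x hx => mem_centralizer_singleton_iff.2 (mem_centralizer_iff.1 (c hx) s sS).symm)
        (zpowers_le.2 (mem_centralizer_singleton_iff.2 rfl)))))))
    have k {t : G} (ht : t ∈ S) (o : orderOf t = 2) : C1[t] = S := (h t ⟨ht, ab ht⟩ o).antisymm (le_cent1_iff.2 (ab ht))
    obtain ⟨y, yV, yz⟩ : ∃ y ∈ V, y ∉ zpowers z := by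
      by_contra! k
      have := card_le_of_le (show V ≤ zpowers z from k)
      rw [hV.1, Nat.card_zpowers, oz] at this
      omega
    refine (fun ⟨_, _, F, _, _, ⟨n, h1, h2⟩, h3⟩ => ⟨F, inferInstance, inferInstance, .inr (.inr (by
      rw [h2]; exact Nat.mod_eq_zero_of_dvd (dvd_pow_self 2 (by omega)))), h3⟩) (AT.base (z := z) (y := y) ⟨fun t ht => ?_, oz,
      ord2 (fun e => yz (e ▸ one_mem _)) (hV.2 y yV), fun e => yz (e ▸ mem_zpowers _), e.ge (l yV),
      Nat.odd_iff.2 (Nat.two_dvd_ne_zero.1 (e ▸ relIndex_top_right S ▸ hS.nd)), ?_⟩ fun a ha a1 => ?_)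
    · obtain ⟨w, hw, k1⟩ := exists_isConj_mem (k := 1) hS ht
      obtain ⟨g, rfl⟩ := isConj_iff.1 k1
      rw [centralizer_conj, k hw ((orderOf_conj g w).symm.trans ht)]
      exact isMulComm_map _ (isMulComm_iff.2 fun a ha b hb => mem_centralizer_iff.1 (ab hb) a ha)
    · by_contra! k1
      have h1 : normalClosure {z} ≤ S := closure_le _ |>.2 fun x hx => by
        obtain ⟨w, hw, hx⟩ := Group.mem_conjugatesOfSet_iff.1 hx
        obtain ⟨g, rfl⟩ := isConj_iff.1 hx
        exact e.le (hw ▸ k1 g)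
      rcases (normalClosure_normal (s := {z})).eq_bot_or_eq_top with h2 | h2
      · exact inv_ne_one oz (mem_bot.1 (h2 ▸ subset_normalClosure rfl))
      · have := ((hS.pg.to_le (h2.ge.trans h1)).of_equiv topEquiv).isNilpotent
        exact ns inferInstance
    · rw [e] at ha ⊢
      obtain ⟨_, ⟨j, rfl⟩, o⟩ := exists_prime_order_mem Nat.prime_two
        (dvd_card_of_pgroup (hS.pg.to_le (zpowers_le.2 ha)) (zpowers_ne_bot.2 a1))
      exact fun x hx => le_normalizer ((k (zpow_mem ha j) o).le (mem_centralizer_singleton_iff.2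
        (Commute.zpow_right (mem_centralizer_singleton_iff.1 hx) j)))
  obtain ⟨n, hn, ⟨f⟩⟩ : ∃ n, n = 4 ∧ Nonempty (S ≃* DihedralGroup n) := by
    obtain ⟨x, xV, hx⟩ := SetLike.not_le_iff_exists.1 c
    have h1 : V.subgroupOf S ≤ C1[(⟨x, l xV⟩ : S)] := fun g hg =>
      mem_centralizer_singleton_iff.2 (Subtype.ext (comm_of_isMulComm hV.ab hg xV))
    have h2 : _ ∣ o[C1[(⟨x, l xV⟩ : S)]] := card_dvd_of_le h1
    have h3 : _ ∣ o[(S : Subgroup G)] := C1[(⟨x, l xV⟩ : S)].card_subgroup_dvd_card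
    have h4 : o[C1[(⟨x, l xV⟩ : S)]] ≠ o[(S : Subgroup G)] := fun e => hx (mem_centralizer_iff.2 fun y hy =>
      congrArg Subtype.val (mem_centralizer_singleton_iff.1 ((eq_top_of_card_eq _ e).ge (mem_top (⟨y, hy⟩ : S)))))
    rw [Nat.card_congr (subgroupOfEquivOfLe l).toEquiv, hV.1] at h2
    rw [h8] at h3 h4
    rcases Cfsg.Agent.S3224.result hS.pg ⟨x, l xV⟩ ((orderOf_mk ..).trans
      (ord2 (fun e => hx (e ▸ one_mem _)) (hV.2 x xV))) (by
        have := Nat.le_of_dvd (by norm_num) h3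
        have := Nat.pos_of_dvd_of_pos h3 (by norm_num)
        omega) with ⟨n, ⟨e⟩⟩ | e | e
    · exact ⟨n, by rw [Nat.card_congr e.toEquiv, DihedralGroup.nat_card] at h8; omega, ⟨e⟩⟩
    · obtain ⟨a, b, m, s⟩ := sd_of' e
      have := Nat.pow_le_pow_right two_pos (Nat.add_le_add_right s.two 2)
      rw [← s.card] at this
      omega
    · omega
  obtain ⟨S, rfl⟩ := hS.exists_top
  obtain ⟨s, R, lR, iR, w⟩ := bw_dih S (by omega) f oz zS.1 (fun s hs => mem_centralizer_iff.1 zS.2 s hs)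
    (eq_bot_of_pgroup_of_not_dvd (S.isPGroup'.to_le (piCoreOf_le.trans e.le)) not_dvd_piCoreOf).symm
    (fun e => (e rfl).elim) (by simp) fun Y hY e => (e (le_bot_iff.1 hY)).elim
  obtain ⟨F, _, _, h1, h2⟩ := w.psl
  have := card_mul_relIndex lR
  rw [bot_sup_eq] at h1
  rw [iR] at this
  exact ⟨F, inferInstance, inferInstance, by omega, h2⟩

theorem c8_504 (h : Nat.card G = 504) {w : G} (hw : orderOf w = 2) (h0 : 8 ∣ o[C1[w]]) : o[C1[w]] = 8 := by
  have hG := CfsgSm.nc (G := G) (by rw [h]; norm_num)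
  have := Fact.mk Nat.prime_seven
  obtain ⟨M, _, u, e, X, y, ε, δ, n, c, H, h1, h2, h3, h4, h5, h6, h7⟩ :=
    CfsgSm.setup (p := 7) hG (m := 72) h (by norm_num)
  have d : n ∣ 72 := Dvd.intro_left (e * c) (by rw [← h3]; ring)
  have := Nat.le_of_dvd (by norm_num) d
  have h8 := Nat.le_of_dvd (by norm_num) h5
  have : n = 8 ∨ n = 36 := by interval_cases n <;> omega
  rcases this with rfl | rfl
  · obtain rfl : e = 3 := by interval_cases e <;> omega
    obtain ⟨χ, hχ, c1⟩ := Finset.exists_mem_ne (by rw [H.cardX]; norm_num) (CfsgH4.irrOne G)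
    obtain ⟨-, a, b, k⟩ := CfsgSm.dX hG H hχ c1
    have := CfsgSm.big hG H (by omega) (H.memX hχ) c1
    rw [h1] at a
    have := Nat.le_of_dvd (by norm_num) a
    generalize charDegree χ.1 = d at *
    interval_cases d <;> omega
  obtain rfl : e = 2 := by interval_cases e <;> omega
  obtain ⟨d, f, s, a1, a2, a3, a4, a5, -, a6, a7⟩ := CfsgSm.two hG H rfl
  rw [h1] at a3 a4
  rw [h] at a5 a7
  have : d < 23 := by nlinarith
  obtain ⟨rfl, rfl, rfl⟩ : d = 8 ∧ f = 9 ∧ s = 1 := by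
    rcases a6 with ⟨rfl, rfl, a⟩ | ⟨rfl, a, b⟩
    · obtain rfl : d = 8 := by interval_cases d <;> omega
      exact ⟨rfl, rfl, rfl⟩
    · exfalso
      subst a
      have : f < 22 := by omega
      interval_cases f <;> omega
  obtain ⟨K, a, b1, -, b3⟩ := a7 (CfsgSm.eqC H (by omega)) w hw
  obtain ⟨m, hm⟩ := h0
  have b4 : (K * m ^ 2 : ℕ) * 32 = 21 * (8 - a) ^ 2 := by rw [hm] at b3; push_cast at b3 ⊢; linarith
  obtain ⟨b1, b2⟩ := abs_lt.1 b1
  have b5 : K * m ^ 2 = 42 := by interval_cases a <;> omega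
  have : m < 7 := by rcases K with _ | K <;> nlinarith
  interval_cases m <;> omega

theorem psl_504 (h : Nat.card G = 504) {F : Type*} [Field F] [Fintype F] (hF : Fintype.card F = 8) :
    Nonempty (G ≃* Matrix.ProjectiveSpecialLinearGroup (Fin 2) F) := by
  obtain ⟨S, hS⟩ := exists_syl 2 (⊤ : Subgroup G)
  have h8 : o[S] = 8 := by rw [hS.card_eq, card_top, h]; decide +kernel
  obtain ⟨E, _, _, h1, ⟨e⟩⟩ := c8_psl hS h8 fun z hz oz => (eq_of_le_of_card_ge (le_cent1_iff.2 hz.2)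
    (by rw [c8_504 h oz (h8 ▸ card_dvd_of_le (le_cent1_iff.2 hz.2)), h8])).ge
  have h2 := card_PSL2 (F := E)
  rw [← Nat.card_congr e.toEquiv, h] at h2
  refine (psl_congr ?_).map e.trans
  rw [hF]
  rcases h1 with h1 | h1 | h1
  · rw [h1] at h2; norm_num at h2
  · rw [h1] at h2; norm_num at h2
  have h3 : 1 < Fintype.card E := Fintype.one_lt_card
  rw [(show Nat.gcd 2 _ = 1 from (Nat.coprime_two_left.2 (Nat.odd_iff.2 (by omega))))] at h2
  generalize Fintype.card E = q at *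
  have : q < 9 := by
    by_contra k
    have := Nat.mul_le_mul (not_lt.1 k) (Nat.sub_le_sub_right (Nat.pow_le_pow_left (not_lt.1 k) 2) 1)
    omega
  interval_cases q <;> omega

end CfsgL0
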