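import Cfsg.Agent.L0.CD
import Cfsg.Agent.H1.Coprime

/-! A minimal centrally large subgroup normalized by `J(P)` and `P_MCL`. -/

namespace CfsgL0
open Subgroup Function Cfsg CfsgH2 CfsgH1
open scoped commutatorElement

theorem card_le_of_fiber {X Y G : Type*} [Group G] [Finite Y] [Finite G] (K : Subgroup G) (f : X → Y) (g : X → G)
    (h1 : ∀ x x', f x = f x' → (g x')⁻¹ * g x ∈ K) (h2 : ∀ x x', f x = f x' → g x = g x' → x = x') :
    Nat.card X ≤ Nat.card Y * Nat.card K := by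
  classical
  rw [← Nat.card_prod]
  let s : X → X := fun x => Classical.choose (⟨x, rfl⟩ : ∃ x', f x' = f x)
  have hs : ∀ x, f (s x) = f x := fun x => Classical.choose_spec (⟨x, rfl⟩ : ∃ x', f x' = f x)
  have hs2 : ∀ x x', f x = f x' → s x = s x' := fun x x' h => by simp only [s, h]
  refine Nat.card_le_card_of_injective (fun x => (f x, (⟨(g (s x))⁻¹ * g x, h1 _ _ (hs x).symm⟩ : K))) ?_
  intro x x' h
  simp only [Prod.mk.injEq, Subtype.mk.injEq] at h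
  refine h2 _ _ h.1 ?_
  have := h.2
  rw [hs2 _ _ h.1] at this
  exact mul_left_cancel this

variable {G : Type*} [Group G] [Finite G] {A B M Q R U W X Y Z : Subgroup G}

/-- abelian members of the Chermak–Delgado lattice of the largest order -/
def CDZ (Z : Subgroup G) : Prop := CD Z ∧ Ab[Z] ∧ ∀ X : Subgroup G, CD X → Ab[X] → o[X] ≤ o[Z]

theorem mcl_cdz (hQ : IsMinimalCentrallyLarge Q) : CDZ C[Q] := by
  refine ⟨(CL.cd hQ.1).cent, CL.ab hQ.1, fun X h1 h2 => ?_⟩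
  obtain ⟨R, h3, h4⟩ := exists_mcl (h1.cl_cent h2)
  rw [(mcl_card hQ h4).2]
  exact card_le_of_le (le_centralizer_iff.1 h3)

theorem CDZ.mcl (h : CDZ Z) : IsMinimalCentrallyLarge C[Z] := by
  obtain ⟨R, h3, h4⟩ := exists_mcl (h.1.cl_cent h.2.1)
  have h5 := mcl_cdz h4
  have : Z = C[R] := eq_of_le_of_card_ge (le_centralizer_iff.1 h3) (h.2.2 _ h5.1 h5.2.1)
  rw [this, (CL.cd h4.1).cent_cent]; exact h4

theorem CDZ.cj (h : CDZ Z) (g : G) : CDZ (Z.map (CfsgH2.cj g)) :=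
  ⟨h.1.cj g, by have := h.2.1; infer_instance, fun X h1 h2 => by rw [card_map_cj]; exact h.2.2 X h1 h2⟩

theorem CDZ.inf_cent_le (h : CDZ Z) (hY : CD Y) (hab : Ab[Y]) : (Z ⊔ Y) ⊓ C[Z] ≤ Z := by
  have h1 : Y ⊓ C[Z] ≤ Z := by
    have e : Z = (Y ⊓ C[Z]) ⊔ Z := eq_of_le_of_card_ge le_sup_right (h.2.2 _ ((hY.inf h.1.cent).sup h.1)
      (isMulComm_sup (isMulComm_of_le hab inf_le_left) h.2.1 inf_le_right))
    exact le_sup_left.trans e.ge
  intro x hx
  obtain ⟨a, ha, b, hb, rfl⟩ := (h.1.fac hY).exists hx.1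
  have := Subgroup.mul_mem _ (Subgroup.inv_mem _ (le_cent_of_comm h.2.1 le_rfl ha)) hx.2
  exact Z.mul_mem ha (h1 ⟨hb, by simpa using this⟩)

theorem CDZ.replace [Group.IsNilpotent G] (h : CDZ Z) (hW : Ab[W]) (hf : Fac Z W U) (hn : ¬ W ≤ N[Z]) :
    ∃ D, CDZ D ∧ ∑ i ∈ Finset.range (Group.nilpotencyClass G + 1), o[Z ⊓ Subgroup.upperCentralSeries G i] <
      ∑ i ∈ Finset.range (Group.nilpotencyClass G + 1), o[D ⊓ Subgroup.upperCentralSeries G i] := by
  have hlt : U ⊓ N[Z] < U := lt_of_le_of_ne inf_le_left fun e => hn (hf.right_le.trans (e.ge.trans inf_le_right))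
  obtain ⟨u, hu, hu'⟩ := SetLike.exists_of_lt (lt_normalizer_inf_of_isNilpotent hlt)
  have hZN : Z ≤ U ⊓ N[Z] := le_inf hf.left_le le_normalizer
  obtain ⟨z, hz, w, hw, rfl⟩ := hf.exists hu.2
  have hw1 : w ∈ N[(U ⊓ N[Z] : Subgroup G)] := by
    have := Subgroup.mul_mem _ (Subgroup.inv_mem _ (le_normalizer (hZN hz))) hu.1
    simpa using this
  have hw2 : w ∉ N[Z] := fun hh => hu' ⟨hu.2, Subgroup.mul_mem _ (le_normalizer hz) hh⟩
  set Z' := Z.map (CfsgH2.cj w) with hZ'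
  have h' : CDZ Z' := h.cj w
  set E := Z ⊓ Z'
  set M := Z ⊔ Z'
  have hM : CD M := h.1.sup h'.1
  have hφ : ∀ z ∈ Z, ⁅z, w⁆ = z * (w * z⁻¹ * w⁻¹) := fun z _ => by rw [commutatorElement_def]; group
  have hc : ∀ z ∈ Z, w * z⁻¹ * w⁻¹ ∈ Z' := fun z hz => conj_mem_map_cj (Z.inv_mem hz)
  set T := closure ((fun z => ⁅z, w⁆) '' (Z : Set G))
  have hTM : T ≤ M := (closure_le _).2 (by
    rintro _ ⟨z, hz, rfl⟩
    simp only [hφ z hz]
    exact M.mul_mem (mem_sup_left hz) (mem_sup_right (hc z hz)))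
  have hT : Ab[T] := isMulComm_of_le (hf.ito h.2.1 hW) ((closure_le _).2 (by
    rintro _ ⟨z, hz, rfl⟩
    exact commutator_mem_commutator (hf.left_le hz) (hf.right_le hw)))
  have hEM : E ≤ C[M] := by
    rw [cent_sup]
    exact inf_le_inf (le_cent_of_comm h.2.1 le_rfl) (le_cent_of_comm h'.2.1 le_rfl)
  have hD : Ab[E ⊔ T] := isMulComm_sup (isMulComm_of_le h.2.1 inf_le_left) hT (hEM.trans (cent_anti hTM))
  set D := E ⊔ T
  have hDM : D ≤ M := sup_le (inf_le_left.trans le_sup_left) hTM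
  have key : ∀ i, o[Z ⊓ Subgroup.upperCentralSeries G (i + 1)] * o[E ⊓ Subgroup.upperCentralSeries G i] ≤
      o[D ⊓ Subgroup.upperCentralSeries G i] * o[E ⊓ Subgroup.upperCentralSeries G (i + 1)] := by
    intro i
    rw [← Nat.card_prod]
    refine card_le_of_fiber (E ⊓ Subgroup.upperCentralSeries G (i + 1))
      (fun x : ↥(Z ⊓ Subgroup.upperCentralSeries G (i + 1)) × ↥(E ⊓ Subgroup.upperCentralSeries G i) =>
        (⟨⁅(x.1 : G), w⁆ * x.2, D.mul_mem (mem_sup_right (subset_closure ⟨x.1, x.1.2.1, rfl⟩)) (mem_sup_left x.2.2.1),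
          Subgroup.mul_mem _ (Subgroup.mem_upperCentralSeries_succ_iff.1 x.1.2.2 w) x.2.2.2⟩ : ↥(D ⊓ Subgroup.upperCentralSeries G i)))
      (fun x => x.1) ?_ ?_
    · rintro ⟨⟨a, ha⟩, ⟨e, he⟩⟩ ⟨⟨b, hb⟩, ⟨e', he'⟩⟩ hh
      replace hh : ⁅a, w⁆ * e = ⁅b, w⁆ * e' := congrArg Subtype.val hh
      refine ⟨⟨Z.mul_mem (Z.inv_mem hb.1) ha.1, ?_⟩, Subgroup.mul_mem _ (Subgroup.inv_mem _ hb.2) ha.2⟩
      rw [hφ a ha.1, hφ b hb.1] at hh
      have : b⁻¹ * a = (w * b⁻¹ * w⁻¹) * e' * e⁻¹ * (w * a⁻¹ * w⁻¹)⁻¹ := by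
        calc b⁻¹ * a = b⁻¹ * (a * (w * a⁻¹ * w⁻¹) * e) * e⁻¹ * (w * a⁻¹ * w⁻¹)⁻¹ := by group
          _ = _ := by rw [hh]; group
      show b⁻¹ * a ∈ Z'
      rw [this]
      exact Z'.mul_mem (Z'.mul_mem (Z'.mul_mem (hc b hb.1) he'.1.2) (Z'.inv_mem he.1.2)) (Z'.inv_mem (hc a ha.1))
    · rintro ⟨⟨a, ha⟩, ⟨e, he⟩⟩ ⟨⟨b, hb⟩, ⟨e', he'⟩⟩ hh (h2 : a = b)
      subst h2
      replace hh : ⁅a, w⁆ * e = ⁅a, w⁆ * e' := congrArg Subtype.val hh
      obtain rfl := mul_left_cancel hh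
      rfl
  have top : ∀ i, Group.nilpotencyClass G ≤ i → Subgroup.upperCentralSeries G i = ⊤ := fun i hi =>
    top_le_iff.1 ((Subgroup.upperCentralSeries_nilpotencyClass (G := G)).ge.trans (Subgroup.upperCentralSeries_mono G hi))
  have hZD : o[Z] ≤ o[D] := by
    have := key (Group.nilpotencyClass G)
    rw [top _ le_rfl, top _ (Nat.le_succ _)] at this
    simp only [inf_top_eq] at this
    exact Nat.le_of_mul_le_mul_right this (card_pos' _)
  have hcd : CD D := by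
    apply cd_of_le
    have k1 := card_mul_card_le (le_cent_of_comm hD le_rfl) (cent_anti hDM)
    have k2 : D ⊓ C[M] ≤ E := le_inf
      ((inf_le_inf hDM (cent_anti le_sup_left)).trans (h.inf_cent_le h'.1 h'.2.1))
      ((inf_le_inf (hDM.trans (sup_comm _ _).le) (cent_anti le_sup_right)).trans (h'.inf_cent_le h.1 h.2.1))
    have k3 := (h.1.fac h'.1).card_mul
    rw [hZ', card_map_cj, ← hZ'] at k3
    have k4 := k1.trans (Nat.mul_le_mul_left _ (card_le_of_le k2))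
    rw [← hM]
    refine Nat.le_of_mul_le_mul_right ?_ (card_pos' E)
    calc o[M] * o[C[M]] * o[E] = o[Z] * o[Z] * o[C[M]] := by rw [← k3]; ring
      _ ≤ o[D] * o[D] * o[C[M]] := Nat.mul_le_mul_right _ (Nat.mul_le_mul hZD hZD)
      _ ≤ o[D] * o[C[D]] * o[E] := by rw [mul_assoc, mul_assoc]; exact Nat.mul_le_mul_left _ k4
  refine ⟨D, ⟨hcd, hD, fun X h1 h2 => (h.2.2 X h1 h2).trans hZD⟩, Finset.sum_lt_sum (fun i _ => ?_) ?_⟩
  · have k1 := card_mul_card_le (A := Z ⊓ Subgroup.upperCentralSeries G i) (B := E ⊓ Subgroup.upperCentralSeries G (i + 1))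
      (L := Z ⊓ Subgroup.upperCentralSeries G (i + 1)) (inf_le_inf_left _ (Subgroup.upperCentralSeries_mono G (Nat.le_succ i)))
      (inf_le_inf_right _ inf_le_left)
    have k2 : Z ⊓ Subgroup.upperCentralSeries G i ⊓ (E ⊓ Subgroup.upperCentralSeries G (i + 1)) ≤ E ⊓ Subgroup.upperCentralSeries G i :=
      fun x hx => ⟨hx.2.1, hx.1.2⟩
    exact Nat.le_of_mul_le_mul_right ((k1.trans (Nat.mul_le_mul_left _ (card_le_of_le k2))).trans (key i))
      (card_pos' _)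
  · by_contra hh
    push Not at hh
    have : ∀ i ≤ Group.nilpotencyClass G, o[Z ⊓ Subgroup.upperCentralSeries G i] ≤ o[E ⊓ Subgroup.upperCentralSeries G i] := by
      intro i hi
      induction i with
      | zero => simp
      | succ i ih =>
        have k1 := (key i).trans (Nat.mul_le_mul_right _
          ((hh i (Finset.mem_range.2 (by omega))).trans (ih (by omega))))
        rw [mul_comm] at k1
        exact Nat.le_of_mul_le_mul_left k1 (card_pos' _)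
    have k := this _ le_rfl
    rw [top _ le_rfl] at k
    simp only [inf_top_eq] at k
    have e : E = Z := eq_of_le_of_card_ge inf_le_left k
    have e2 : Z = Z' := eq_of_le_of_card_ge (e.ge.trans inf_le_right) (card_map_cj w Z).le
    exact hw2 (map_cj_eq_iff.1 e2.symm)

theorem exists_mcl_norm [Group.IsNilpotent G] : ∃ Q : Subgroup G, IsMinimalCentrallyLarge Q ∧
    thompsonSubgroupA G ≤ N[Q] ∧ minimalCentrallyLargeJoin G ≤ N[Q] := by
  obtain ⟨R, hR⟩ := exists_cl (G := G)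
  obtain ⟨Q, -, hQ⟩ := exists_mcl hR
  obtain ⟨Z, hZ, hm⟩ := Set.exists_max_image {Z : Subgroup G | CDZ Z}
    (fun Z => ∑ i ∈ Finset.range (Group.nilpotencyClass G + 1), o[Z ⊓ Subgroup.upperCentralSeries G i])
    (Set.toFinite _) ⟨_, mcl_cdz hQ⟩
  have key : ∀ W U : Subgroup G, Ab[W] → Fac Z W U → W ≤ N[C[Z]] := fun W U h1 h2 => by
    refine le_norm_cent ?_
    by_contra hn
    obtain ⟨D, h3, h4⟩ := CDZ.replace hZ h1 h2 hn
    exact absurd (hm D h3) (not_le.2 h4)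
  have hq := CDZ.mcl hZ
  refine ⟨_, hq, sSup_le fun A hA => ?_, sSup_le fun R hR => ?_⟩
  · have := cl_maxab_fac hq.1 hA
    exact key A _ hA.1 (this.mono (hZ.1.cent_cent).le le_rfl (hZ.1.cent_cent.ge.trans this.left_le) this.right_le)
  · rw [← mcl_eq hR hq.1]
    exact sup_le (inf_le_right.trans le_normalizer) (key _ _ (CL.ab hR.1) (hZ.1.fac (CL.cd hR.1).cent))

end CfsgL0
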