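import Cfsg.Agent.L0.GW
import Cfsg.Agent.H4.G2
import Cfsg.Agent.H2.FT
import Cfsg.Agent.H3.Hv3

/-! Groups with cyclic Sylow 2-intersections: `O₂` is central when `O = 1`. -/

set_option autoImplicit false
namespace CfsgL0.CI
open Subgroup Cfsg CfsgH2
open CfsgH4 (ppart rpart)

local notation "cJ" => CfsgH2.cj

section abs
variable {Q : Type*} [Group Q] [Finite Q] {Bad : Q → Prop} {S : Subgroup Q}

def Uq (Bad : Q → Prop) : Prop := ∀ q, q ≠ 1 → ¬ Bad q → ∀ S T : Subgroup Q, Syl 2 S ⊤ →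
  Syl 2 T ⊤ → q ∈ S → q ∈ T → S = T

theorem pg_inv {x y : Q} (x2 : x * x = 1) (hy : ∃ k, orderOf y = 2 ^ k) (i : x * y * x⁻¹ = y⁻¹) :
    IsPGroup 2 (zpowers y ⊔ zpowers x : Subgroup Q) := by
  obtain ⟨n, hn⟩ := hy
  exact isPGroup_sup (isPGroup_zpowers (k := n) (by rw [← hn, pow_orderOf_eq_one])) (pg_of_sq x2)
    (Or.inr (zpowers_le.2 (mem_norm_of_conj fun b hb => inv_zpowers i hb ▸ inv_mem hb)))

omit [Finite Q] in
theorem inv_l {z g : Q} (z2 : z * z = 1) (g2 : g * g = 1) : z * (z * g) * z⁻¹ = (z * g)⁻¹ := by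
  rw [← mul_assoc, z2, one_mul, mul_inv_rev, inv_eq_of_mul_eq_one_right g2]

omit [Finite Q] in
theorem inv_r {z g : Q} (z2 : z * z = 1) (g2 : g * g = 1) : g * (z * g) * g⁻¹ = (z * g)⁻¹ := by
  rw [mul_assoc, mul_inv_cancel_right, mul_inv_rev, inv_eq_of_mul_eq_one_right g2,
    inv_eq_of_mul_eq_one_right z2]

theorem Uq.mem (F1 : Uq Bad) (hS : Syl 2 S ⊤) {g : Q} (g1 : g ≠ 1) (gb : ¬ Bad g) (gS : g ∈ S)
    {P : Subgroup Q} (hP : IsPGroup 2 P) (h : g ∈ P) : P ≤ S := by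
  obtain ⟨T, hT, hl⟩ := exists_syl_ge hP (M := ⊤) le_top
  exact F1 g g1 gb S T hS hT gS (hl h) ▸ hl

theorem Uq.pp_mem (F1 : Uq Bad) (hS : Syl 2 S ⊤) {g z : Q} (g2 : g * g = 1) (g1 : g ≠ 1)
    (gb : ¬ Bad g) (gS : g ∈ S) (z2 : z * z = 1) : ppart 2 (z * g) ∈ S :=
  F1.mem hS g1 gb gS (pg_inv g2 (CfsgH4.pelt_ppart 2 _)
    (inv_zpowers (inv_r z2 g2) (CfsgH4.ppart_mem_zpowers 2 _))) (mem_sup_right (mem_zpowers g))
    (mem_sup_left (mem_zpowers _))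

theorem Uq.trick (F1 : Uq Bad) (hS : Syl 2 S ⊤) {g z : Q} (g2 : g * g = 1) (g1 : g ≠ 1)
    (gb : ¬ Bad g) (gS : g ∈ S) (z2 : z * z = 1) (y1 : ppart 2 (z * g) ≠ 1)
    (yb : ¬ Bad (ppart 2 (z * g))) : z ∈ S :=
  F1.mem hS y1 yb (F1.pp_mem hS g2 g1 gb gS z2) (pg_inv z2 (CfsgH4.pelt_ppart 2 _)
    (inv_zpowers (inv_l z2 g2) (CfsgH4.ppart_mem_zpowers 2 _))) (mem_sup_left (mem_zpowers _))
    (mem_sup_right (mem_zpowers z))

theorem all_conj (hS : Syl 2 S ⊤) (O2 : O[{2}, (⊤ : Subgroup Q)] = ⊥) {z : Q}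
    (h : ∀ g, g * z * g⁻¹ ∈ S) : z = 1 := by
  have : S.normalCore ≤ O[{2}, (⊤ : Subgroup Q)] :=
    le_pCoreOf le_top (top_le_norm_iff.2 inferInstance) (hS.pg.to_le S.normalCore_le)
  exact mem_bot.1 (O2 ▸ this h)

omit [Finite Q] in
theorem sq_conj {z : Q} (z2 : z * z = 1) (g : Q) : g * z * g⁻¹ * (g * z * g⁻¹) = 1 := by
  rw [show g * z * g⁻¹ * (g * z * g⁻¹) = g * (z * z) * g⁻¹ by group, z2]; group

theorem conj_pp {k x : Q} (k2 : k * k = 1) (x2 : x * x = 1) : IsConj k (ppart 2 (k * x) * x) := by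
  have xi : x⁻¹ = x := inv_eq_of_mul_eq_one_right x2
  have i1 := inv_r k2 x2
  have hys := CfsgH4.ppart_mul_rpart (p := 2) (k * x)
  have hc := CfsgH4.commute_ppart_rpart (p := 2) (k * x)
  have is := inv_zpowers i1 (CfsgH4.rpart_mem_zpowers (p := 2) (k * x))
  have hs := CfsgH4.reg_rpart (p := 2) (k * x)
  generalize ppart 2 (k * x) = y at *
  generalize rpart 2 (k * x) = s at *
  obtain ⟨c, hcs, hcc⟩ := ex_sqrt hs
  have ic := inv_zpowers is hcs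
  have hyc : Commute y c := by
    obtain ⟨m, rfl⟩ := hcs
    exact hc.zpow_right m
  have ek : k = y * x * c⁻¹ * c⁻¹ := by
    have : k = y * s * x⁻¹ := by rw [hys, mul_inv_cancel_right]
    have e : c * x⁻¹ = x⁻¹ * c⁻¹ := by rw [← ic]; group
    rw [this, ← hcc, mul_assoc, mul_assoc, e, ← mul_assoc c, e, xi]; group
  have ic' : y * x * c * (y * x)⁻¹ = c⁻¹ := by
    rw [show y * x * c * (y * x)⁻¹ = y * (x * c * x⁻¹) * y⁻¹ by group, ic, hyc.inv_right.eq]; group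
  refine isConj_iff.2 ⟨c⁻¹, ?_⟩
  rw [ek, inv_inv, show c⁻¹ * (y * x * c⁻¹ * c⁻¹) * c = c⁻¹ * (y * x * c⁻¹) by group]
  nth_rw 1 [← ic']
  group

theorem zs (hS : Syl 2 S ⊤) (O2 : O[{2}, (⊤ : Subgroup Q)] = ⊥)
    (O' : O[{2}ᶜ, (⊤ : Subgroup Q)] = ⊥) {u : Q} (hu : orderOf u = 2) (uS : u ∈ S)
    (h : ∀ g : Q, g * u * g⁻¹ ∈ S → g * u * g⁻¹ = u) : False := by
  obtain ⟨P, rfl⟩ := hS.exists_top
  have := CfsgH4.zstar_center (isolated_of_sylow P hu h) (pPrimeCore_eq'.trans O')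
  refine inv_ne_one hu (all_conj hS O2 fun g => ?_)
  rwa [mem_center_iff.1 this g, mul_inv_cancel_right]

theorem abs (hS : Syl 2 S ⊤) (O2 : O[{2}, (⊤ : Subgroup Q)] = ⊥)
    (O' : O[{2}ᶜ, (⊤ : Subgroup Q)] = ⊥) (F1 : Uq Bad)
    (F2 : ∀ q h, Bad q → Bad (h * q * h⁻¹))
    (F4 : ∀ a b, orderOf a = 2 → orderOf b = 2 → Commute a b → a ≠ b → Bad a → Bad b → ¬ Bad (a * b))
    (F5 : ∀ g c, orderOf g = 2 → orderOf c = 2 → Commute g c → orderOf (c * g) = 2 → Bad c → ¬ Bad g →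
      Bad (c * g))
    {j : Q} (hj : orderOf j = 2) (jS : j ∈ S) (jb : ¬ Bad j)
    (hjc : j ∈ C[S] → ∀ n ∈ N[S], n * j * n⁻¹ = j) : False := by
  have F2' : ∀ q h, ¬ Bad q → ¬ Bad (h * q * h⁻¹) := fun q h h1 h2 => h1 (by
    have := F2 _ h⁻¹ h2
    rwa [show h⁻¹ * (h * q * h⁻¹) * h⁻¹⁻¹ = q by group] at this)
  have hSc : ∀ h : Q, Syl 2 (S.map (cJ h)) ⊤ := fun h => hS.map_cj_mem (mem_top h)
  have nm : ∀ q h, orderOf q = 2 → ¬ Bad q → q ∈ S → h * q * h⁻¹ ∈ S → h ∈ N[S] :=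
    fun q h q2 qb qS h1 => map_cj_eq_iff.1 (F1 _ (inv_ne_one (by rw [orderOf_conj, q2]))
      (F2' q h qb) _ _ (hSc h) hS (conj_mem_map_cj qS) h1)
  obtain ⟨g, g2, gS, gC, gb⟩ : ∃ g, orderOf g = 2 ∧ g ∈ S ∧ g ∈ C[S] ∧ ¬ Bad g := by
    have h0 : S ≠ ⊥ := fun e => inv_ne_one hj (mem_bot.1 (e ▸ jS))
    obtain ⟨c, hc, c2⟩ := exists_prime_order_mem Nat.prime_two (dvd_card_of_pgroup
      (hS.pg.to_le inf_le_left) (nil_center_ne_bot (nil_of_pg hS.pg) h0))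
    by_cases cb : Bad c
    swap
    · exact ⟨c, c2, hc.1, hc.2, cb⟩
    by_contra hne
    refine zs hS O2 O' c2 hc.1 fun h hh => ?_
    by_contra e
    refine hne ?_
    have c2' : orderOf (h * c * h⁻¹) = 2 := by rw [orderOf_conj, c2]
    have cm : Commute (h * c * h⁻¹) c := mem_cent_iff.1 hc.2 _ hh
    have gb := F4 _ _ c2' c2 cm e (F2 c h cb) cb
    have g2 : orderOf (h * c * h⁻¹ * c) = 2 := orderOf_two_iff.2
      ⟨by rw [cm.symm.mul_mul_mul_comm, inv_mul_self c2, inv_mul_self c2', one_mul],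
        fun e' => e (by rw [eq_inv_of_mul_eq_one_left e', inv_inv_eq c2])⟩
    refine ⟨_, g2, mul_mem hh hc.1, mul_mem ?_ hc.2, gb⟩
    have e3 : S.map (cJ h) ≤ C1[h * c * h⁻¹] := by
      rw [centralizer_conj]
      exact map_mono (le_cent1_iff.2 hc.2)
    obtain ⟨k, hk, h2⟩ := ((hSc h).mono e3 le_top).exists_le_conj (pg_of_sq (inv_mul_self g2))
      (zpowers_le.2 (mul_mem (self_mem_cent1 _) (mem_centralizer_singleton_iff.2 cm.symm.eq)))
    have e4 := F1 _ (inv_ne_one g2) gb _ _ hS ((hSc h).map_cj_mem (mem_top k)) (mul_mem hh hc.1)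
      (h2 (mem_zpowers _))
    exact le_cent1_iff.1 (e4.le.trans (map_cj_le_of_mem e3 hk))
  have gg := inv_mul_self g2
  have jj := inv_mul_self hj
  by_cases hc : IsConj g j
  · obtain ⟨h, rfl⟩ := isConj_iff.1 hc
    have h1 := nm g h g2 gb gS jS
    exact zs hS O2 O' hj jS fun k hk => hjc (conj_mem_of_norm (norm_le_norm_cent _ h1) gC) k
      (nm _ k hj jb jS hk)
  refine inv_ne_one hj (all_conj hS O2 fun h => ?_)
  have z2 := sq_conj jj h
  have c1 := conj_pp z2 gg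
  have c2 : IsConj j (ppart 2 (h * j * h⁻¹ * g) * g) := (isConj_iff.2 ⟨h, rfl⟩).trans c1
  have y1 : ppart 2 (h * j * h⁻¹ * g) ≠ 1 := fun e => hc (by rw [e, one_mul] at c2; exact c2.symm)
  refine F1.trick hS gg (inv_ne_one g2) gb gS z2 y1 fun yb => ?_
  have yS := F1.pp_mem hS gg (inv_ne_one g2) gb gS z2
  have iy := inv_zpowers (inv_r z2 gg) (CfsgH4.ppart_mem_zpowers (p := 2) _)
  generalize ppart 2 (h * j * h⁻¹ * g) = y at *
  have cm : y * g = g * y := mem_cent_iff.1 gC y yS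
  obtain ⟨k, hk⟩ := isConj_iff.1 c2
  refine F2' j k jb (hk ▸ F5 g y g2 (orderOf_two_iff.2 ⟨?_, y1⟩) cm.symm
    (by rw [← hk, orderOf_conj, hj]) yb gb)
  rw [← cm, mul_inv_cancel_right] at iy
  exact mul_eq_one_iff_eq_inv.2 iy

end abs

section grp
variable {H : Type*} [Group H] [Finite H] {V : Subgroup H}

theorem pg_odd {L : Subgroup H} (h : ∀ x ∈ L, Odd (orderOf x) → x = 1) : IsPGroup 2 L :=
  isPGroup_iff_piN.2 fun q hq hd => by
    by_contra e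
    obtain ⟨x, hx, o⟩ := exists_prime_order_mem hq hd
    exact hq.one_lt.ne' (by rw [← o, h x hx (o ▸ hq.odd_of_ne_two e), orderOf_one])

theorem gen_iff {v : H} (hV : IsPGroup 2 (zpowers v)) (v1 : v ≠ 1) (i : ℤ) :
    zpowers v ≤ zpowers (v ^ i) ↔ Odd i := by
  obtain ⟨n, hn⟩ := pgroup_mem_order hV (mem_zpowers v)
  rw [zpowers_le, mem_zpowers_zpow_iff, hn]
  rcases n with _ | n
  · exact absurd (orderOf_eq_one_iff.1 hn) v1
  rw [← Int.isCoprime_iff_gcd_eq_one, Nat.cast_pow, IsCoprime.pow_right_iff n.succ_pos]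
  exact Int.isCoprime_two_right

theorem lemU (hV : IsPGroup 2 V) (V0 : V ≠ ⊥) {g c : H} (c2 : c * c ∈ V)
    (hc : V ≤ zpowers (c * c)) (g2 : g * g ∈ V) (hw : g * c * g⁻¹ * c⁻¹ ∈ V) :
    ((∀ v ∈ V, g * v * g⁻¹ = v⁻¹) ∧ (g ∈ C[V] → ∀ v ∈ V, v * v = 1)) ∨
      (V ≤ zpowers (g * g) ↔ ¬ V ≤ zpowers (c * g * (c * g))) := by
  obtain rfl : V = zpowers (c * c) := le_antisymm hc (zpowers_le.2 c2)
  have v1 : c * c ≠ 1 := fun e => V0 (by rw [e, zpowers_one_eq_bot])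
  obtain ⟨i, hi⟩ := hw
  obtain ⟨a, ha⟩ := g2
  simp only at hi ha
  have cc : ∀ n : ℤ, Commute c ((c * c) ^ n) := fun n =>
    ((Commute.refl c).mul_right (Commute.refl c)).zpow_right n
  have e1 : g * c * g⁻¹ = (c * c) ^ i * c := by rw [hi, inv_mul_cancel_right]
  by_cases h : Odd i
  · left
    have e2 : g * (c * c) ^ i * g⁻¹ = ((c * c) ^ i)⁻¹ := by
      have : g * ((c * c) ^ i * c) * g⁻¹ = c := by
        rw [← e1, show g * (g * c * g⁻¹) * g⁻¹ = g * g * c * (g * g)⁻¹ by group, ← ha, ← (cc a).eq,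
          mul_inv_cancel_right]
      rw [show g * ((c * c) ^ i * c) * g⁻¹ = g * (c * c) ^ i * g⁻¹ * (g * c * g⁻¹) by group, e1,
        ← mul_assoc, mul_eq_right] at this
      exact mul_eq_one_iff_eq_inv.1 this
    have e3 := fun v hv => inv_zpowers (b := v) e2 ((gen_iff hV v1 i).2 h hv)
    refine ⟨e3, fun hg v hv => ?_⟩
    have := e3 v hv
    rw [← mem_cent_iff.1 hg v hv, mul_inv_cancel_right] at this
    exact mul_eq_one_iff_eq_inv.2 this
  · right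
    have e2 : c * g * (c * g) = (c * c) ^ (i + 1 + a) := by
      rw [show c * g * (c * g) = c * (g * c * g⁻¹) * (g * g) by group, e1, ← ha, ← mul_assoc,
        (cc i).eq, zpow_add, zpow_add, zpow_one, mul_assoc _ c c]
    rw [e2, ← ha, gen_iff hV v1, gen_iff hV v1]
    grind

omit [Finite H] in
theorem gen_sq {d : H} (d1 : d ∉ V) (d2 : d * d ∈ V) (h : V ≤ zpowers d) : V ≤ zpowers (d * d) := by
  intro v hv
  obtain ⟨k, rfl⟩ := h hv
  rcases Int.even_or_odd' k with ⟨m, rfl | rfl⟩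
  · exact ⟨m, by simp only; rw [zpow_mul, zpow_two]⟩
  · exfalso
    simp only at hv
    rw [zpow_add, zpow_one, zpow_mul, zpow_two] at hv
    exact d1 ((V.mul_mem_cancel_left (zpow_mem d2 m)).1 hv)

variable [V.Normal]

def Bd (V : Subgroup H) [V.Normal] (q : H ⧸ V) : Prop := ∃ d : H, (d : H ⧸ V) = q ∧ V ≤ zpowers d

omit [Finite H] in
theorem Bd.mem {d : H} (h : Bd V d) : ∃ e, d ∈ zpowers e ∧ (e : H ⧸ V) = d ∧ V ≤ zpowers e := by
  obtain ⟨e, h1, h2⟩ := h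
  refine ⟨e, ?_, h1, h2⟩
  have := mul_mem (mem_zpowers e) (h2 (QuotientGroup.eq.1 h1))
  rwa [mul_inv_cancel_left] at this

omit [Finite H] in
theorem Bd.cent {d : H} (h : Bd V d) : d ∈ C[V] := by
  obtain ⟨e, ⟨k, rfl⟩, -, h2⟩ := h.mem
  refine mem_cent_iff.2 fun v hv => ?_
  obtain ⟨m, rfl⟩ := h2 hv
  exact zpow_mul_comm e m k

omit [Finite H] in
theorem pg_lift (hV : IsPGroup 2 V) {d : H} {k : ℕ} (h : (d : H ⧸ V) ^ 2 ^ k = 1) :
    IsPGroup 2 (zpowers d) := by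
  obtain ⟨m, hm⟩ := pgroup_pow_eq_one hV ((QuotientGroup.eq_one_iff (d ^ 2 ^ k)).1 h)
  exact isPGroup_zpowers (k := k + m) (by rw [pow_add, pow_mul, hm])

theorem Bd.lift (hV : IsPGroup 2 V) {d : H} {k : ℕ} (h2 : (d : H ⧸ V) ^ 2 ^ k = 1) (d1 : d ∉ V)
    (h : Bd V d) : V ≤ zpowers d := by
  obtain ⟨e, h1, h3, h4⟩ := h.mem
  exact (cyc_le_or_le inferInstance (pg_lift hV (h3 ▸ h2)) h4 (zpowers_le.2 h1)).resolve_right
    fun h => d1 (h (mem_zpowers d))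

theorem Bd.sq (hV : IsPGroup 2 V) {d : H} (h2 : orderOf (d : H ⧸ V) = 2) :
    Bd V d ↔ V ≤ zpowers (d * d) := by
  have d1 : d ∉ V := fun e => inv_ne_one h2 ((QuotientGroup.eq_one_iff d).2 e)
  refine ⟨fun h => gen_sq d1 ((QuotientGroup.eq_one_iff _).1 (inv_mul_self h2))
    (h.lift hV (k := 1) (by rw [pow_one, pow_two, inv_mul_self h2]) d1), fun h => ⟨d, rfl, ?_⟩⟩
  exact h.trans (zpowers_le.2 (mul_mem (mem_zpowers d) (mem_zpowers d)))

theorem syl_lift (hV : IsPGroup 2 V) {T : Subgroup (H ⧸ V)} (hT : Syl 2 T ⊤) :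
    Syl 2 (T.comap (QuotientGroup.mk' V)) ⊤ := by
  refine ⟨le_top, hT.pg.comap_of_ker_isPGroup _ (by rwa [QuotientGroup.ker_mk']), ?_⟩
  rw [relIndex_top_right, index_comap_of_surjective _ (QuotientGroup.mk'_surjective V),
    ← relIndex_top_right]
  exact hT.nd

theorem uq (hV : IsPGroup 2 V)
    (hC : ∀ S T : Subgroup H, Syl 2 S ⊤ → Syl 2 T ⊤ → S ≠ T → IsCyclic (S ⊓ T : Subgroup H)) :
    Uq (Bd V) := by
  intro q q1 qb S T hS hT qS qT
  by_contra e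
  obtain ⟨d, rfl⟩ := QuotientGroup.mk_surjective q
  have := hC _ _ (syl_lift hV hS) (syl_lift hV hT)
    fun h => e (comap_injective (QuotientGroup.mk'_surjective V) h)
  rcases cyc_le_or_le this ((syl_lift hV hS).pg.to_le inf_le_left)
    (le_inf (QuotientGroup.le_comap_mk' V S) (QuotientGroup.le_comap_mk' V T))
    (zpowers_le.2 (show d ∈ _ from ⟨qS, qT⟩)) with h | h
  · exact qb ⟨d, rfl, h⟩
  · exact q1 ((QuotientGroup.eq_one_iff d).2 (h (mem_zpowers d)))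

end grp

theorem core_cyc {H : Type*} [Group H] [Finite H] (hns : ¬ Group.IsSolvable H)
    (hC : ∀ S T : Subgroup H, Syl 2 S ⊤ → Syl 2 T ⊤ → S ≠ T → IsCyclic (S ⊓ T : Subgroup H)) :
    IsCyclic O[{2}, (⊤ : Subgroup H)] := by
  obtain ⟨S, hS⟩ := exists_syl 2 (⊤ : Subgroup H)
  by_cases h : ∀ g, S.map (cJ g) = S
  · exfalso
    haveI : S.Normal := normal_of_top_le_norm fun g _ => map_cj_eq_iff.1 (h g)
    haveI := nil_of_pg hS.pg
    haveI : Group.IsSolvable (H ⧸ S) := ft_of_not_dvd (by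
      have := hS.nd
      rwa [relIndex_top_right] at this)
    exact hns (solvable_of_ker_le_range S.subtype (QuotientGroup.mk' S) (by simp))
  push Not at h
  obtain ⟨g, hg⟩ := h
  have h2 := hS.map_cj_mem (mem_top g)
  haveI := hC _ _ h2 hS hg
  exact Subgroup.isCyclic_of_le (le_inf h2.pCoreOf_le hS.pCoreOf_le)

theorem sol_le {H : Type*} [Group H] [Finite H] (hO : O[{2}ᶜ, (⊤ : Subgroup H)] = ⊥)
    (hc : IsCyclic O[{2}, (⊤ : Subgroup H)]) (R : Subgroup H) [R.Normal] (hR : Group.IsSolvable R) :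
    R ≤ O[{2}, (⊤ : Subgroup H)] := by
  have n : (⊤ : Subgroup H) ≤ N[R] := top_le_norm_iff.2 inferInstance
  refine le_pCoreOf le_top n (pg_odd fun x hx ho => ?_)
  have h1 : O[{2}ᶜ, R] = ⊥ := le_bot_iff.1 (hO ▸ piCoreOf_le_of_norm le_top n)
  have h2 : x ∈ C[O[{2}, R]] := CfsgH4.mem_cent_of_odd_cyclic isPGroup_piCoreOf
    (Subgroup.isCyclic_of_le (piCoreOf_le_of_norm le_top n)) ho (le_norm_piCoreOf hx)
  exact eq_one_of_coprime_order isPGroup_piCoreOf (cent_core_le hR h1 ⟨hx, h2⟩)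
    (Nat.coprime_two_right.2 ho)

theorem central_aux {H : Type*} [Group H] [Finite H] {V : Subgroup H} [hN : V.Normal]
    (hc : IsCyclic V) (hV : IsPGroup 2 V) (hle : ∀ S : Subgroup H, Syl 2 S ⊤ → V ≤ S)
    (hs : ∀ (R : Subgroup H) [R.Normal], Group.IsSolvable R → R ≤ V)
    (O2 : O[{2}, (⊤ : Subgroup (H ⧸ V))] = ⊥)
    (hC : ∀ S T : Subgroup H, Syl 2 S ⊤ → Syl 2 T ⊤ → S ≠ T → IsCyclic (S ⊓ T : Subgroup H)) :
    V ≤ center H := by
  have sj := QuotientGroup.mk'_surjective V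
  have O' : O[{2}ᶜ, (⊤ : Subgroup (H ⧸ V))] = ⊥ := by
    haveI := nil_of_pg hV
    have := hs (O[{2}ᶜ, (⊤ : Subgroup (H ⧸ V))].comap (QuotientGroup.mk' V))
      (isSolvable_of_map (QuotientGroup.mk' V) (by
        rw [QuotientGroup.ker_mk', inf_eq_right.2 (QuotientGroup.le_comap_mk' V _)]
        infer_instance) (by
        rw [map_comap_eq_self_of_surjective sj]
        exact ft_of_not_dvd not_dvd_piCoreOf))
    rw [← map_comap_eq_self_of_surjective sj O[{2}ᶜ, (⊤ : Subgroup (H ⧸ V))], Subgroup.map_eq_bot_iff,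
      QuotientGroup.ker_mk']
    exact this
  by_contra hne
  have nV : ∀ g : H, g ∈ N[V] := fun g => top_le_norm_iff.2 hN (mem_top g)
  have nC : ∀ g : H, g ∈ N[C[V]] := fun g => norm_le_norm_cent V (nV g)
  have oc : ∀ g : H, ¬ 2 ∣ orderOf g → g ∈ C[V] := fun g h =>
    CfsgH4.mem_cent_of_odd_cyclic hV hc (Nat.odd_iff.2 (by omega)) (nV g)
  have pc : ∀ g : H, ppart 2 g ∈ C[V] → g ∈ C[V] := fun g h =>
    CfsgH4.ppart_mul_rpart 2 g ▸ mul_mem h (oc _ (CfsgH4.reg_rpart 2 g))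
  have hexp : ¬ ∀ v ∈ V, v * v = 1 := fun h => hne fun v hv => mem_center_iff.2 fun g => by
    obtain ⟨⟨u, hu⟩, hg⟩ := IsCyclic.exists_generator (α := V)
    have a : ∀ w ∈ V, w ≠ 1 → w = u := fun w hw w1 => by
      obtain ⟨k, hk⟩ := hg ⟨w, hw⟩
      have hk' : u ^ k = w := congrArg Subtype.val hk
      rcases Int.even_or_odd' k with ⟨m, rfl | rfl⟩
      · rw [zpow_mul, zpow_two, h u hu, one_zpow] at hk'
        exact absurd hk'.symm w1
      · rw [zpow_add, zpow_mul, zpow_two, h u hu, one_zpow, one_mul, zpow_one] at hk'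
        exact hk'.symm
    by_cases v1 : v = 1
    · simp [v1]
    · rw [← mul_inv_eq_iff_eq_mul, a _ (hN.conj_mem v hv g) (by simpa using v1), a v hv v1]
  have V0 : V ≠ ⊥ := fun e => hexp fun v hv => by rw [e, mem_bot] at hv; rw [hv, one_mul]
  obtain ⟨S, hS⟩ := exists_syl 2 (⊤ : Subgroup H)
  have hS' : Syl 2 (S.map (QuotientGroup.mk' V)) ⊤ := map_top_of_surjective _ sj ▸ hS.map _
  have hSN := hS.mono le_normalizer le_top
  obtain ⟨X, hX, hSX, -, hXo⟩ := exists_compl (N := S) le_normalizer le_rfl hSN.coprime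
  have XC : X ≤ C[V] := fun x hx => oc x fun h => hSN.nd (hXo ▸ h.trans (orderOf_dvd_of_mem hx))
  obtain ⟨s, hs1, hs2⟩ : ∃ s ∈ S ⊓ C[X], s ∉ C[V] := by
    by_contra h
    push Not at h
    haveI := nil_of_pg (hS.pg.to_le (inf_le_left : S ⊓ C[V] ≤ S))
    have e := coprime_le_sup_cent (A := X) (K := S) (M := S ⊓ C[V])
      (le_norm_inf hX fun g _ => nC g) (hXo ▸ (coprime_of_pgroup (hS.pg.to_le inf_le_left) hSN.nd).symm)
      (Or.inr inferInstance) inf_le_left (le_norm_inf le_normalizer fun g _ => nC g)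
      (le_inf (comm_le_left hX) ((commutator_mono le_rfl XC).trans (comm_le_right fun g _ => nC g)))
    have SC : S ≤ C[V] := e.le.trans (sup_le h inf_le_right)
    refine hne fun v hv => mem_center_iff.2 fun g => (mem_cent_iff.1 (pc g ?_) v hv).symm
    obtain ⟨k, hk⟩ := CfsgH4.pelt_ppart 2 g
    obtain ⟨y, -, hy⟩ := hS.exists_le_conj (isPGroup_zpowers (k := k)
      (by rw [← hk, pow_orderOf_eq_one])) le_top
    exact map_cj_le_of_norm SC (nC y) (hy (mem_zpowers _))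
  have s1 : (s : H ⧸ V) ≠ 1 := fun e => hs2
    (le_cent_of_comm inferInstance le_rfl ((QuotientGroup.eq_one_iff s).1 e))
  have sS : (s : H ⧸ V) ∈ S.map (QuotientGroup.mk' V) := ⟨s, hs1.1, rfl⟩
  obtain ⟨k, hk⟩ := pgroup_mem_order hS'.pg sS
  rcases k with _ | k
  · exact s1 (orderOf_eq_one_iff.1 hk)
  have hj : orderOf ((s : H ⧸ V) ^ 2 ^ k) = 2 := orderOf_two_iff.2 ⟨half_sq hk, half_ne_one hk⟩
  have F1 := uq hV hC
  have F2 : ∀ q h, Bd V q → Bd V (h * q * h⁻¹) := by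
    rintro _ h ⟨d, rfl, hd⟩
    obtain ⟨h, rfl⟩ := QuotientGroup.mk_surjective h
    refine ⟨h * d * h⁻¹, rfl, fun v hv => ?_⟩
    obtain ⟨m, hm⟩ := hd (hN.conj_mem' v hv h)
    exact ⟨m, by simp only at hm ⊢; rw [conj_zpow, hm]; group⟩
  have U : ∀ g c : H, orderOf (g : H ⧸ V) = 2 → orderOf (c : H ⧸ V) = 2 →
      Commute (g : H ⧸ V) c → Bd V c → _ := fun g c g2 c2 cm cb =>
    lemU hV V0 ((QuotientGroup.eq_one_iff _).1 (inv_mul_self c2)) ((Bd.sq hV c2).1 cb)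
      ((QuotientGroup.eq_one_iff _).1 (inv_mul_self g2)) ((QuotientGroup.eq_one_iff _).1 (by
        simp only [QuotientGroup.mk_mul, QuotientGroup.mk_inv]
        rw [cm.eq, mul_inv_cancel_right, mul_inv_cancel]))
  refine abs hS' O2 O' F1 F2 ?_ ?_ hj (pow_mem sS _) (fun h => ?_) fun h n hn => ?_
  · intro a b a2 b2 cm ab ha hb h
    obtain ⟨a, rfl⟩ := QuotientGroup.mk_surjective a
    obtain ⟨b, rfl⟩ := QuotientGroup.mk_surjective b
    rcases U b a b2 a2 cm.symm ha with h1 | h1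
    · exact hexp (h1.2 hb.cent)
    · refine h1.1 ((Bd.sq hV b2).1 hb) ((Bd.sq hV (d := a * b) (orderOf_two_iff.2 ⟨?_, ?_⟩)).1 h)
      · rw [QuotientGroup.mk_mul, cm.symm.mul_mul_mul_comm, inv_mul_self a2, inv_mul_self b2, one_mul]
      · exact fun e => ab ((eq_inv_of_mul_eq_one_left e).trans (inv_inv_eq b2))
  · intro g c g2 c2 cm cg2 hc' hg
    obtain ⟨g, rfl⟩ := QuotientGroup.mk_surjective g
    obtain ⟨c, rfl⟩ := QuotientGroup.mk_surjective c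
    rcases U g c g2 c2 cm hc' with h1 | h1
    · exfalso
      obtain ⟨T, hT, gT⟩ := exists_syl_ge (pg_of_sq (inv_mul_self g2)) (M := ⊤) le_top
      refine inv_ne_one c2 (all_conj hT O2 fun h => ?_)
      obtain ⟨h, rfl⟩ := QuotientGroup.mk_surjective h
      have e : ppart 2 ((h : H ⧸ V) * c * (h : H ⧸ V)⁻¹ * g) = (ppart 2 (h * c * h⁻¹ * g) : H) :=
        CfsgH4.ppart_map 2 (QuotientGroup.mk' V) (h * c * h⁻¹ * g)
      have n : ppart 2 (h * c * h⁻¹ * g) ∉ C[V] := fun h2 => hexp (h1.2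
        (((C[V]).mul_mem_cancel_left (conj_mem_of_norm (nC h) hc'.cent)).1 (pc _ h2)))
      refine F1.trick hT (inv_mul_self g2) (inv_ne_one g2) hg (gT (mem_zpowers _))
        (sq_conj (inv_mul_self c2) _) (fun h2 => n ?_) fun h2 => n (e ▸ h2).cent
      exact le_cent_of_comm inferInstance le_rfl ((QuotientGroup.eq_one_iff _).1 (e ▸ h2))
    · exact (Bd.sq hV (d := c * g) cg2).2 (not_not.1 fun h => hg ((Bd.sq hV g2).2 (h1.2 h)))
  · have := (Bd.sq hV (d := s ^ 2 ^ k) hj).1 h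
    refine hs2 (mem_cent_iff.2 fun v hv => ?_)
    obtain ⟨m, rfl⟩ := this hv
    exact (((Commute.refl s).pow_left _).mul_left ((Commute.refl s).pow_left _)).zpow_left m
  · obtain ⟨n, rfl⟩ := QuotientGroup.mk_surjective n
    have := (mem_norm_map_iff (QuotientGroup.mk' V)
      (by rw [QuotientGroup.ker_mk']; exact hle S hS)).1 hn
    rw [← hSX, mem_sup_of_norm' hX] at this
    obtain ⟨a, ha, x, hx, rfl⟩ := this
    have e1 : Commute (x : H ⧸ V) s := congrArg QuotientGroup.mk (mem_cent_iff.1 hs1.2 x hx)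
    rw [mul_inv_eq_iff_eq_mul]
    exact (Commute.mul_left (mem_cent_iff.1 h _ ⟨a, ha, rfl⟩) (e1.pow_right _)).eq

theorem central {H : Type*} [Group H] [Finite H] (hO : O[{2}ᶜ, (⊤ : Subgroup H)] = ⊥)
    (hc : IsCyclic O[{2}, (⊤ : Subgroup H)])
    (hC : ∀ S T : Subgroup H, Syl 2 S ⊤ → Syl 2 T ⊤ → S ≠ T → IsCyclic (S ⊓ T : Subgroup H)) :
    O[{2}, (⊤ : Subgroup H)] ≤ center H := by
  refine central_aux hc isPGroup_piCoreOf (fun S h => h.pCoreOf_le) (sol_le hO hc) ?_ hC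
  have := piCoreOf_map_mk_self (π := {2}) (⊤ : Subgroup H)
  rwa [map_top_of_surjective _ (QuotientGroup.mk'_surjective _)] at this

theorem quot {G H : Type*} [Group G] [Finite G] [Group H] [Finite H] {f : G →* H}
    (hf : Function.Surjective f)
    (hC : ∀ S T : Subgroup G, Syl 2 S ⊤ → Syl 2 T ⊤ → S ≠ T → IsCyclic (S ⊓ T : Subgroup G))
    (S T : Subgroup H) (hS : Syl 2 S ⊤) (hT : Syl 2 T ⊤) (h : S ≠ T) :
    IsCyclic (S ⊓ T : Subgroup H) := by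
  obtain ⟨D, hD⟩ := exists_syl 2 ((S ⊓ T).comap f)
  have h1 := hD.map f
  rw [map_comap_eq_self_of_surjective hf] at h1
  have h2 := h1.eq_of_pgroup (hS.pg.to_le inf_le_left)
  obtain ⟨S', hS', l1, e1⟩ := CfsgHv.exists_syl_lift hf hS hD.pg (h2.le.trans inf_le_left)
  obtain ⟨T', hT', l2, e2⟩ := CfsgHv.exists_syl_lift hf hT hD.pg (h2.le.trans inf_le_right)
  haveI := hC S' T' hS' hT' fun e => h (by rw [← e1, ← e2, e])
  haveI : IsCyclic D := Subgroup.isCyclic_of_le (le_inf l1 l2)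
  rw [← h2]
  exact isCyclic_of_surjective _ (f.subgroupMap_surjective D)

end CfsgL0.CI
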