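import Cfsg.Agent.L0.K4A
import Cfsg.Agent.H3.Hv1

/-! Bender's counting argument for groups with an involution centralizer dihedral of order `8`. -/

namespace CfsgL0
open Function Subgroup Cfsg CfsgH2 Finset

theorem sum_le_of_fib {α β : Type*} [DecidableEq β] (s : Finset α) (t : Finset β) (π : α → β) (w : α → ℕ) (c : ℕ)
    (hm : ∀ a ∈ s, π a ∈ t) (h : ∀ a ∈ s, w a * #{x ∈ s | π x = π a} ≤ c) : ∑ a ∈ s, w a ≤ c * #t := by
  rw [← sum_fiberwise_of_maps_to hm, mul_comm, ← smul_eq_mul, ← sum_const]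
  refine sum_le_sum fun b _ => ?_
  rcases Nat.eq_zero_or_pos #{x ∈ s | π x = b} with e | e
  · simp [Finset.card_eq_zero.1 e]
  refine Nat.le_of_mul_le_mul_right ?_ e
  rw [sum_mul, mul_comm c, ← smul_eq_mul, ← sum_const]
  refine sum_le_sum fun a ha => ?_
  obtain ⟨hb, rfl⟩ := mem_filter.1 ha
  exact h a hb

def Bd {K : Type*} [Group K] (w : K) : Prop := ∃ s : K, s * s * (s * s) = 1 ∧ s * s ≠ 1 ∧ (w = s ∨ w = s * s)

def Wd {K : Type*} [Group K] (B : K → Prop) (x y : K) : Prop :=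
  x = 1 ∨ y = 1 ∨ (y = x ∧ (x * x = 1 ∨ x * x * x = 1)) ∨ (x * x * x = 1 ∧ y * x = 1) ∨
    (x * x = 1 ∧ y * y = 1 ∧ x * y ≠ 1 ∧ x * y * (x * y) * (x * y) = 1) ∨
    (x * x = 1 ∧ y * y * y = 1 ∧ y * x * y = x) ∨ (y * y = 1 ∧ x * x * x = 1 ∧ x * y * x = y) ∨
    B x ∨ B y ∨ B (x * y * x) ∨ B (y * x * y) ∨ B (x * y * y * x) ∨ (x * x = 1 ∧ y * y = 1 ∧ B (x * y))

theorem Wd.imp {K : Type*} [Group K] {B B' : K → Prop} (h : ∀ w, B w → B' w) {x y : K} (h1 : Wd B x y) : Wd B' x y :=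
  Or.imp_right (Or.imp_right (Or.imp_right (Or.imp_right (Or.imp_right (Or.imp_right (Or.imp_right
    (Or.imp (h _) (Or.imp (h _) (Or.imp (h _) (Or.imp (h _) (Or.imp (h _) (And.imp_right (And.imp_right (h _)))))))))))))) h1

def B0 (w : Equiv.Perm (Fin 4)) : Prop := w * w * (w * w) = 1 ∧ (w * w ≠ 1 ∨ ∀ i, w i ≠ i)

instance : DecidablePred B0 := fun _ => by unfold B0; infer_instance

instance (x y : Equiv.Perm (Fin 4)) : Decidable (Wd B0 x y) := by unfold Wd; infer_instance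

theorem wd_s4 (x y : Equiv.Perm (Fin 4)) : Wd Bd x y := by
  have h1 : ∀ w, B0 w → Bd w := by
    unfold Bd
    decide +kernel
  have h2 : ∀ x y, Wd B0 x y := by decide +kernel
  exact (h2 x y).imp h1

theorem wd_of {K : Type*} [Group K] (e : K ≃* Equiv.Perm (Fin 4)) (x y : K) : Wd Bd x y := by
  have h1 : ∀ w, Bd (e w) → Bd w := fun w ⟨s, h⟩ => by
    obtain ⟨s, rfl⟩ := e.surjective s
    exact ⟨s, by simpa only [← map_mul, ne_eq, EmbeddingLike.apply_eq_iff_eq, EmbeddingLike.map_eq_one_iff] using h⟩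
  refine Wd.imp h1 ?_
  have := wd_s4 (e x) (e y)
  unfold Wd at this ⊢
  simpa only [← map_mul, ne_eq, EmbeddingLike.apply_eq_iff_eq, EmbeddingLike.map_eq_one_iff] using this

theorem s4_cnt {K : Type*} [Group K] (e : K ≃* Equiv.Perm (Fin 4)) : Nat.card {x : K // x * x = 1 ∧ x ≠ 1} = 9 ∧
    ∀ y : K, y * y * y = 1 → y ≠ 1 → Nat.card {x : K // x * x = 1 ∧ y * x * y = x} = 3 := by
  refine ⟨(Nat.card_congr (e.toEquiv.subtypeEquiv (q := fun x => x * x = 1 ∧ x ≠ 1) fun x => by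
    simp [← map_mul])).trans ?_, fun y h1 h2 => (Nat.card_congr (e.toEquiv.subtypeEquiv
      (q := fun x => x * x = 1 ∧ e y * x * e y = x) fun x => by simp [← map_mul])).trans ?_⟩
  · rw [Nat.card_eq_fintype_card]
    decide +kernel
  · have : ∀ y : Equiv.Perm (Fin 4), y * y * y = 1 → y ≠ 1 → Fintype.card {x // x * x = 1 ∧ y * x * y = x} = 3 := by
      decide +kernel
    rw [Nat.card_eq_fintype_card]
    exact this _ (by simpa [← map_mul] using h1) (by simpa using h2)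

set_option synthInstance.maxSize 1024 in
theorem s4_conj {K : Type*} [Group K] (e : K ≃* Equiv.Perm (Fin 4)) {x y : K} (h1 : x * x * x = 1) (h2 : x ≠ 1)
    (h3 : y * y * y = 1) (h4 : y ≠ 1) :
    ∃ r : K, r * r * (r * r) = 1 ∧ (x * (r * r) = r * r * y ∨ x * (r * r) * y = r * r) := by
  have : ∀ x : Equiv.Perm (Fin 4), x * x * x = 1 → x ≠ 1 → ∀ y, y * y * y = 1 → y ≠ 1 →
      ∃ r, r * r * (r * r) = 1 ∧ (x * (r * r) = r * r * y ∨ x * (r * r) * y = r * r) := by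
    decide +kernel
  obtain ⟨r, hr⟩ := this (e x) (by simpa [← map_mul] using h1) (by simpa using h2) (e y) (by simpa [← map_mul] using h3)
    (by simpa using h4)
  obtain ⟨r, rfl⟩ := e.surjective r
  exact ⟨r, by simpa only [← map_mul, EmbeddingLike.apply_eq_iff_eq, EmbeddingLike.map_eq_one_iff] using hr⟩

end CfsgL0
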