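import Cfsg.Agent.L0.D8C

/-! Bender's counting argument for groups with an involution centralizer dihedral of order `8`. -/

namespace CfsgL0
open Function Subgroup Cfsg CfsgH2 Finset

variable {G : Type*} [Group G] [Finite G] {V : Subgroup G} {t u v x y : G}

structure D8H (V : Subgroup G) : Prop where
  k4 : K4 V
  c8 : ∀ t : G, orderOf t = 2 → o[C1[t]] = 8
  n24 : o[N[V]] = 24

namespace D8H
variable (h : D8H V)
include h

omit [Finite G] in
theorem p8 (ht : orderOf t = 2) (hc : y * t = t * y) : y ^ 8 = 1 :=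
  orderOf_dvd_iff_pow_eq_one.1 (h.c8 t ht ▸ orderOf_dvd_of_mem (mem_centralizer_singleton_iff.2 hc))

omit [Finite G] in
theorem no3 (ht : orderOf t = 2) (hy : y * y * y = 1) (hc : y * t = t * y) : y = 1 := by
  have := h.p8 ht hc
  rw [← mul_one y, ← this, show y * y ^ 8 = (y * y * y) ^ 3 by simp only [pow_succ, pow_zero, one_mul, mul_assoc], hy, one_pow]
  exact this.symm

theorem cent_le (hv : v ∈ V) (v1 : v ≠ 1) : C1[v] ≤ N[V] := by
  have l : V ≤ C1[v] := (le_cent_self h.k4.ab).trans (cent_le_cent1 hv)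
  have := card_mul_relIndex l
  rw [h.k4.1, h.c8 v (orderOf_two_iff.2 ⟨h.k4.2 v hv, v1⟩)] at this
  exact (normal_subgroupOf_iff_le_normalizer l).1 (normal_of_index_eq_two (by unfold relIndex at this; omega))

omit [Finite G] in
theorem p6 (hx : x ∈ N[V]) : x ^ 6 ∈ V := by
  have := card_mul_relIndex (le_normalizer : V ≤ _)
  rw [h.k4.1, h.n24] at this
  exact (by omega : V.relIndex N[V] = 6) ▸ pow_relIndex_mem' le_rfl hx

omit [Finite G] in
theorem sq (hx : x ∈ N[V]) (h4 : x * x * (x * x) = 1) : x * x ∈ V := by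
  have := h.p6 hx
  rwa [show x ^ 6 = x * x * (x * x * (x * x)) by simp only [pow_succ, pow_zero, one_mul, mul_assoc], h4, mul_one] at this

theorem iso : Nonempty (N[V] ≃* Equiv.Perm (Fin 4)) := by
  refine CfsgH8.equiv_S4_of_orders h.n24 fun g e => ?_
  rw [← orderOf_coe] at e
  have := h.p8 (t := (g : G) ^ 3) (y := g) (by rw [orderOf_pow, e]; rfl) (by group)
  rw [← orderOf_dvd_iff_pow_eq_one, e] at this
  omega

theorem not_bd (n : u ∉ N[V]) {w : N[V]} (hw : MulAut.conj u (w : G) = (w : G)⁻¹ ∨ MulAut.conj u (w : G) = w) :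
    ¬ Bd w := by
  rintro ⟨s, h1, h2, h3⟩
  have h4 : (s : G) * s * (s * s) = 1 := congrArg Subtype.val h1
  refine n (h.cent_le (h.sq s.2 h4) (fun e => h2 (Subtype.ext e)) (mem_centralizer_singleton_iff.2 ?_))
  rw [← mul_inv_eq_iff_eq_mul, ← MulAut.conj_apply]
  rcases hw with hw | hw
  · refine Eq.trans ?_ (inv_eq_of_mul_eq_one_right h4)
    rcases h3 with rfl | rfl
    · rw [map_mul, hw, mul_inv_rev]
    · exact hw
  · rcases h3 with rfl | rfl
    · rw [map_mul, hw]
    · exact hw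

theorem key (ou : orderOf u = 2) (n : u ∉ N[V]) (hx : x ∈ N[V]) (hy : y ∈ N[V]) (ix : MulAut.conj u x = x⁻¹)
    (iy : MulAut.conj u y = y⁻¹) (x1 : x ≠ 1) (y1 : y ≠ 1) :
    (y = x ∧ (x * x = 1 ∨ x * x * x = 1)) ∨ (x * x * x = 1 ∧ y * x = 1) := by
  have u2 := inv_mul_self ou
  have aux : ∀ x ∈ N[V], ∀ y, MulAut.conj u x = x⁻¹ → MulAut.conj u y = y⁻¹ → x * x = 1 → y * y * y = 1 →
      y * x * y = x → y = 1 := fun x hx y ix iy h1 h2 h3 => by
    rw [inv_eq_of_mul_eq_one_right h1, MulAut.conj_apply, mul_inv_eq_iff_eq_mul] at ix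
    rw [MulAut.conj_apply, mul_inv_eq_iff_eq_mul] at iy
    refine h.no3 (t := u * x) (orderOf_two_iff.2 ⟨?_, fun e => n ?_⟩) h2 ?_
    · rw [mul_assoc, ← mul_assoc x, ← ix, mul_assoc, h1, mul_one, u2]
    · rw [eq_inv_of_mul_eq_one_left e]
      exact inv_mem hx
    · conv_lhs => rw [← h3, ← mul_assoc u, ← mul_assoc u, iy]
      group
  have := wd_of h.iso.some ⟨x, hx⟩ ⟨y, hy⟩
  unfold Wd at this
  simp only [Subtype.ext_iff, ne_eq, Subgroup.coe_mul, Subgroup.coe_one] at this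
  rcases this with e | e | e | e | ⟨h1, h2, h3, h4⟩ | ⟨h1, h2, h3⟩ | ⟨h1, h2, h3⟩ | e | e | e | e | e | ⟨h1, h2, e⟩
  · exact absurd e x1
  · exact absurd e y1
  · exact .inl e
  · exact .inr e
  · refine absurd (h.no3 ou h4 ?_) h3
    rw [eq_comm, ← mul_inv_eq_iff_eq_mul, ← MulAut.conj_apply, map_mul, ix, iy, inv_eq_of_mul_eq_one_right h1,
      inv_eq_of_mul_eq_one_right h2]
  · exact absurd (aux x hx y ix iy h1 h2 h3) y1
  · exact absurd (aux y hy x iy ix h1 h2 h3) x1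
  all_goals refine absurd e (h.not_bd n ?_)
  all_goals simp only [Subgroup.coe_mul, map_mul, ix, iy, mul_inv_rev, mul_assoc, true_or]
  exact .inr (by rw [inv_eq_of_mul_eq_one_right h1, inv_eq_of_mul_eq_one_right h2])

theorem card_inv3 (hy : y ∈ N[V]) (y3 : y * y * y = 1) (y1 : y ≠ 1) :
    Nat.card {x : G // x * x = 1 ∧ y * x * y = x} = o[C1[y]] ∧ ¬ 2 ∣ o[C1[y]] := by
  have h2 : ¬ 2 ∣ o[C1[y]] := fun e => by
    obtain ⟨t, ht, o⟩ := exists_prime_order_mem Nat.prime_two e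
    exact y1 (h.no3 o y3 (mem_centralizer_singleton_iff.1 ht).symm)
  refine ⟨?_, h2⟩
  have := (s4_cnt h.iso.some).2 ⟨y, hy⟩ (Subtype.ext y3) fun e => y1 (congrArg Subtype.val e)
  obtain ⟨⟨t, h3, h4⟩⟩ := (Nat.card_pos_iff.1 ((Nat.zero_lt_succ 2).trans_eq this.symm)).1
  replace h3 : (t : G) * t = 1 := congrArg Subtype.val h3
  replace h4 : y * t * y = t := congrArg Subtype.val h4
  generalize (t : G) = t at h3 h4
  have ot : orderOf t = 2 := orderOf_two_iff.2 ⟨h3, fun e => y1 (by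
    rw [e, mul_one] at h4
    rwa [h4, one_mul] at y3)⟩
  have hn : t ∈ N[C1[y]] := by
    rw [← cent_zpowers]
    refine norm_le_norm_cent _ (mem_norm_of_map_le ?_)
    rw [MonoidHom.map_zpowers, zpowers_le, show CfsgH2.cj t y = y⁻¹ by
      change t * y * t⁻¹ = _
      rw [mul_inv_eq_iff_eq_mul, eq_inv_mul_iff_mul_eq, ← mul_assoc, h4]]
    exact inv_mem (mem_zpowers y)
  have hb : C1[y] ⊓ C1[t] = ⊥ := inf_eq_bot_of_coprime' (coprime_of_pgroup (.of_card (n := 3) (h.c8 t ot)) h2).symm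
  refine Nat.card_congr ⟨fun x => ⟨x * t, mem_centralizer_singleton_iff.2 ?_⟩, fun c => ⟨c * t, ?_, ?_⟩, fun x => ?_,
    fun c => ?_⟩
  · conv_lhs => rw [← x.2.2]
    conv_rhs => rw [← h4]
    group
  · have := CfsgHv.inverts_of_fpf h3 hn hb c.2
    rw [inv_eq_of_mul_eq_one_right h3] at this
    rw [mul_assoc, ← mul_assoc t, this, mul_inv_cancel]
  · rw [← mul_assoc, ← mem_centralizer_singleton_iff.1 c.2, mul_assoc, mul_assoc, ← mul_assoc y, h4]
  · simp [mul_assoc, h3]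
  · simp [mul_assoc, h3]

theorem count (hall : ∀ s t : G, orderOf s = 2 → orderOf t = 2 → IsConj s t) (ht : t ∈ N[V]) (ot : orderOf t = 2)
    (hu : u ∉ N[V]) (ou : orderOf u = 2) (hc : u * t = t * u) : Nat.card G = 168 ∨ Nat.card G = 360 := by
  classical
  have := Fintype.ofFinite G
  obtain ⟨y, hy, oy⟩ := exists_prime_order_mem (H := N[V]) Nat.prime_three (by rw [h.n24]; norm_num)
  have y1 : y ≠ 1 := fun e => by simp [e] at oy
  have y3 : y * y * y = 1 := by rw [← pow_three', ← oy, pow_orderOf_eq_one]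
  have hG := N[V].card_mul_index
  rw [h.n24] at hG
  set J := ({x | orderOf x = 2 ∧ x ∉ N[V]} : Finset G) with hJ
  have mJ : ∀ x, x ∈ J ↔ orderOf x = 2 ∧ x ∉ N[V] := fun x => by simp [hJ]
  have cJ : ∀ g ∈ N[V], ∀ x ∈ J, g * x * g⁻¹ ∈ J := fun g hg x hx => (mJ _).2
    ⟨by rw [orderOf_conj', ((mJ x).1 hx).1], fun e => ((mJ x).1 hx).2 (by simpa [mul_assoc] using conj_mem_of_norm' (le_normalizer hg) e)⟩
  have c1 : #J + 9 = 3 * N[V].index := by
    have h1 := card_isConj_mul u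
    have h2 : Nat.card {x // IsConj u x} = #({x | orderOf x = 2} : Finset G) := by
      rw [← Nat.card_eq_finsetCard]
      exact Nat.card_congr (Equiv.subtypeEquivRight fun x => by
        simpa only [mem_filter, mem_univ, true_and] using ⟨fun e => (orderOf_isConj e).trans ou, hall u x ou⟩)
    have h3 : #{x ∈ ({x | orderOf x = 2} : Finset G) | x ∈ N[V]} = 9 := by
      rw [← (s4_cnt h.iso.some).1, ← Nat.card_eq_finsetCard]
      exact Nat.card_congr ⟨fun x => ⟨⟨x, by simpa using (mem_filter.1 x.2).2⟩, by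
          simpa [Subtype.ext_iff, orderOf_two_iff] using (mem_filter.1 x.2).1⟩,
        fun x => ⟨x.1, mem_filter.2 ⟨mem_filter.2 ⟨mem_univ _, orderOf_two_iff.2
          ⟨congrArg Subtype.val x.2.1, fun e => x.2.2 (Subtype.ext e)⟩⟩, x.1.2⟩⟩, fun _ => rfl, fun _ => rfl⟩
    have h4 := card_filter_add_card_filter_not (s := ({x | orderOf x = 2} : Finset G)) (· ∈ N[V])
    rw [h3, filter_filter, ← hJ] at h4
    rw [h2, h.c8 u ou, ← h4] at h1
    omega
  let pA : G → Prop := fun u => ∃ t ∈ N[V], t ≠ 1 ∧ t * t = 1 ∧ MulAut.conj u t = t⁻¹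
  let pB : G → Prop := fun u => ∃ y ∈ N[V], y ≠ 1 ∧ y * y * y = 1 ∧ MulAut.conj u y = y⁻¹
  have c2 : 12 ≤ #{x ∈ J | pA x} := by
    have it : MulAut.conj u t = t⁻¹ := by rw [inv_inv_eq ot, MulAut.conj_apply, hc, mul_inv_cancel_right]
    have := card_le_mul_card_image_of_maps_to (s := ({g | g ∈ N[V]} : Finset G)) (t := {x ∈ J | pA x})
      (f := fun g => g * u * g⁻¹) (fun g hg => by
        replace hg : g ∈ N[V] := by simpa using hg
        refine mem_filter.2 ⟨cJ g hg u ((mJ u).2 ⟨ou, hu⟩), g * t * g⁻¹, mul_mem (mul_mem hg ht) (inv_mem hg),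
          by simpa using inv_ne_one ot, by rw [conj_mul, inv_mul_self ot]; simp, ?_⟩
        rw [conj_inv, ← it]
        simp [mul_assoc]) 2 fun x _ => by
      rcases Finset.eq_empty_or_nonempty {g ∈ ({g | g ∈ N[V]} : Finset G) | g * u * g⁻¹ = x} with e | ⟨g, hg⟩
      · simp [e]
      refine (Finset.card_le_card fun k hk => ?_).trans (card_le_two (a := g) (b := g * t))
      simp only [mem_filter, mem_univ, true_and] at hg hk
      have m := mul_mem (inv_mem hg.1) hk.1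
      have e : g⁻¹ * k * u = u * (g⁻¹ * k) := by
        rw [← mul_inv_eq_iff_eq_mul, show g⁻¹ * k * u * (g⁻¹ * k)⁻¹ = g⁻¹ * (k * u * k⁻¹) * g by group, hk.2, ← hg.2]
        group
      rw [mem_insert, mem_singleton, ← inv_mul_eq_iff_eq_mul, eq_comm, ← inv_mul_eq_one]
      generalize g⁻¹ * k = c at m e
      have h6 : c ^ 6 = 1 := by_contra fun n => hu (h.cent_le (h.p6 m) n
        (mem_centralizer_singleton_iff.2 (Commute.pow_right (show Commute u c from e.symm) 6)))
      have h2 : c * c = 1 := by rw [← h.p8 ou e, show c ^ 8 = c ^ 6 * (c * c) by group, h6, one_mul]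
      refine or_iff_not_imp_left.2 fun c1 => ?_
      rcases h.key ou hu ht m it (by rw [inv_eq_of_mul_eq_one_right h2, MulAut.conj_apply, ← e, mul_inv_cancel_right])
        (inv_ne_one ot) c1 with e | e
      · exact e.1
      · exact absurd (by simpa [inv_mul_self ot] using e.1) (inv_ne_one ot)
    rw [← Nat.card_eq_finsetCard, show Nat.card ({g | g ∈ N[V]} : Finset G) = 24 from
      (Nat.card_congr (Equiv.subtypeEquivRight fun x => by simp)).trans h.n24] at this
    omega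
  have iy : ∀ x : G, x * x = 1 → (MulAut.conj x y = y⁻¹ ↔ y * x * y = x) := fun x _ => by
    rw [MulAut.conj_apply, mul_inv_eq_iff_eq_mul, eq_inv_mul_iff_mul_eq, ← mul_assoc]
  have c3 : #{x ∈ J | MulAut.conj x y = y⁻¹} + 3 = o[C1[y]] := by
    have h3 : #{x ∈ ({x | x * x = 1 ∧ y * x * y = x} : Finset G) | x ∈ N[V]} = 3 := by
      rw [← (s4_cnt h.iso.some).2 ⟨y, hy⟩ (Subtype.ext y3) fun e => y1 (congrArg Subtype.val e), ← Nat.card_eq_finsetCard]
      exact Nat.card_congr ⟨fun x => ⟨⟨x, by simpa using (mem_filter.1 x.2).2⟩, by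
          simpa [Subtype.ext_iff] using (mem_filter.1 x.2).1⟩,
        fun x => ⟨x.1, by simpa [Subtype.ext_iff] using x.2⟩, fun _ => rfl, fun _ => rfl⟩
    have h4 := card_filter_add_card_filter_not (s := ({x | x * x = 1 ∧ y * x * y = x} : Finset G)) (· ∈ N[V])
    rw [← (h.card_inv3 hy y3 y1).1, Nat.card_eq_fintype_card, Fintype.card_subtype, ← h4, h3, add_comm]
    congr 2
    ext x
    simp only [mem_filter, mem_univ, true_and, mJ, orderOf_two_iff]
    exact ⟨fun e => ⟨⟨e.1.1.1, (iy x e.1.1.1).1 e.2⟩, e.1.2⟩,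
      fun e => ⟨⟨⟨e.1.1, fun e1 => e.2 (e1 ▸ one_mem _)⟩, e.2⟩, (iy x e.1.1).2 e.1.2⟩⟩
  have c4 : #{x ∈ {x ∈ J | ¬ pA x} | pB x} = 4 * #{x ∈ J | MulAut.conj x y = y⁻¹} := by
    rw [← h.k4.1, show o[V] = #({g | g ∈ V} : Finset G) from (Nat.card_congr (Equiv.subtypeEquivRight fun x => by
      simp)).trans (Nat.card_eq_finsetCard _), ← card_product]
    refine (card_bij (fun a _ => a.1 * a.2 * a.1⁻¹) (fun a ha => ?_) (fun a ha b hb e => ?_) fun x hx => ?_).symm
    · simp only [mem_product, mem_filter, mem_univ, true_and] at ha ⊢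
      have m := cJ _ (le_normalizer ha.1) _ ha.2.1
      have b1 : a.1 * y * a.1⁻¹ ∈ N[V] := conj_mem_of_norm (le_normalizer (le_normalizer ha.1)) hy
      have b2 : a.1 * y * a.1⁻¹ ≠ 1 := by simpa using y1
      have b3 : a.1 * y * a.1⁻¹ * (a.1 * y * a.1⁻¹) * (a.1 * y * a.1⁻¹) = 1 := by rw [conj_mul, conj_mul, y3]; simp
      have b4 : MulAut.conj (a.1 * a.2 * a.1⁻¹) (a.1 * y * a.1⁻¹) = (a.1 * y * a.1⁻¹)⁻¹ := by
        rw [conj_inv, ← ha.2.2]
        simp [mul_assoc]
      refine ⟨⟨m, fun ⟨t, t1, t2, t3, t4⟩ => ?_⟩, _, b1, b2, b3, b4⟩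
      rcases h.key ((mJ _).1 m).1 ((mJ _).1 m).2 t1 b1 t4 b4 t2 b2 with e | e
      · rw [e.1, t3, one_mul] at b3
        exact t2 b3
      · exact t2 (by simpa [t3] using e.1)
    · simp only [mem_product, mem_filter, mem_univ, true_and] at ha hb
      have m := mul_mem (inv_mem hb.1) ha.1
      have e1 : b.2 = b.1⁻¹ * a.1 * a.2 * (b.1⁻¹ * a.1)⁻¹ := by
        rw [show b.1⁻¹ * a.1 * a.2 * (b.1⁻¹ * a.1)⁻¹ = b.1⁻¹ * (a.1 * a.2 * a.1⁻¹) * b.1 by group, e]; group
      have e2 : b.1⁻¹ * a.1 = 1 := by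
        generalize b.1⁻¹ * a.1 = w at m e1
        by_contra w1
        rcases h.key ((mJ _).1 hb.2.1).1 ((mJ _).1 hb.2.1).2 hy (conj_mem_of_norm (le_normalizer (le_normalizer m)) hy)
          hb.2.2 (by rw [conj_inv, ← ha.2.2, e1]; simp [mul_assoc]) y1 (by simpa using y1) with e | e
        · exact y1 (h.no3 (orderOf_two_iff.2 ⟨h.k4.2 w m, w1⟩) y3 (mul_inv_eq_iff_eq_mul.1 e.1).symm)
        · have := h.k4.2 _ (mul_mem m (conj_mem_of_norm hy (inv_mem m)))
          rw [show w * (y * w⁻¹ * y⁻¹) = w * y * w⁻¹ * y * (y * y * y)⁻¹ * y by group, e.2, y3] at this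
          refine y1 ?_
          rw [← y3, show y * y = 1 by simpa using this, one_mul]
      rw [e2] at e1
      exact Prod.ext (inv_mul_eq_one.1 e2).symm (by simpa using e1.symm)
    · simp only [mem_filter] at hx
      obtain ⟨⟨m, -⟩, w, w1, w2, w3, w4⟩ := hx
      obtain ⟨r, r1, r2⟩ := s4_conj h.iso.some (x := ⟨w, w1⟩) (y := ⟨y, hy⟩) (Subtype.ext w3)
        (fun e => w2 (congrArg Subtype.val e)) (Subtype.ext y3) fun e => y1 (congrArg Subtype.val e)
      have r3 := h.sq r.2 (congrArg Subtype.val r1)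
      simp only [Subtype.ext_iff, Subgroup.coe_mul] at r2
      generalize (r : G) * r = v at r2 r3
      refine ⟨(v, v⁻¹ * x * v), ?_, by simp [mul_assoc]⟩
      simp only [mem_product, mem_filter, mem_univ, true_and]
      refine ⟨r3, by simpa using cJ _ (inv_mem (le_normalizer r3)) x m, ?_⟩
      rcases r2 with e | e
      · rw [show y = v⁻¹ * w * v by rw [mul_assoc, e]; simp, mul_inv_rev, mul_inv_rev, ← w4]
        simp [mul_assoc]
      · have e1 : y = v⁻¹ * w⁻¹ * v := by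
          rw [mul_assoc, eq_inv_mul_iff_mul_eq, eq_inv_mul_iff_mul_eq, ← mul_assoc, e]
        rw [e1, mul_inv_rev, mul_inv_rev, inv_inv w]
        conv_rhs => rw [← inv_inv w, ← w4]
        simp [mul_assoc]
  have c5 := sum_le_of_fib J (univ.erase ((1 : G) : G ⧸ N[V])) (fun x => (x : G ⧸ N[V]))
    (fun x => if pA x then 3 else if pB x then 2 else 6) 6 (fun x hx => by
      simpa [eq_comm, QuotientGroup.eq] using ((mJ x).1 hx).2) fun x hx => by
    obtain ⟨ox, nx⟩ := (mJ x).1 hx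
    have fb : ∀ k ∈ J.filter (fun k : G => (k : G ⧸ N[V]) = x), ∃ c ∈ N[V], MulAut.conj x c = c⁻¹ ∧ k = x * c := fun k hk => by
      obtain ⟨h1, h2⟩ := mem_filter.1 hk
      refine ⟨x⁻¹ * k, QuotientGroup.eq.1 h2.symm, ?_, by simp⟩
      simp [inv_inv_eq ox, inv_inv_eq ((mJ k).1 h1).1, ← mul_assoc, inv_mul_self ox]
    split_ifs with h1 h2
    · obtain ⟨t, t1, t2, t3, t4⟩ := h1
      refine Nat.mul_le_mul_left 3 ((Finset.card_le_card fun k hk => ?_).trans (card_le_two (a := x) (b := x * t)))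
      obtain ⟨c, c1, c2, rfl⟩ := fb k hk
      by_cases c0 : c = 1
      · simp [c0]
      rcases h.key ox nx t1 c1 t4 c2 t2 c0 with e | e
      · simp [e.1]
      · exact absurd (by simpa [t3] using e.1) t2
    · obtain ⟨t, t1, t2, t3, t4⟩ := h2
      refine Nat.mul_le_mul_left 2 ((Finset.card_le_card fun k hk => ?_).trans
        (card_le_three (a := x) (b := x * t) (c := x * t⁻¹)))
      obtain ⟨c, c1, c2, rfl⟩ := fb k hk
      by_cases c0 : c = 1
      · simp [c0]
      rcases h.key ox nx t1 c1 t4 c2 t2 c0 with e | e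
      · simp [e.1]
      · simp [eq_inv_of_mul_eq_one_left e.2]
    · refine Nat.mul_le_mul_left 6 ((Finset.card_le_card fun k hk => ?_).trans (card_singleton x).le)
      obtain ⟨c, c1, c2, rfl⟩ := fb k hk
      by_cases c0 : c = 1
      · simp [c0]
      rcases h.key ox nx c1 c1 c2 c2 c0 c0 with ⟨-, e | e⟩ | e
      · exact absurd ⟨c, c1, c0, e, c2⟩ h1
      · exact absurd ⟨c, c1, c0, e, c2⟩ h2
      · exact absurd ⟨c, c1, c0, e.1, c2⟩ h2
  rw [sum_ite, sum_ite, card_erase_of_mem (mem_univ _), card_univ, ← Nat.card_eq_fintype_card, ← index_eq_card] at c5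
  simp only [sum_const, smul_eq_mul] at c5
  have c6 := card_filter_add_card_filter_not (s := J) fun x => pA x
  have c7 := card_filter_add_card_filter_not (s := {x ∈ J | ¬ pA x}) fun x => pB x
  have c8 := (h.card_inv3 hy y3 y1).2
  have c9 := oy ▸ orderOf_dvd_of_mem (self_mem_cent1 y)
  have c0 := card_subgroup_dvd_card C1[y]
  have e : Nat.card G = o[C1[y]] * 32 + 72 := by omega
  rw [e, Nat.dvd_add_right (dvd_mul_right _ _)] at c0
  have := Nat.le_of_dvd (by norm_num) c0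
  generalize o[C1[y]] = m at *
  interval_cases m <;> omega

end D8H
end CfsgL0
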