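import Cfsg.Agent.H8.Za15
import Cfsg.Agent.H8.Gleason
import Cfsg.Agent.L0.Count
import Cfsg.Agent.H1.Misc1

/-! Simple groups of order `360`. -/

namespace CfsgL0
open Function Subgroup Cfsg CfsgH2 CfsgH8 CfsgH8.Za MulAction

variable {G : Type*} [Group G] [Finite G]

theorem four_dvd_moved {Ω : Type*} [MulAction G Ω] [Finite Ω] (h : ∀ H : Subgroup G, H.index ≠ 2) {s : G}
    (hs : s * s = 1) : ∃ k, Nat.card Ω = Nat.card (fixedBy Ω s) + 4 * k := by
  classical
  have := Fintype.ofFinite Ω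
  have h1 : Equiv.Perm.sign (toPermHom G Ω s) = 1 := by
    by_contra h1
    refine h (Equiv.Perm.sign.comp (toPermHom G Ω)).ker ?_
    rw [index_ker, MonoidHom.range_eq_top.2, card_top, Nat.card_eq_fintype_card, Fintype.card_units_int]
    intro u
    rcases Int.units_eq_one_or u with rfl | rfl
    exacts [⟨1, map_one _⟩, ⟨s, Int.units_ne_iff_eq_neg.1 h1⟩]
  have h2 : Nat.card Ω = Nat.card (fixedBy Ω s) + (toPermHom G Ω s).support.card := by
    rw [Nat.card_eq_fintype_card, ← Finset.card_add_card_compl (toPermHom G Ω s).support, add_comm,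
      Nat.card_eq_card_toFinset]
    congr 2
    ext x
    simp
  rw [h2]
  by_cases e : toPermHom G Ω s = 1
  · exact ⟨0, by simp [e]⟩
  have h3 : orderOf (toPermHom G Ω s) = 2 := orderOf_eq_prime (by rw [← map_pow, pow_two, hs, map_one]) e
  obtain ⟨n, hn⟩ := Equiv.Perm.cycleType_prime_order (h3 ▸ Nat.prime_two)
  rw [Equiv.Perm.sign_of_cycleType, hn, h3] at h1
  rw [← Equiv.Perm.sum_cycleType, hn, h3]
  simp only [Multiset.sum_replicate, Multiset.card_replicate, smul_eq_mul] at h1 ⊢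
  rcases Nat.even_or_odd (n + 1) with ⟨k, e⟩ | e
  · exact ⟨k, by omega⟩
  · rw [Odd.neg_one_pow (by rw [Nat.odd_iff] at e ⊢; omega)] at h1
    simp at h1

theorem fixed_modEq {Ω : Type*} [MulAction G Ω] [Finite Ω] {p k : ℕ} (hp : p.Prime) {s u : G} (hc : u * s = s * u)
    (hu : u ^ p ^ k = 1) {a : Ω} (ha : s • a = a) (h : ∀ x, u • x = x ↔ x = a) :
    Nat.card (fixedBy Ω s) ≡ 1 [MOD p] := by
  let X : SubMulAction C1[s] Ω := ⟨fixedBy Ω s, fun c x hx => by
    change s • ((c : G) • x) = (c : G) • x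
    rw [smul_smul, ← mem_centralizer_singleton_iff.1 c.2, ← smul_smul, show s • x = x from hx]⟩
  have := card_modEq_card_fixedBy (Ω := X) hp (g := (⟨u, mem_centralizer_singleton_iff.2 hc⟩ : C1[s])) (k := k)
    (Subtype.ext hu)
  rwa [show fixedBy X (⟨u, mem_centralizer_singleton_iff.2 hc⟩ : C1[s]) = {⟨a, ha⟩} from Set.ext fun x => by
    rw [mem_fixedBy, Subtype.ext_iff, Set.mem_singleton_iff, Subtype.ext_iff]
    exact h x, Nat.card_coe_set_eq {_}, Set.ncard_singleton] at this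

omit [Finite G] in
theorem sy_fix {p : ℕ} {g : G} {P : Sylow p G} : g • P = P ↔ g ∈ N[(P : Subgroup G)] :=
  Sylow.smul_eq_iff_mem_normalizer

variable [IsSimpleGroup G] (h : Nat.card G = 360)
include h

theorem s360_idx {H : Subgroup G} (hH : H ≠ ⊤) : o[H] ≤ 60 := by
  have h1 := card_dvd_factorial_of_simple H hH
  have h2 := H.card_mul_index
  rw [h] at h1 h2
  by_contra h3
  have : H.index ≤ 5 := by nlinarith
  generalize H.index = n at *
  interval_cases n <;> simp [Nat.factorial] at h1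

theorem s360_norm {H : Subgroup G} (h0 : H ≠ ⊥) (h1 : o[H] < 360) : o[N[H]] ≤ 60 :=
  s360_idx h fun e => (normal_of_top_le_norm e.ge).eq_bot_or_eq_top.elim h0 fun e => by
    rw [e, card_top] at h1; omega

omit [IsSimpleGroup G] in
theorem s360_card {P : Subgroup G} (s : Syl 3 P ⊤) : o[P] = 9 ∧ Ab[P] := by
  have : o[P] = 3 ^ 2 := by rw [s.card_eq, card_top, h]; decide +kernel
  exact ⟨this, IsPGroup.isMulCommutative_of_card_eq_prime_sq this⟩

theorem s360_n {P : Subgroup G} (s : Syl 3 P ⊤) : o[N[P]] = 36 := by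
  obtain ⟨h1, h2⟩ := s360_card h s
  have h3 := s360_norm h (H := P) (fun e => by simp [e] at h1) (by omega)
  have h4 := card_mul_relIndex (le_normalizer : P ≤ _)
  have h5 := N[P].card_mul_index
  have h6 : N[P].index % 3 = 1 := CfsgH1.Syl.card_sylow s ▸ card_sylow_modEq_one 3 G
  have h7 : P.relIndex N[P] ≠ 1 := fun e => by
    have := (s.npc_of_norm_le_cent (inf_le_right.trans ((relIndex_eq_one.1 e).trans (le_cent_self h2)))).sup_eq s
    rcases (normal_of_top_le_norm (le_norm_piCoreOf (π := {3}ᶜ) (M := (⊤ : Subgroup G)))).eq_bot_or_eq_top with e | e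
    · rw [e, bot_sup_eq] at this
      rw [this, card_top] at h1
      omega
    · have := piN_piCoreOf (π := {3}ᶜ) (M := (⊤ : Subgroup G))
      rw [e, card_top, h] at this
      exact this 3 Nat.prime_three (by norm_num) rfl
  rw [← h4, h1] at h3 h5 ⊢
  rw [h] at h5
  generalize P.relIndex N[P] = k at *
  have : k ≤ 6 := by omega
  interval_cases k <;> omega

theorem s360_ti {P Q : Subgroup G} (s : Syl 3 P ⊤) (t : Syl 3 Q ⊤) {x : G} (hP : x ∈ P) (hQ : x ∈ Q) (x1 : x ≠ 1) :
    P = Q := by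
  by_contra n
  obtain ⟨h1, h2⟩ := s360_card h s
  have l1 : P ≤ C1[x] := (le_cent_self h2).trans (cent_le_cent1 hP)
  have l2 : Q ≤ C1[x] := (le_cent_self (s360_card h t).2).trans (cent_le_cent1 hQ)
  have h3 : o[C1[x]] ≤ 60 := by
    rw [← cent_zpowers]
    refine (card_le_of_le (CfsgH2.cent_le_norm _)).trans (s360_norm h (by simpa using x1) ?_)
    have := card_le_of_le (zpowers_le.2 hP)
    omega
  have s1 := s.mono l1 le_top
  have h4 := card_mul_relIndex l1
  have h5 := relIndex_mul_relIndex P (N[P] ⊓ C1[x]) C1[x] (le_inf le_normalizer l1) inf_le_right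
  have h6 : N[P].relIndex C1[x] % 3 = 1 := CfsgH1.Syl.card_sylow_sub s1 ▸ card_sylow_modEq_one 3 _
  have h7 : N[P].relIndex C1[x] ≠ 1 := fun e => n ((s1.eq_of_norm (t.mono l2 le_top) (relIndex_eq_one.1 e))).symm
  rw [inf_relIndex_right] at h5
  have h8 : P.relIndex (N[P] ⊓ C1[x]) = 1 ∧ o[C1[x]] = 36 := by
    rw [← h4, ← h5, h1] at h3 ⊢
    have := CfsgH2.relIndex_pos P (N[P] ⊓ C1[x])
    generalize N[P].relIndex C1[x] = a at *
    generalize P.relIndex (N[P] ⊓ C1[x]) = b at *
    have : 4 ≤ a := by omega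
    have : b = 1 := by nlinarith
    subst this
    omega
  have h9 := s1.npc_of_norm_le_cent (inf_comm N[P] _ ▸ (relIndex_eq_one.1 h8.1).trans (le_cent_self h2))
  have e1 : o[O[{3}ᶜ, C1[x]]] = 4 := by
    have := card_sup_of_disj (.inr (l1.trans le_norm_piCoreOf))
      (inf_eq_bot_of_piN (π := {3}ᶜ) (piN_piCoreOf (M := C1[x])) (by rw [compl_compl]; exact CfsgH2.IsPGroup.piN s.pg rfl))
    rw [h9.sup_eq s1, h8.2, h1] at this
    omega
  have e2 := card_dvd_of_le (le_norm_piCoreOf (π := {3}ᶜ) (M := C1[x]))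
  generalize O[{3}ᶜ, C1[x]] = V at *
  have e3 := s360_norm h (H := V) (fun e => by simp [e] at e1) (by omega)
  have pV : PG[2, V] := .of_card (n := 2) e1
  obtain ⟨S, hS, l⟩ := exists_syl_ge pV le_top
  have e4 : o[S] = 8 := by rw [hS.card_eq, card_top, h]; decide +kernel
  have e5 := lt_inf_norm hS.pg.isNilpotent (lt_of_le_of_ne l fun e => by rw [e] at e1; omega)
  have e6 := card_lt_of_lt e5
  have e7 := card_dvd_of_le (inf_le_left : S ⊓ N[V] ≤ _)
  have e8 := card_dvd_of_le (inf_le_right : S ⊓ N[V] ≤ _)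
  have e9 : o[S ⊓ N[V]] = 8 := by
    rw [e4] at e7
    have := Nat.le_of_dvd (by norm_num) e7
    generalize o[S ⊓ N[V]] = k at *
    interval_cases k <;> omega
  have := CfsgH2.card_pos' N[V]
  rw [h8.2] at e2
  rw [e9] at e8
  omega

theorem s360_fix {P Q : Sylow 3 G} {x : G} (hP : x ∈ P) (x1 : x ≠ 1) : x • Q = Q ↔ Q = P := by
  refine ⟨fun e => ?_, fun e => e ▸ sy_fix.2 (le_normalizer hP)⟩
  obtain ⟨k, hk⟩ := pgroup_pow_eq_one P.2 hP
  exact Sylow.ext (s360_ti h (syl_top Q) (syl_top P) (((syl_top Q).mono le_normalizer le_top).mem_of_norm le_rfl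
    (sy_fix.1 e) hk) hP x1)

theorem s360_sy : Nat.card (Sylow 3 G) = 10 := by
  obtain ⟨P⟩ : Nonempty (Sylow 3 G) := inferInstance
  have := N[(P : Subgroup G)].card_mul_index
  rw [s360_n h (syl_top P), h, ← CfsgH1.Syl.card_sylow (syl_top P)] at this
  omega

theorem s360_tr {P Q R : Sylow 3 G} (h1 : Q ≠ P) (h2 : R ≠ P) : ∃ x ∈ P, x • Q = R := by
  classical
  let f : ↥(P : Subgroup G) → {X : Sylow 3 G // X ≠ P} := fun x => ⟨(x : G) • Q, fun e => h1 (by
    rw [← smul_left_cancel_iff (x : G), e, sy_fix.2 (le_normalizer x.2)])⟩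
  have : Bijective f := by
    refine (Nat.bijective_iff_injective_and_card f).2 ⟨fun x y e => ?_, ?_⟩
    · by_contra n
      refine h1 ((s360_fix h (x := (y⁻¹ * x : (P : Subgroup G))) (y⁻¹ * x).2 fun e => n ?_).1 ?_)
      · exact (inv_mul_eq_one.1 (Subtype.ext e)).symm
      · rw [coe_mul, mul_smul, show (x : G) • Q = (y : G) • Q from congrArg Subtype.val e]
        simp
    · have := Nat.card_congr (Equiv.optionSubtypeNe P)
      rw [s360_sy h, Finite.card_option] at this
      rw [(s360_card h (syl_top P)).1]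
      omega
  obtain ⟨x, e⟩ := this.2 ⟨R, h2⟩
  exact ⟨x, x.2, congrArg Subtype.val e⟩

theorem s360_zt : ZT G (Sylow 3 G) := by
  have : Nontrivial (Sylow 3 G) := Finite.one_lt_card_iff_nontrivial.1 (by rw [s360_sy h]; omega)
  refine ⟨faith_of_simple, fun a b c d h1 h2 => ?_, fun g a b c h1 h2 h3 ea eb ec => ?_⟩
  · obtain ⟨g, rfl⟩ := exists_smul_eq G a c
    obtain ⟨x, hx, e⟩ := s360_tr h (P := g • a) (Q := g • b) (by simpa using h1.symm) h2.symm
    exact ⟨x * g, by rw [mul_smul, sy_fix.2 (le_normalizer hx)], by rw [mul_smul, e]⟩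
  by_contra g1
  have hd : orderOf g ∣ 4 := by
    have := card_sup_of_disj (H := zpowers g) (K := (a : Subgroup G))
      (.inl (zpowers_le.2 (sy_fix.1 ea))) (eq_bot_iff.2 fun x hx => by_contra fun x1 =>
        h1 ((s360_fix h hx.2 x1).1 (zpowers_le.2 (show g ∈ stabilizer G b from eb) hx.1)).symm)
    have h4 := card_dvd_of_le (sup_le (zpowers_le.2 (sy_fix.1 ea)) le_normalizer)
    rw [this, s360_n h (syl_top a), (s360_card h (syl_top a)).1, Nat.card_zpowers] at h4
    exact Nat.dvd_of_mul_dvd_mul_right (by norm_num) h4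
  obtain ⟨s, hs, o⟩ := exists_prime_order_mem (H := zpowers g) Nat.prime_two (by
    rw [Nat.card_zpowers]
    have := Nat.le_of_dvd (by norm_num) hd
    have := mt orderOf_eq_one_iff.1 g1
    generalize orderOf g = k at *
    interval_cases k <;> omega)
  have fx : ∀ x : Sylow 3 G, g • x = x → s • x = x := fun x e => zpowers_le.2 (show g ∈ stabilizer G x from e) hs
  obtain ⟨u, hu, e⟩ := s360_tr h h1.symm h3.symm
  have u1 : u ≠ 1 := fun e1 => h2 (by rw [← e, e1, one_smul])
  have hc : u * s = s * u := by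
    by_contra n
    refine h1 ((s360_fix h (x := u⁻¹ * (s * u * s⁻¹)) (mul_mem (inv_mem hu)
      (conj_mem_of_norm (sy_fix.1 (fx a ea)) hu)) fun e => n ?_).1 ?_).symm
    · rw [inv_mul_eq_one, eq_mul_inv_iff_mul_eq] at e
      exact e
    · rw [mul_smul, mul_smul, mul_smul, inv_smul_eq_iff.2 (fx b eb).symm, e, fx c ec, inv_smul_eq_iff, e]
  obtain ⟨k, hk⟩ := pgroup_pow_eq_one a.2 hu
  have h4 := fixed_modEq Nat.prime_three hc hk (fx a ea) fun x => s360_fix h hu u1
  obtain ⟨m, h5⟩ := four_dvd_moved (Ω := Sylow 3 G) (simple_even_facts (G := G) (by rw [h]; decide) (by omega)).2.1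
    (s := s) (by rw [← pow_two, ← o, pow_orderOf_eq_one])
  have h6 : 2 < Nat.card (fixedBy (Sylow 3 G) s) := by
    rw [Nat.card_coe_set_eq, Set.two_lt_ncard]
    exact ⟨a, fx a ea, b, fx b eb, c, fx c ec, h1, h3, h2⟩
  have h7 : fixedBy (Sylow 3 G) s = Set.univ := by
    rw [Set.eq_univ_iff_ncard, ← Nat.card_coe_set_eq]
    rw [s360_sy h] at h5 ⊢
    unfold Nat.ModEq at h4
    omega
  rw [faith_of_simple (Ω := Sylow 3 G) s fun x => h7.ge trivial] at o
  simp at o

theorem psl_360 (F : Type*) [Field F] [Fintype F] (hF : Fintype.card F = 9) :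
    Nonempty (G ≃* Matrix.ProjectiveSpecialLinearGroup (Fin 2) F) := by
  have : Nontrivial (Sylow 3 G) := Finite.one_lt_card_iff_nontrivial.1 (by rw [s360_sy h]; omega)
  obtain ⟨a, b, hab⟩ := exists_pair_ne (Sylow 3 G)
  obtain ⟨K, k⟩ := (s360_zt h).exists_K hab
  have e1 : o[K] = 9 := by have := k.card_Ω'; rw [s360_sy h] at this; omega
  have e2 := k.card_G
  rw [e1, h] at e2
  rcases k.zas_or with hz | ⟨M, R⟩
  · exact psl_of_half hz k (by omega) F (hF.trans e1.symm)
  have := R.card a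
  rw [s360_sy h] at this
  rcases R.normal.eq_bot_or_eq_top with rfl | rfl
  · rw [card_bot] at this; omega
  · rw [card_top] at this; omega

theorem a6_360 : Nonempty (G ≃* alternatingGroup (Fin 6)) := by
  have : Fact (Nat.Prime 3) := ⟨Nat.prime_three⟩
  have := Fintype.ofFinite (GaloisField 3 2)
  have hF : Fintype.card (GaloisField 3 2) = 9 := by rw [← Nat.card_eq_fintype_card, GaloisField.card 3 2 two_ne_zero]; rfl
  have := alternatingGroup.isSimpleGroup (α := Fin 6) (by simp)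
  exact ⟨(psl_360 h _ hF).some.trans (psl_360 (G := alternatingGroup (Fin 6)) (by
    rw [nat_card_alternatingGroup]; simp [Nat.factorial]) _ hF).some.symm⟩

end CfsgL0
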