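import Cfsg.Agent.L0.D8D
import Cfsg.Agent.L0.S360
import Cfsg.Agent.S3277
import Cfsg.Agent.H8.Klein
import Cfsg.Agent.H5.SLBasic

/-! Groups with an involution centralizer dihedral of order `8`. -/

namespace CfsgL0
open Function Subgroup Cfsg CfsgH2

variable {G : Type*} [Group G] [Finite G] {S T : Subgroup G} {a b x y z : G}

theorem d8_setup (hz : orderOf z = 2) (e : C1[z] ≃* DihedralGroup 4) :
    ∃ a b, DH C1[z] a b 1 ∧ z = a ^ 2 ^ 1 ∧ Syl 2 C1[z] ⊤ := by
  have c : o[C1[z]] = 8 := by rw [Nat.card_congr e.toEquiv, DihedralGroup.nat_card]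
  have pg : PG[2, C1[z]] := .of_card (n := 3) c
  obtain h4 | ⟨a, b, m, h⟩ := dh_of pg (by norm_num) e
  · have := h4.1; omega
  obtain rfl : m = 1 := by
    have := h.card
    rw [c] at this
    have := Nat.pow_right_injective le_rfl (show 2 ^ 3 = 2 ^ (m + 2) from this)
    omega
  have e1 : z = a ^ 2 ^ 1 := (zpowers_two (half_sq h.ord) (h.center_eq ▸ mem_inf.2
    ⟨self_mem_cent1 z, le_cent1_iff.1 le_rfl⟩)).resolve_left (inv_ne_one hz)
  refine ⟨a, b, h, e1, .of_norm le_top ?_⟩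
  have : N[C1[z]] ≤ C1[z] := fun g hg => by
    have := conj_mem_of_norm (mem_norm_inf hg (norm_le_norm_cent _ hg)) (h.center_eq ▸ mem_zpowers _)
    rw [h.center_eq, ← e1] at this
    rcases zpowers_two (inv_mul_self hz) this with e | e
    · exact absurd (conj_eq_one_iff.1 e) (inv_ne_one hz)
    · exact mem_centralizer_singleton_iff.2 (mul_inv_eq_iff_eq_mul.1 e)
  rw [top_inf_eq, le_antisymm this le_normalizer]
  exact .self pg

section
variable (h : DH S a b 1) (hC : C1[a ^ 2 ^ 1] = S) (s : Syl 2 S ⊤)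
include h hC

theorem d8_c8 (hx : IsConj (a ^ 2 ^ 1) x) : o[C1[x]] = 8 := by
  obtain ⟨g, rfl⟩ := isConj_iff.1 hx
  rw [CfsgH2.centralizer_conj, CfsgH2.card_map_cj, hC, h.card]; rfl

include s

theorem d8_four (hx : x ∈ S) (x1 : x ∉ zpowers a) (f : Fz a x) (hT : T = zpowers (a ^ 2 ^ 1) ⊔ zpowers x) :
    K4 T ∧ T ≤ S ∧ C[T] = T ∧ o[N[T]] = 24 := by
  have k : K4 T := hT ▸ mc_k4_of h.toMC hx x1 (h.out _ hx x1)
  have l : T ≤ S := hT ▸ sup_le (zpowers_le.2 (pow_mem h.amem _)) (zpowers_le.2 hx)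
  have c : C[T] = T := by
    refine Eq.trans (right_eq_inf.2 ?_) (mc_k4_cent h.toMC k l)
    rw [← hC]
    exact cent_le_cent1 (hT ▸ mem_sup_left (mem_zpowers _))
  refine ⟨k, l, c, ?_⟩
  rw [← card_mul_relIndex (CfsgH2.cent_le_norm T),
    (mc_k4_fuse h.toMC h.nq s k l (hT ▸ mem_sup_right (mem_zpowers _)) x1).2 f, c, k.1]

theorem d8_both (f1 : Fz a b) (f2 : Fz a (a * b)) : IsSimpleGroup G ∧ (Nat.card G = 168 ∨ Nat.card G = 360) := by
  have ob := h.ord2 h.bmem h.nmem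
  have oc := h.ord2 (mc_ab h.toMC).1 (mc_ab h.toMC).2
  have all : ∀ t, orderOf t = 2 → IsConj (a ^ 2 ^ 1) t := fun t ht => (h.all2 s t ht).elim id fun e =>
    e.elim ((mc_fz_iff h.toMC ob).1 f1).trans ((mc_fz_iff h.toMC oc).1 f2).trans
  have gen : ∀ K : Subgroup G, b ∈ K → a * b ∈ K → S ≤ K := fun K h1 h2 => h.sup ▸
    sup_le (zpowers_le.2 (by simpa using mul_mem h2 (inv_mem h1))) (zpowers_le.2 h1)
  obtain ⟨k, l, c, n⟩ := d8_four h hC s h.bmem h.nmem f1 rfl
  generalize hV : zpowers (a ^ 2 ^ 1) ⊔ zpowers b = V at *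
  have d : D8H V := ⟨k, fun t ht => d8_c8 h hC (all t ht), n⟩
  constructor
  · have : Nontrivial G := ⟨b, 1, inv_ne_one ob⟩
    refine ⟨fun N hN => ?_⟩
    by_cases h2 : 2 ∣ o[N]
    · obtain ⟨y, hy, oy⟩ := exists_prime_order_mem Nat.prime_two h2
      have m : ∀ t, orderOf t = 2 → t ∈ N := fun t ht => by
        obtain ⟨c, rfl⟩ := isConj_iff.1 ((all y oy).symm.trans (all t ht))
        exact hN.conj_mem y hy c
      have l1 := gen N (m _ ob) (m _ oc)
      have := (s.mono l1 le_top).frattini_sup le_top (top_le_norm_iff.2 hN)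
      refine .inr (this ▸ (sup_eq_left.2 (inf_le_right.trans (le_trans (fun g hg => ?_) l1))).symm)
      have := conj_mem_of_norm (mem_norm_inf hg (norm_le_norm_cent _ hg)) (h.center_eq ▸ mem_zpowers _)
      rw [h.center_eq] at this
      rcases zpowers_two (half_sq h.ord) this with e | e
      · exact absurd (conj_eq_one_iff.1 e) (inv_ne_one (mc_ord_z h.toMC))
      · exact hC ▸ mem_centralizer_singleton_iff.2 (mul_inv_eq_iff_eq_mul.1 e)
    exact .inl (le_bot_iff.1 (CfsgH1.le_of_cent1_noncyclic k.ab k.not_cyc (le_top.trans (top_le_norm_iff.2 hN))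
      (coprime_of_pgroup k.pg h2) fun v hv v1 => (inf_eq_bot_of_coprime' (coprime_of_pgroup
        (.of_card (n := 3) (d.c8 v (orderOf_two_iff.2 ⟨k.2 v hv, v1⟩))) h2).symm).le))
  have sN : S ≤ N[V] := hC ▸ d.cent_le (hV ▸ mem_sup_left (mem_zpowers _)) (inv_ne_one (mc_ord_z h.toMC))
  obtain ⟨g, e⟩ := isConj_iff.1 (all _ oc)
  have cC : C1[a * b] = S.map (CfsgH2.cj g) := by rw [← e, CfsgH2.centralizer_conj, hC]
  have : ∃ u, u ∉ N[V] ∧ orderOf u = 2 ∧ u ∈ C1[a * b] := by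
    by_contra! n
    have l1 : C1[a * b] ≤ N[V] := by
      rw [cC, map_cj_le_iff]
      have : ∀ w ∈ S, orderOf w = 2 → w ∈ N[V].map (CfsgH2.cj g⁻¹) := fun w hw ow => mem_map_cj.2 (by
        rw [inv_inv]
        exact by_contra fun n1 => n _ n1 ((orderOf_conj' g w).trans ow) (cC ▸ conj_mem_map_cj hw))
      exact gen _ (this _ h.bmem ob) (this _ (mc_ab h.toMC).1 oc)
    have l2 : V ≤ C1[a * b] := ((cC ▸ s.map_cj_mem (mem_top g)).mono l1 le_top).le_of_norm k.pg le_normalizer l1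
    have m : a * b ∈ V := c ▸ le_cent1_iff.1 l2
    refine mc_k4_ne h.toMC k (le_antisymm l (gen V ?_ m))
    exact hV ▸ mem_sup_right (mem_zpowers _)
  obtain ⟨u, h1, h2, h3⟩ := this
  exact d.count (fun x y hx hy => (all x hx).symm.trans (all y hy)) (sN (mc_ab h.toMC).1) oc h1 h2
    (mem_centralizer_singleton_iff.1 h3)

omit h hC in
theorem d8_aux {R : Subgroup G} (hC : C1[z] = S) (c0 : o[S] = 8) (k : K4 T) (l : T ≤ S) (c : C[T] = T) (n : o[N[T]] = 24)
    (oz : orderOf z = 2) (zT : z ∈ T) (c8 : ∀ v ∈ T, v ≠ 1 → o[C1[v]] = 8) (t : Syl 2 T R) (i : R.index = 2)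
    (sR : R ⊔ S = ⊤) (hn : ¬ NPC 2 R) : Nonempty (G ≃* Equiv.Perm (Fin 4)) ∨ Nonempty (G ≃* Equiv.Perm (Fin 5)) := by
  have nR : R.Normal := normal_of_index_eq_two i
  have sN : S ≤ N[T] := by
    have := card_mul_relIndex l
    rw [k.1, c0] at this
    exact (normal_subgroupOf_iff_le_normalizer l).1 (normal_of_index_eq_two (by unfold relIndex at this; omega))
  by_cases hT : R ≤ N[T]
  · have e : N[T] = ⊤ := top_le_iff.1 (sR ▸ sup_le hT sN)
    refine .inl (CfsgH8.equiv_S4_of_orders (by rw [← n, e, card_top]) fun g o => ?_)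
    have := k4_iff.2 k
    have m : ∀ j, T.normalizerMonoidHom ⟨g, e ▸ mem_top g⟩ ^ j = 1 → g ^ j ∈ T := fun j hj => by
      rw [← map_pow, ← MonoidHom.mem_ker, normalizerMonoidHom_ker, c] at hj
      exact hj
    rcases CfsgH8.klein_aut (T.normalizerMonoidHom ⟨g, e ▸ mem_top g⟩) with e | e
    · have := k.2 _ (m 2 e)
      rw [← pow_add, ← orderOf_dvd_iff_pow_eq_one, o] at this
      omega
    · have := orderOf_dvd_of_mem (show g ∈ C1[g ^ 3] from mem_centralizer_singleton_iff.2 (by group))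
      rw [c8 _ (m 3 e.1) (by rw [Ne, ← orderOf_dvd_iff_pow_eq_one, o]; omega), o] at this
      omega
  right
  have e1 : C1[(⟨z, t.le zT⟩ : R)] = T.subgroupOf R := by
    have : S ⊓ R = T := t.eq_of_le (s.pg.to_le inf_le_left) (le_inf l t.le) inf_le_right
    ext g
    rw [mem_centralizer_singleton_iff, mem_subgroupOf, ← SetLike.ext_iff.1 this, ← hC, mem_inf,
      mem_centralizer_singleton_iff, Subtype.ext_iff]
    simp
  obtain ⟨φ⟩ := Cfsg.Agent.S3277.result (⟨z, t.le zT⟩ : R) (by rw [← orderOf_coe, oz]) (by rw [e1, card_subgroupOf t.le, k.1])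
    (fun g hg => Subtype.ext (by rw [coe_pow, pow_two]; exact k.2 _ (e1.le hg))) (by rwa [npc_iff]) fun E hE ea => by
      have l1 : E ≤ T.subgroupOf R := t.subgroupOf.le_of_norm (isPGroup_of_exp ea.2) le_top (le_top.trans (top_le_norm_iff.2 hE))
      refine ⟨fun e => ?_, fun e => hT ?_⟩
      · obtain ⟨v, hv, o⟩ := exists_prime_order_mem Nat.prime_two (e.symm ▸ dvd_rfl : 2 ∣ o[E])
        have e2 : zpowers v = E := eq_of_le_of_card_ge (zpowers_le.2 hv) (by rw [Nat.card_zpowers, o, e])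
        have l2 : R ≤ C1[(v : G)] := fun g hg => by
          rcases zpowers_two (inv_mul_self o) (e2 ▸ hE.conj_mem v hv ⟨g, hg⟩) with e | e
          · exact absurd (conj_eq_one_iff.1 e) (inv_ne_one o)
          · exact mem_centralizer_singleton_iff.2 (congrArg Subtype.val (mul_inv_eq_iff_eq_mul.1 e))
        exact hn (.of_pgroup (IsPGroup.to_le (.of_card (n := 3) (c8 v (l1 hv) fun e => inv_ne_one o (Subtype.ext e))) l2))
      · rw [← normal_subgroupOf_iff_le_normalizer t.le, ← eq_of_le_of_card_ge l1 (by rw [card_subgroupOf t.le, k.1, e])]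
        exact hE
  have cG : Nat.card G = 120 := by
    rw [← R.card_mul_index, i, Nat.card_congr φ.toEquiv, nat_card_alternatingGroup]
    simp [Nat.factorial]
  refine CfsgH8.nonempty_equiv_perm_of_injective (n := 5) (MulAction.toPermHom G (G ⧸ N[T])) ?_ ?_ cG
  · rw [← MonoidHom.ker_eq_bot_iff, ← normalCore_eq_ker]
    have := alternatingGroup.isSimpleGroup (α := Fin 5) (by simp)
    have := φ.isSimpleGroup
    have e : N[T].normalCore ⊓ R = ⊥ := by
      rcases (inferInstance : (N[T].normalCore.subgroupOf R).Normal).eq_bot_or_eq_top with e | e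
      · exact disjoint_iff.1 (subgroupOf_eq_bot.1 e)
      · exact absurd ((subgroupOf_eq_top.1 e).trans (normalCore_le _)) hT
    refine le_bot_iff.1 (e ▸ le_inf le_rfl (le_trans ?_ (c.le.trans t.le)))
    exact (commutator_eq_bot_iff_le_centralizer.1 (le_bot_iff.1 (e ▸ commutator_le_inf _ _))).trans (cent_anti t.le)
  · have := N[T].card_mul_index
    rw [n, cG, index_eq_card] at this
    omega

theorem d8_one (hn : ¬ NPC 2 (⊤ : Subgroup G)) (hx : x ∈ S) (x1 : x ∉ zpowers a) (f : Fz a x)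
    (t : Syl 2 (zpowers (a ^ 2) ⊔ zpowers x) (piRes {2} ⊤)) (i : (piRes {2} (⊤ : Subgroup G)).index = 2) :
    Nonempty (G ≃* Equiv.Perm (Fin 4)) ∨ Nonempty (G ≃* Equiv.Perm (Fin 5)) := by
  obtain ⟨k, l, c, n⟩ := d8_four h hC s hx x1 f rfl
  have oz := mc_ord_z h.toMC
  have zT : a ^ 2 ^ 1 ∈ zpowers (a ^ 2 ^ 1) ⊔ zpowers x := mem_sup_left (mem_zpowers _)
  have c8 : ∀ v ∈ zpowers (a ^ 2 ^ 1) ⊔ zpowers x, v ≠ 1 → o[C1[v]] = 8 := fun v hv v1 => by
    have cx := (mc_fz_iff h.toMC (h.ord2 hx x1)).1 f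
    refine d8_c8 h hC ?_
    rcases k.cases zT (inv_ne_one oz) (mem_sup_right (mem_zpowers x))
      (fun e => x1 (zpowers_le.2 (pow_mem (mem_zpowers a) _) e)) hv with e | e | e | e
    · exact absurd e v1
    · exact e ▸ .refl _
    · exact e ▸ cx
    · exact e ▸ cx.trans (mc_isConj h.toMC hx x1 (by simp))
  exact d8_aux s hC h.card k l c n oz zT c8 t i s.piRes_sup fun e => hn e.of_piRes_npc

end

theorem d8_main (hz : orderOf z = 2) (e : C1[z] ≃* DihedralGroup 4) :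
    (IsSimpleGroup G ∧ (Nat.card G = 168 ∨ Nat.card G = 360)) ∨ (∃ H : Subgroup G, H.index = 2) ∧
      (C1[z] ⊔ oddCore G = ⊤ ∨ Nonempty (G ≃* Equiv.Perm (Fin 4)) ∨ Nonempty (G ≃* Equiv.Perm (Fin 5))) := by
  obtain ⟨a, b, h, e1, s⟩ := d8_setup hz e
  have hC : C1[a ^ 2 ^ 1] = C1[z] := by rw [← e1]
  generalize C1[z] = S at *
  have odd : Odd S.index := Nat.odd_iff.2 (Nat.two_dvd_ne_zero.1 (relIndex_top_right S ▸ s.nd))
  have tr : ∀ t ∈ S, t ∉ zpowers a → ¬ Fz a t → ∃ H : Subgroup G, H.index = 2 := fun t ht h1 f => by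
    obtain ⟨M, -, hM, -⟩ := thompson_transfer odd h.relIndex (h.out t ht h1) ht fun g e => f ⟨g, e⟩
    exact ⟨M, hM⟩
  have hab := mc_ab h.toMC
  by_cases f : Fz a b ∧ Fz a (a * b)
  · exact .inl (d8_both h hC s f.1 f.2)
  refine .inr ⟨(not_and_or.1 f).elim (tr _ h.bmem h.nmem) (tr _ hab.1 hab.2), ?_⟩
  by_cases hn : NPC 2 (⊤ : Subgroup G)
  · exact .inl (by rw [oddCore, pPrimeCore_eq', sup_comm, hn.sup_eq s])
  right
  by_cases f1 : Fz a b
  · obtain ⟨t, i⟩ := mc_foc_one h.toMC h.nq s h.bmem h.nmem hab.1 hab.2 (fun v => mc_out_cases h.toMC) f1 fun e => f ⟨f1, e⟩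
    exact d8_one h hC s hn h.bmem h.nmem f1 t i
  by_cases f2 : Fz a (a * b)
  · obtain ⟨t, i⟩ := mc_foc_one h.toMC h.nq s hab.1 hab.2 h.bmem h.nmem
      (fun v h1 h2 => (mc_out_cases h.toMC h1 h2).symm) f2 f1
    exact d8_one h hC s hn hab.1 hab.2 f2 t i
  exact absurd (mc_foc_none h.toMC h.nq s f1 f2) hn

theorem sl32 [IsSimpleGroup G] (h : Nat.card G = 168) : Nonempty (G ≃* Matrix.SpecialLinearGroup (Fin 3) (ZMod 2)) := by
  have e : center (Matrix.SpecialLinearGroup (Fin 3) (ZMod 2)) = ⊥ := card_eq_one.1 (by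
    rw [CfsgH5.card_center_SL]; simp)
  have := CfsgH5.PSL_isSimpleGroup (ι := Fin 3) (F := ZMod 2) (by simp)
  have := ((QuotientGroup.quotientMulEquivOfEq e).trans QuotientGroup.quotientBot).symm.isSimpleGroup
  have c := CfsgH5.card_SL (F := ZMod 2) 3 (by norm_num)
  have : Fact (Nat.Prime 7) := ⟨by norm_num⟩
  exact ⟨(CfsgH8.Za.psl_168 h (ZMod 7) (by simp)).some.trans (CfsgH8.Za.psl_168 (by
    simpa [Fin.prod_univ_three] using c) (ZMod 7) (by simp)).some.symm⟩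

end CfsgL0
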