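import Mathlib

/-! Numerical part of the analysis of `3² : D₈` as a strongly 3-embedded subgroup. -/

namespace CfsgL0
open Finset

/-- values of the characters of the principal 3-block on the four classes of 3-singular elements -/
def dL : Fin 10 → Fin 4 → ℤ := ![![1, 1, 1, 1], ![1, 1, 1, -1], ![1, 1, -1, 1], ![1, 1, -1, -1], ![-1, 2, 1, 0],
  ![-1, 2, -1, 0], ![2, -1, 0, 1], ![2, -1, 0, -1], ![2, 2, 0, 0], ![0, 0, 0, 0]]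

theorem d8_point : ∀ A ∈ Icc (-4 : ℤ) 4, ∀ B ∈ Icc (-4 : ℤ) 4, ∀ C ∈ Icc (-2 : ℤ) 2, ∀ D ∈ Icc (-2 : ℤ) 2, A ≠ 0 → B ≠ 0 →
    (A - B) % 3 = 0 → (A - C) % 2 = 0 → (B - D) % 2 = 0 → A ^ 2 + B ^ 2 + 3 * C ^ 2 + 3 * D ^ 2 ≤ 18 →
    ∃ k : Fin 10, ∃ e ∈ ({1, -1} : Finset ℤ), ∀ j, ![A, B, C, D] j = e * dL k j := by
  decide +kernel

theorem d8_types {ι : Type*} [Fintype ι] (τ : ι → Fin 4 → ℤ)
    (hG : ∀ j k, ∑ i, τ i j * τ i k = if j = k then ![18, 18, 6, 6] j else 0)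
    (hz : ∀ i, τ i = 0 ∨ τ i 0 ≠ 0 ∧ τ i 1 ≠ 0) (h3 : ∀ i, 3 ∣ τ i 0 - τ i 1) (h2 : ∀ i, 2 ∣ τ i 0 - τ i 2)
    (h2' : ∀ i, 2 ∣ τ i 1 - τ i 3) : ∃ (χ : Fin 9 → ι) (ε : Fin 9 → ℤ), (∀ k, ε k = 1 ∨ ε k = -1) ∧
      (∀ k j, τ (χ k) j = ε k * dL k.castSucc j) ∧ Function.Injective χ ∧ ∀ i, τ i ≠ 0 → ∃ k, χ k = i := by
  classical
  have key (c : Fin 4 → ℤ) : ∑ i, (∑ j, c j * τ i j) ^ 2 = ∑ j, ∑ k, c j * c k * ∑ i, τ i j * τ i k := by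
    simp_rw [sq, sum_mul_sum, mul_sum]
    rw [sum_comm]
    refine sum_congr rfl fun j _ => ?_
    rw [sum_comm]
    exact sum_congr rfl fun k _ => sum_congr rfl fun i _ => by ring
  have pt (i : ι) : ∃ k : Fin 10, ∃ e ∈ ({1, -1} : Finset ℤ), ∀ j, τ i j = e * dL k j := by
    rcases hz i with h | h
    · exact ⟨9, 1, by simp, fun j => by rw [h]; fin_cases j <;> rfl⟩
    have k1 := single_le_sum (f := fun i' => (∑ j, ![τ i 0, τ i 1, 3 * τ i 2, 3 * τ i 3] j * τ i' j) ^ 2)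
      (fun _ _ => sq_nonneg _) (mem_univ i)
    rw [key] at k1
    simp [hG, Fin.sum_univ_four] at k1
    have k2 : τ i 0 ^ 2 + τ i 1 ^ 2 + 3 * τ i 2 ^ 2 + 3 * τ i 3 ^ 2 ≤ 18 := by nlinarith
    have := d8_point (τ i 0) (mem_Icc.2 (by constructor <;> nlinarith)) (τ i 1) (mem_Icc.2 (by constructor <;> nlinarith))
      (τ i 2) (mem_Icc.2 (by constructor <;> nlinarith)) (τ i 3) (mem_Icc.2 (by constructor <;> nlinarith)) h.1 h.2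
      (Int.emod_eq_zero_of_dvd (h3 i)) (Int.emod_eq_zero_of_dvd (h2 i)) (Int.emod_eq_zero_of_dvd (h2' i)) k2
    obtain ⟨k, e, he, hj⟩ := this
    exact ⟨k, e, he, fun j => by rw [← hj]; fin_cases j <;> rfl⟩
  choose ty e he ht using pt
  simp only [mem_insert, mem_singleton] at he
  have cnt (j k : Fin 4) : ∑ l, (#{i | ty i = l} : ℤ) * (dL l j * dL l k) = if j = k then ![18, 18, 6, 6] j else 0 := by
    rw [← hG, ← sum_fiberwise (s := univ) (g := ty)]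
    refine sum_congr rfl fun l _ => ?_
    rw [← nsmul_eq_mul, ← sum_const]
    refine sum_congr rfl fun i hi => ?_
    rw [ht, ht, (mem_filter.1 hi).2]
    rcases he i with h | h <;> simp [h]
  have one (k : Fin 9) : #{i | ty i = k.castSucc} = 1 := by
    have c1 := cnt 0 0
    have c2 := cnt 1 1
    have c3 := cnt 0 1
    have c4 := cnt 2 2
    have c5 := cnt 0 2
    have c6 := cnt 1 2
    have c7 := cnt 0 3
    have c8 := cnt 1 3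
    have c9 := cnt 2 3
    simp [Fin.sum_univ_succ, dL] at c1 c2 c3 c4 c5 c6 c7 c8 c9
    fin_cases k <;> simp <;> omega
  choose χ hχ using fun k => card_eq_one.1 (one k)
  have tχ (k) : ty (χ k) = k.castSucc := (mem_filter.1 ((hχ k).ge (mem_singleton_self _))).2
  refine ⟨χ, fun k => e (χ k), fun k => he _, fun k j => by rw [ht, tχ],
    fun k l h => Fin.castSucc_injective _ (by rw [← tχ, h, tχ]), fun i hi => ?_⟩
  obtain ⟨k, hk⟩ := Fin.exists_castSucc_eq.2 (show ty i ≠ Fin.last 9 from fun h => hi (funext fun j => by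
    rw [ht, h]; fin_cases j <;> simp [dL] <;> exact .inr rfl))
  exact ⟨k, (mem_singleton.1 ((hχ k).le (mem_filter.2 ⟨mem_univ _, hk.symm⟩))).symm⟩

theorem d8_inv {r n m κ η β ρ ξ μ ζ : ℚ} (b0 : β ≠ 0) (m1 : m - 1 ≠ 0) (e0 : 1 + r - m - n = 0) (e1 : ρ - ξ = β * η)
    (e2 : 1 + 2 * ρ - μ - 2 * ξ = β * κ) (e3 : 1 + r * ρ - m * μ - n * ξ = 0)
    (e4 : 1 + r * ρ ^ 2 - m * μ ^ 2 - n * ξ ^ 2 + β ^ 2 / 4 * (1 / r - 1 / n) = 6 * ζ * β ^ 2 * η) :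
    r * ((m * κ + (n - 2 * m) * η) / (m - 1)) ^ 2 - m * (κ - 2 * η) ^ 2 - n * ((m * κ + (n - 2 * m) * η) / (m - 1) + η) ^ 2 +
      (1 / r - 1 / n) / 4 = 6 * ζ * η := by
  obtain ⟨g, hg⟩ : ∃ g, g = (m * κ + (n - 2 * m) * η) / (m - 1) := ⟨_, rfl⟩
  rw [← hg]
  replace hg := (eq_div_iff m1).1 hg
  obtain rfl : μ = 1 - β * (κ - 2 * η) := by linear_combination 2 * e1 - e2
  obtain rfl : ξ = ρ - β * η := by linear_combination -e1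
  obtain rfl : ρ = 1 - β * g := mul_left_cancel₀ m1 (by linear_combination e3 - ρ * e0 + β * hg)
  exact mul_left_cancel₀ (pow_ne_zero 2 b0) (by linear_combination e4 - e0 + 2 * β * (g * e0 + hg))

theorem d8_z {r n m : ℤ} {ρ ξ μ : ℚ} (m1 : m ≠ 1) (r9 : 9 ∣ r + 4) (e0 : 1 + r - m - n = 0) (e2 : 1 + 2 * ρ - μ - 2 * ξ = 0)
    (e3 : 1 + r * ρ - m * μ - n * ξ = 0) (e4 : 1 + r * ρ ^ 2 - m * μ ^ 2 - n * ξ ^ 2 = 0) : μ = 1 := by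
  by_contra h
  have e0' : (1 + r - m - n : ℚ) = 0 := by exact_mod_cast e0
  have m1' : (m - 1 : ℚ) ≠ 0 := sub_ne_zero.2 (by exact_mod_cast m1)
  obtain ⟨t, ht⟩ : ∃ t, t = ρ - ξ := ⟨_, rfl⟩
  obtain rfl : μ = 1 + 2 * t := by linear_combination -e2 - 2 * ht
  obtain rfl : ξ = ρ - t := by linear_combination ht
  have t0 : t ≠ 0 := fun e => h (by simp [e])
  have k : (m - 1) * (ρ - 1) = (2 * m - n) * t := by linear_combination e3 - ρ * e0'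
  have k2 : (r * n - 4 * m : ℚ) = 0 := mul_left_cancel₀ (pow_ne_zero 2 t0) (by
    linear_combination -(m - 1) * (e4 - 2 * e3 + e0') + ((m - 1) * (ρ - 1) + (2 * m + n) * t) * k +
      ((m - 1) * (ρ - 1) ^ 2 + n * t ^ 2) * e0')
  have k3 : r * n - 4 * m = 0 := by exact_mod_cast k2
  have k4 : (r + 4) * (m - r + 3) = 12 := by linear_combination -r * e0 - k3
  obtain ⟨c, hc⟩ := r9
  rw [hc, mul_assoc] at k4
  omega

/-- the equations satisfied by the values `W` at an involution -/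
structure D8E (D W : Fin 9 → ℤ) (g I ζ σ τ : ℚ) : Prop where
  w0 : W 0 = 1
  i0 : I ≠ 0
  o : ∀ j, ∑ k, W k * dL k.castSucc j = 0
  kk : ∀ j, I * I / g * ∑ k, (W k * W k * dL k.castSucc j / D k : ℚ) = ![9 * ζ + 3 * σ, 9 * ζ + 3 * τ, 6 * ζ * σ, 6 * ζ * τ] j
  kb : I / 18 * ∑ k, (W k * dL k.castSucc 1 * dL k.castSucc 2 / D k : ℚ) = 2 * σ
  ka : I / 18 * ∑ k, (W k * dL k.castSucc 0 * dL k.castSucc 3 / D k : ℚ) = 2 * τ

theorem D8E.eqs {D W : Fin 9 → ℤ} {g I ζ σ τ : ℚ} (h : D8E D W g I ζ σ τ) (g0 : g ≠ 0) (d : ∀ k, D k ≠ 0) (d0 : D 0 = 1)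
    (d2 : D 2 = D 1) (d6 : D 6 = D 4) (d7 : D 7 = D 5) : ∃ α ρ ξ μ : ℚ, D 3 * μ = W 3 ∧
      I * α * (1 / D 1 - 1 / D 4 - 1 / D 5) = 18 * (σ - τ) ∧ I * (1 + 2 * ρ - μ - 2 * ξ) = 18 * (σ + τ) ∧
      2 * I ^ 2 * α * (ρ - ξ) = g * (σ - τ) ∧ 1 + D 4 * ρ - D 3 * μ - D 5 * ξ = 0 ∧
      I ^ 2 * (1 + D 4 * ρ ^ 2 - D 3 * μ ^ 2 - D 5 * ξ ^ 2 + α ^ 2 / 4 * (1 / D 4 - 1 / D 5)) = 3 * ζ * (σ + τ) * g := by
  have o0 := congrArg (Int.cast (R := ℚ)) (h.o 0)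
  have o1 := congrArg (Int.cast (R := ℚ)) (h.o 1)
  have o2 := congrArg (Int.cast (R := ℚ)) (h.o 2)
  have o3 := congrArg (Int.cast (R := ℚ)) (h.o 3)
  have k0 := h.kk 0
  have k1 := h.kk 1
  have k2 := h.kk 2
  have k3 := h.kk 3
  have ka := h.ka
  have kb := h.kb
  rw [div_mul_eq_mul_div, div_eq_iff g0] at k0 k1 k2 k3
  simp [Fin.sum_univ_succ, dL, h.w0, d0, d2, d6, d7, -mul_eq_mul_left_iff, -mul_eq_mul_right_iff] at o0 o1 o2 o3 k0 k1 k2 k3 ka kb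
  have n3 : (D 3 : ℚ) * (D 3 : ℚ)⁻¹ = 1 := mul_inv_cancel₀ (Int.cast_ne_zero.2 (d 3))
  have n4 : (D 4 : ℚ) * (D 4 : ℚ)⁻¹ = 1 := mul_inv_cancel₀ (Int.cast_ne_zero.2 (d 4))
  have n5 : (D 5 : ℚ) * (D 5 : ℚ)⁻¹ = 1 := mul_inv_cancel₀ (Int.cast_ne_zero.2 (d 5))
  obtain e6 : (W 6 : ℚ) = W 4 + (W 1 - W 2) := by linear_combination (o0 - o1) / 6 - (o2 - o3) / 2
  obtain e7 : (W 7 : ℚ) = W 5 - (W 1 - W 2) := by linear_combination (o0 - o1) / 6 + (o2 - o3) / 2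
  rw [e6, e7] at k0 k1 k3 ka
  refine ⟨W 1 - W 2, (2 * W 4 + (W 1 - W 2)) / (2 * D 4), (2 * W 5 - (W 1 - W 2)) / (2 * D 5), W 3 / D 3,
    by linear_combination W 3 * n3, by linear_combination 9 * (kb - ka), by linear_combination 9 * (kb + ka),
    by linear_combination (k0 - k1) / 3, ?_, ?_⟩
  · linear_combination o2 + (2 * W 4 + (W 1 - W 2)) / 2 * n4 - W 3 * n3 - (2 * W 5 - (W 1 - W 2)) / 2 * n5
  · linear_combination (k2 + k3) / 2 + I ^ 2 * ((2 * W 4 + (W 1 - W 2)) ^ 2 / 4 / D 4 * n4 - W 3 ^ 2 / D 3 * n3 -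
      (2 * W 5 - (W 1 - W 2)) ^ 2 / 4 / D 5 * n5)

theorem d8_num {D S W Z : Fin 9 → ℤ} {g I I' I'' ζ ζ' : ℚ} (g0 : g ≠ 0) (d : ∀ k, D k ≠ 0) (d0 : D 0 = 1) (m1 : D 3 ≠ 1)
    (d9 : ∀ k, 9 ∣ D k + 4 * dL k.castSucc 0 + 4 * dL k.castSucc 1) (o : ∀ j, ∑ k, D k * dL k.castSucc j = 0)
    (tri : ∑ k, (dL k.castSucc 0 * dL k.castSucc 1 * dL k.castSucc 0 / D k : ℚ) =
      ∑ k, (dL k.castSucc 0 * dL k.castSucc 1 * dL k.castSucc 1 / D k : ℚ))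
    (hS : D8E D S g I ζ 1 0) (hW : D8E D W g I' ζ' 0 1) (hZ : D8E D Z g I'' 1 ζ ζ') (hζ : ζ * ζ' = 0) : Z 3 = D 3 := by
  have o0 := o 0
  have o1 := o 1
  have o2 := o 2
  have o3 := o 3
  have r9 := d9 4
  have n9 := d9 5
  simp [Fin.sum_univ_succ, dL, d0] at o0 o1 o2 o3 tri r9 n9
  have n4 : (D 4 : ℚ) ≠ 0 := Int.cast_ne_zero.2 (d 4)
  have n5 : (D 5 : ℚ) ≠ 0 := Int.cast_ne_zero.2 (d 5)
  have n6 : (D 6 : ℚ) ≠ 0 := Int.cast_ne_zero.2 (d 6)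
  have n7 : (D 7 : ℚ) ≠ 0 := Int.cast_ne_zero.2 (d 7)
  have t1 : (1 / D 4 + 1 / D 5 : ℚ) = 1 / D 6 + 1 / D 7 := by linear_combination tri / 6
  rw [div_add_div _ _ n4 n5, div_add_div _ _ n6 n7, div_eq_div_iff (mul_ne_zero n4 n5) (mul_ne_zero n6 n7)] at t1
  have t2 : (D 4 + D 5) * ((D 4 - D 6) * (D 4 - D 7)) = 0 := by
    have : (1 * D 5 + D 4 * 1) * (D 6 * D 7) = (1 * D 7 + D 6 * 1) * (D 4 * D 5) := by exact_mod_cast t1
    have e : D 7 = D 4 + D 5 - D 6 := by omega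
    rw [e] at this ⊢
    linear_combination this
  have d6 : D 6 = D 4 := by
    rcases mul_eq_zero.1 t2 with e | e; · omega
    rcases mul_eq_zero.1 e with e | e <;> omega
  have d7 : D 7 = D 5 := by omega
  have d2 : D 2 = D 1 := by omega
  have e0 : 1 + D 4 - D 3 - D 5 = 0 := by omega
  have e0' : (1 + D 4 - D 3 - D 5 : ℚ) = 0 := by exact_mod_cast e0
  have m1' : (D 3 - 1 : ℚ) ≠ 0 := sub_ne_zero.2 (by exact_mod_cast m1)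
  obtain ⟨κ, hκ⟩ : ∃ κ : ℚ, κ = 1 / D 1 - 1 / D 4 - 1 / D 5 := ⟨_, rfl⟩
  have key {I β ρ ξ μ ζ : ℚ} (i0 : I ≠ 0) (a1 : I * β * κ = 18) (a2 : I * (1 + 2 * ρ - μ - 2 * ξ) = 18)
      (a3 : 2 * I ^ 2 * β * (ρ - ξ) = g) (a5 : 1 + D 4 * ρ - D 3 * μ - D 5 * ξ = 0)
      (a4 : I ^ 2 * (1 + D 4 * ρ ^ 2 - D 3 * μ ^ 2 - D 5 * ξ ^ 2 + β ^ 2 / 4 * (1 / D 4 - 1 / D 5)) = 3 * ζ * g) :=
    have b0 : β ≠ 0 := fun e => by simp [e] at a1
    d8_inv (κ := κ) (η := g * κ ^ 2 / 648) (ζ := ζ) b0 m1' e0' (mul_left_cancel₀ (mul_ne_zero (pow_ne_zero 2 i0) b0) (by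
      linear_combination a3 / 2 - g / 648 * (I * β * κ + 18) * a1)) (mul_left_cancel₀ i0 (by linear_combination a2 - a1)) a5
      (mul_left_cancel₀ (pow_ne_zero 2 i0) (by linear_combination a4 - ζ * g / 108 * (I * β * κ + 18) * a1))
  obtain ⟨α, ρ, ξ, μ, -, a1, a2, a3, a5, a4⟩ := hS.eqs g0 d d0 d2 d6 d7
  obtain ⟨α', ρ', ξ', μ', -, b1, b2, b3, b5, b4⟩ := hW.eqs g0 d d0 d2 d6 d7
  obtain ⟨α'', ρ'', ξ'', μ'', c0, c1, c2, -, c5, c4⟩ := hZ.eqs g0 d d0 d2 d6 d7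
  rw [← hκ] at a1 b1 c1
  have k0 : κ ≠ 0 := fun e => by simp [e] at a1
  have e1 := key (ζ := ζ) (β := α) hS.i0 (by linear_combination a1) (by linear_combination a2) (by linear_combination a3) a5
    (by linear_combination a4)
  have e2 := key (ζ := ζ') (β := -α') hW.i0 (by linear_combination -b1) (by linear_combination b2)
    (by linear_combination -b3) b5 (by linear_combination b4)
  obtain rfl : ζ = ζ' := mul_right_cancel₀ (mul_ne_zero g0 (pow_ne_zero 2 k0)) (by linear_combination 108 * (e2 - e1))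
  obtain rfl : ζ = 0 := mul_self_eq_zero.1 hζ
  obtain rfl : α'' = 0 := mul_left_cancel₀ (mul_ne_zero hZ.i0 k0) (by linear_combination c1)
  have := d8_z m1 (by omega) e0 (mul_left_cancel₀ hZ.i0 (by linear_combination c2)) c5
    (mul_left_cancel₀ (pow_ne_zero 2 hZ.i0) (by linear_combination c4))
  rw [this, mul_one] at c0
  exact_mod_cast c0.symm

end CfsgL0
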