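import Mathlib

/-! A concrete model of `3² : D₈`. -/

namespace CfsgL0
open Finset DihedralGroup

/-- the monomial action of `D₈` on `𝔽₃²` -/
def act : DihedralGroup 4 → ZMod 3 × ZMod 3 → ZMod 3 × ZMod 3
  | .r k, v => (fun v => (-v.2, v.1))^[k.val] v
  | .sr k, v => (fun v => (v.1, -v.2)) ((fun v => (-v.2, v.1))^[k.val] v)

theorem act_add : ∀ d u v, act d (u + v) = act d u + act d v := by decide +kernel
theorem act_mul : ∀ d e v, act (d * e) v = act d (act e v) := by decide +kernel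

/-- the group `3² : D₈` -/
structure N0 where
  v : ZMod 3 × ZMod 3
  d : DihedralGroup 4
deriving DecidableEq

namespace N0
instance : Fintype N0 := Fintype.ofEquiv ((ZMod 3 × ZMod 3) × DihedralGroup 4) ⟨fun p => ⟨p.1, p.2⟩, fun x => (x.v, x.d),
  fun _ => rfl, fun _ => rfl⟩
instance : Mul N0 := ⟨fun x y => ⟨x.v + act x.d y.v, x.d * y.d⟩⟩
instance : One N0 := ⟨⟨0, 1⟩⟩
instance : Inv N0 := ⟨fun x => ⟨-act x.d⁻¹ x.v, x.d⁻¹⟩⟩
instance : Group N0 := Group.ofLeftAxioms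
  (fun x y z => congrArg₂ N0.mk (by
    change x.v + act x.d y.v + act (x.d * y.d) z.v = x.v + act x.d (y.v + act y.d z.v)
    rw [act_add, act_mul, add_assoc]) (mul_assoc _ _ _)) (by decide +kernel) (by decide +kernel)

/-- class representatives -/
def rep : Fin 9 → N0 := ![1, ⟨(1, 0), 1⟩, ⟨(1, 1), 1⟩, ⟨0, r 2⟩, ⟨0, sr 0⟩, ⟨0, sr 3⟩, ⟨(1, 0), sr 0⟩, ⟨(1, 1), sr 3⟩, ⟨0, r 1⟩]

/-- the class of an element -/
def cls : N0 → Fin 9
  | ⟨v, .r k⟩ => if k = 0 then (if v = 0 then 0 else if v.1 * v.2 = 0 then 1 else 2) else if k = 2 then 3 else 8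
  | ⟨v, .sr k⟩ => if v + act (.sr k) v = 0 then (if k = 0 ∨ k = 2 then 4 else 5) else if k = 0 ∨ k = 2 then 6 else 7

theorem cls_conj : ∀ x, ∃ g, g * rep (cls x) * g⁻¹ = x := by decide +kernel
theorem cls_rep : ∀ g k, cls (g * rep k * g⁻¹) = k := by decide +kernel
theorem real : ∀ x : N0, ∃ g, g * x * g⁻¹ = x⁻¹ := by decide +kernel

/-- the four classes of 3-singular elements -/
def sg (j : Fin 4) : N0 := rep (![1, 2, 6, 7] j)

theorem cent_sg : ∀ j, (#{g | g * sg j = sg j * g} : ℤ) = ![18, 18, 6, 6] j := by decide +kernel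

/-- class multiplication coefficients -/
def cnt (β γ : Fin 9 → Bool) (x : N0) : ℕ := #{u | β (cls u) ∧ γ (cls (u⁻¹ * x))}

/-- the classes contained in a class of involutions -/
def iv (ζ σ τ : Bool) : Fin 9 → Bool := ![false, false, false, ζ, σ, τ, false, false, false]

theorem cnt_kk : ∀ ζ σ τ j, cnt (iv ζ σ τ) (iv ζ σ τ) (sg j) =
    ![9 * ζ.toNat + 3 * σ.toNat, 9 * ζ.toNat + 3 * τ.toNat, 6 * ζ.toNat * σ.toNat, 6 * ζ.toNat * τ.toNat] j := by decide +kernel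
theorem cnt_kb : ∀ ζ σ τ, cnt (iv ζ σ τ) (· = 2) (sg 2) = 2 * σ.toNat := by decide +kernel
theorem cnt_ka : ∀ ζ σ τ, cnt (iv ζ σ τ) (· = 1) (sg 3) = 2 * τ.toNat := by decide +kernel
theorem cnt_ab : cnt (· = 1) (· = 2) (sg 0) = cnt (· = 1) (· = 2) (sg 1) := by decide +kernel

end N0
end CfsgL0
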