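import Cfsg.Agent.L0.V3b
import Cfsg.Agent.L0.D8a
import Cfsg.Agent.L0.D8b
import Cfsg.Agent.H4.Cons
import Cfsg.Agent.H3.Apps

/-! A strongly 3-embedded subgroup `3² : D₈` forces a subgroup of index two. -/

namespace CfsgL0
open Cfsg Subgroup CfsgH2 CfsgBf CfsgH8 N0
open CfsgH4 hiding cent_le_norm cent_sup
open CfsgH3 hiding cj cj_cj
open scoped ComplexConjugate Finset

variable {G : Type*} [Group G] [Fintype G] {T : Subgroup G}

theorem TI3.out (h : TI3 T) {M : Ideal AlgInt} [PMod 3 M] {χ : IrrCharacter G} (hχ : χ ∉ principalBlock M G) {g : G}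
    (h1 : ppart 3 g ∈ T) (h2 : ppart 3 g ≠ 1) : χ.1 g = 0 := by
  have hu := pelt_of_mem h.syl.pg h1
  have l : T ≤ C1[ppart 3 g] := fun x hx => mem_centralizer_singleton_iff.2 (h.comm hx h1)
  have n : (T.subgroupOf C1[ppart 3 g]).Normal := (normal_subgroupOf_iff_le_normalizer l).2 (h.ti _ h1 h2)
  have l2 : T.subgroupOf C1[ppart 3 g] ≤ pCore 3 _ := CfsgH2.le_pCore (h.syl.pg.comap_subtype)
  have := blockPart_cent hu (isPBlock_principal (M := M) (G := G)).fB_mem χ.2.isClassFunction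
    (h := ⟨g, mem_centralizer_singleton_iff.2 (commute_of_mem_zpowers (mem_zpowers g) (ppart_mem_zpowers 3 g))⟩) rfl
  rwa [brSet_principal rfl hu, eB_eq_one_of_centralizer_le (M := M) (fun x hx => l2 (h.cen.le fun y hy =>
    congrArg Subtype.val (hx ⟨y, l hy⟩ (l2 hy)))) isPBlock_principal, blockPart_univ (θ := fun c : C1[ppart 3 g] => χ.1 c) (χ.2.isClassFunction.comp (Subgroup.subtype _)),
    blockPart_irr_of_notMem hχ] at this

theorem rat6 {θ : G → ℂ} (hθ : IsGeneralizedCharacter G θ) {g : G} (h6 : g ^ 6 = 1) (hr : IsConj g g⁻¹) : ∃ n : ℤ, θ g = n := by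
  refine exists_int_of_rational hθ fun k hk => ?_
  have h1 := orderOf_dvd_of_pow_eq_one h6
  have h2 : k ≡ 1 [MOD orderOf g] ∨ k + 1 ≡ 0 [MOD orderOf g] := by
    have := Nat.le_of_dvd (by norm_num) h1
    generalize orderOf g = o at *
    have a2 : 2 ∣ o → k % 2 ≠ 0 := fun h e => by simpa using (Nat.dvd_gcd (Nat.dvd_of_mod_eq_zero e) h).trans hk.dvd
    have a3 : 3 ∣ o → k % 3 ≠ 0 := fun h e => by simpa using (Nat.dvd_gcd (Nat.dvd_of_mod_eq_zero e) h).trans hk.dvd
    unfold Nat.ModEq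
    interval_cases o <;> first | omega | (
      have := a2 (by norm_num); have := a3 (by norm_num); have : k % 6 < 6 := Nat.mod_lt _ (by norm_num)
      interval_cases _ : k % 6 <;> omega)
  rcases h2 with e | e
  · rw [pow_eq_pow_iff_modEq.2 e, pow_one]
  · rwa [eq_inv_of_mul_eq_one_left ((pow_succ g k).symm.trans ((pow_eq_pow_iff_modEq.2 e).trans (pow_zero g)))]

theorem np2_loc (f : N0 →* G) (inj : Function.Injective f) {X Y : G} {x : N0} {β γ : Fin 9 → Bool}
    (hX : ∀ k, IsConj X (f (rep k)) ↔ β k) (hY : ∀ k, IsConj Y (f (rep k)) ↔ γ k)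
    (loc : ∀ u v, IsConj X u → IsConj Y v → u * v = f x → u ∈ f.range) : np2 X Y (f x) = cnt β γ x := by
  have c {X : G} {β : Fin 9 → Bool} (hX : ∀ k, IsConj X (f (rep k)) ↔ β k) (y) : IsConj X (f y) ↔ β (cls y) := by
    have := f.map_isConj (isConj_iff.2 (cls_conj y))
    exact ⟨fun k => (hX _).1 (k.trans this.symm), fun k => ((hX _).2 k).trans this⟩
  rw [cnt, ← Fintype.card_subtype, ← Nat.card_eq_fintype_card]
  refine (Nat.card_eq_of_bijective (fun u => ⟨(f u.1, f (u.1⁻¹ * x)), (c hX _).2 u.2.1, (c hY _).2 u.2.2, by simp⟩)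
    ⟨fun u v e => Subtype.ext (inj (congrArg (·.1.1) e)), fun ⟨⟨u, v⟩, h1, h2, h3⟩ => ?_⟩).symm
  obtain ⟨y, rfl⟩ := loc u v h1 h2 h3
  obtain rfl : v = f (y⁻¹ * x) := by rw [map_mul, map_inv, ← h3, inv_mul_cancel_left]
  exact ⟨⟨y, (c hX _).1 h1, (c hY _).1 h2⟩, rfl⟩

/-- the integer value of a character -/
noncomputable def zv (g : G) (χ : IrrCharacter G) : ℤ := ⌊(χ.1 g).re⌋

omit [Fintype G] in
theorem zv_eq {g : G} {χ : IrrCharacter G} (h : ∃ n : ℤ, χ.1 g = n) : χ.1 g = zv g χ := by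
  obtain ⟨n, h⟩ := h; simp [zv, h]

theorem d8_core (h : TI3 T) (f : N0 →* G) (inj : Function.Injective f) (rg : f.range = N[T]) (mT : ∀ y, f y ∈ T ↔ y.d = 1) :
    ∃ χ : IrrCharacter G, χ.1 1 = 1 ∧ ∀ j, χ.1 (f (sg j)) = dL 3 j := by
  classical
  obtain ⟨M, hM⟩ := exists_pmod 3
  have ne1 {y : N0} (k : y ≠ 1) : f y ≠ 1 := fun e => k (inj (e.trans (map_one f).symm))
  have p4 (j) : (f (sg j)) ^ 4 ∈ T ∧ (f (sg j)) ^ 4 ≠ 1 := by
    rw [← map_pow]; exact ⟨(mT _).2 (by revert j; decide +kernel), ne1 (by revert j; decide +kernel)⟩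
  have nm {g : G} {j} (k : g * f (sg j) ^ 4 * g⁻¹ ∈ T) : g ∈ f.range := rg ▸ h.norm (p4 j).1 (p4 j).2 k
  have p6 (j) : (sg j) ^ 6 = 1 := by revert j; decide +kernel
  have cs (j k) : IsConj (f (sg j)) (f (rep k)) ↔ decide (k = ![1, 2, 6, 7] j) := by
    rw [decide_eq_true_iff]
    refine ⟨fun e => ?_, fun e => e ▸ IsConj.refl _⟩
    obtain ⟨g, e⟩ := isConj_iff.1 e
    obtain ⟨g, rfl⟩ := nm (g := g) (j := j) (h.mem (by rw [← conj_pow, e, ← rg, ← map_pow]; exact ⟨_, rfl⟩) (by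
      rw [conj_pow, ← pow_mul, ← map_pow, (by norm_num : 4 * 3 = 6 * 2), pow_mul, p6]; simp))
    rw [← map_inv, ← map_mul, ← map_mul] at e
    rw [← cls_rep 1 k, one_mul, inv_one, mul_one, ← inj e, sg, cls_rep]
  have cc (j) : (o[C1[f (sg j)]] : ℤ) = ![18, 18, 6, 6] j := by
    rw [← cent_sg, ← Fintype.card_subtype, ← Nat.card_eq_fintype_card]
    refine congrArg _ (Nat.card_eq_of_bijective (fun u => ⟨f u.1, mem_centralizer_singleton_iff.2 (by
      rw [← map_mul, u.2, map_mul])⟩) ⟨fun u v e => Subtype.ext (inj (congrArg (·.1) e)), fun ⟨g, hg⟩ => ?_⟩).symm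
    have e := mem_centralizer_singleton_iff.1 hg
    obtain ⟨g, rfl⟩ := nm (g := g) (j := j) (by rw [← conj_pow, e, mul_inv_cancel_right]; exact (p4 j).1)
    exact ⟨⟨g, inj (by rwa [map_mul, map_mul])⟩, rfl⟩
  have hV (y : N0) (hy : y ^ 6 = 1) (χ : IrrCharacter G) : χ.1 (f y) = zv (f y) χ :=
    zv_eq (rat6 χ.2.isGen (by rw [← map_pow, hy, map_one]) (map_inv f y ▸ f.map_isConj (isConj_iff.2 (real y))))
  have hS (j) := hV (sg j) (p6 j)
  have ort (y : N0) (hy : y ^ 6 = 1) (j) (n : ¬ IsConj (f y) (f (sg j))) : ∑ χ, zv (f y) χ * zv (f (sg j)) χ = 0 := by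
    have := column_orthogonality_of_not_isConj n
    simp only [hV y hy, hS, map_intCast] at this
    exact_mod_cast this
  have dv (p : ℕ) (hp : p.Prime) (x y : N0) (c : x * y = y * x) (hx : x ^ p = 1) (h1 : (x * y) ^ 6 = 1) (h2 : y ^ 6 = 1) (χ) :
      (p : ℤ) ∣ zv (f (x * y)) χ - zv (f y) χ := χ.2.isGen.dvd_sub_of_commute hp (Commute.map c f) (k := 1)
    (by rw [pow_one, ← map_pow, hx, map_one]) (by rw [← map_mul, hV _ h1, hV _ h2]; push_cast; rfl)
  have d3 (j) (h3 : sg j ^ 3 = 1) (χ) := dv 3 (by norm_num) (sg j) 1 (Commute.one_right _) h3 (by rw [mul_one, p6]) (one_pow _) χ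
  obtain ⟨χ, ε, hε, hτ, iχ, all⟩ := d8_types (fun χ j => zv (f (sg j)) χ) (fun j k => by
      split_ifs with e
      · subst e
        have := column_orthogonality (f (sg j)) (f (sg j))
        simp only [hS, map_intCast, classInd, IsConj.refl, if_true, mul_one] at this
        rw [← cc]; exact_mod_cast this
      · exact ort _ (p6 j) k fun c => e (by have := (cs j _).1 c; clear c e; revert j k; decide))
    (fun χ => by
      by_cases k : χ ∈ principalBlock M G
      · have (j) (h3 : (sg j).d = 1) : zv (f (sg j)) χ ≠ 0 := fun e => principal_ne_zero (p := 3) k (g := f (sg j))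
          (fun e => h.syl.nd (relIndex_top_right T ▸ e.trans (index_dvd_of_le fun x hx =>
            mem_centralizer_singleton_iff.2 (h.comm hx ((mT _).2 h3))))) (by rw [hS, e, Int.cast_zero])
        exact .inr ⟨this 0 rfl, this 1 rfl⟩
      · refine .inl (funext fun j => Int.cast_injective (α := ℂ) ?_)
        have e : ppart 3 (f (sg j)) = f (sg j) ^ 4 := by
          rw [← ppart_mul (p := 3) (x := f (sg j) ^ 4) (y := f (sg j) ^ 3) (Commute.pow_pow_self _ _ _)
            (pelt_of_mem h.syl.pg (p4 j).1) fun e => absurd (e.trans (orderOf_dvd_of_pow_eq_one (n := 2) (by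
            rw [← pow_mul, ← map_pow, p6, map_one]))) (by norm_num), ← pow_add, pow_succ _ 6, ← map_pow, p6, map_one, one_mul]
        rw [← hS, h.out k (e ▸ (p4 j).1) (e ▸ (p4 j).2)]; simp)
    (fun χ => by simpa using (d3 0 (by decide) χ).sub (d3 1 (by decide) χ))
    (fun χ => dvd_sub_comm.1 (dv 2 Nat.prime_two (rep 4) (sg 0) (by decide) (by decide) (by decide) (by decide) χ))
    (fun χ => dvd_sub_comm.1 (dv 2 Nat.prime_two (rep 5) (sg 1) (by decide) (by decide) (by decide) (by decide) χ))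
  have e2 (k) : ε k * ε k = 1 := by rcases hε k with e | e <;> simp [e]
  have sm {A : Type} [AddCommMonoid A] (F : IrrCharacter G → A) (j) (hF : ∀ ψ, zv (f (sg j)) ψ = 0 → F ψ = 0) :
      ∑ ψ, F ψ = ∑ k, F (χ k) := by
    rw [← Finset.sum_image (f := F) fun _ _ _ _ e => iχ e]
    refine (Finset.sum_subset (Finset.subset_univ _) fun ψ _ n => hF ψ (by_contra fun e => n ?_)).symm
    obtain ⟨k, rfl⟩ := all ψ fun e' => e (congrFun e' j)
    exact Finset.mem_image_of_mem _ (Finset.mem_univ _)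
  have z1 (g : G) : zv g (irrOne G) = 1 := by simp [zv, irrOne]
  obtain ⟨e0, x0⟩ : ε 0 = 1 ∧ χ 0 = irrOne G := by
    obtain ⟨k, hk⟩ := all (irrOne G) fun e => by simpa [z1] using congrFun e 0
    have := hτ k
    simp only [hk, z1] at this
    have k0 : ∀ k : Fin 9, ∀ e ∈ ({1, -1} : Finset ℤ), (∀ j, 1 = e * dL k.castSucc j) → e = 1 ∧ k = 0 := by decide +kernel
    obtain ⟨h1, rfl⟩ := k0 k _ (by simpa using hε k) this
    exact ⟨h1, hk⟩
  let W (y : N0) (k : Fin 9) : ℤ := ε k * zv (f y) (χ k)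
  have w0 (y) : W y 0 = 1 := by simp [W, e0, x0, z1]
  have h1 (ψ : IrrCharacter G) : ψ.1 1 = zv (f 1) ψ := by rw [← hV 1 (one_pow _), map_one]
  have d0 (ψ : IrrCharacter G) : zv (f 1) ψ ≠ 0 := fun e => ψ.2.apply_one_ne_zero (by rw [h1, e, Int.cast_zero])
  have oW (y : N0) (hy : y ^ 2 = 1) (j) : ∑ k, W y k * dL k.castSucc j = 0 := by
    rw [← ort y (by rw [(by norm_num : 6 = 2 * 3), pow_mul, hy, one_pow]) j fun c => (p4 j).2 (by
      obtain ⟨g, e⟩ := isConj_iff.1 c
      rw [← e, conj_pow, (by norm_num : 4 = 2 * 2), pow_mul, ← map_pow, hy]; simp), sm _ j fun ψ e => by rw [e, mul_zero]]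
    exact Finset.sum_congr rfl fun k _ => by rw [hτ]; ring
  have fm (x y : N0) (hx : x ^ 6 = 1) (hy : y ^ 6 = 1) (j) : (C1[f x].index * C1[f y].index / Nat.card G * ∑ k,
      (W x k * W y k * dL k.castSucc j / W 1 k : ℚ) : ℚ) = np2 (f x) (f y) (f (sg j)) := by
    refine Rat.cast_injective (α := ℂ) ?_
    rw [Rat.cast_natCast, congrFun (np2_eq (f x) (f y)), Finset.sum_apply, sm _ j fun ψ e => by simp [hS, e]]
    push_cast
    rw [Finset.mul_sum]
    refine Finset.sum_congr rfl fun k _ => ?_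
    simp only [Pi.smul_apply, smul_eq_mul, hV x hx, hV y hy, hS, h1, hτ, W, map_div₀, map_mul f, map_mul (starRingEnd ℂ),
      map_natCast, map_intCast]
    push_cast
    rcases hε k with e | e <;> rw [e] <;> push_cast <;> ring
  have Ws (j k) : W (sg j) k = dL k.castSucc j := by simp only [W, hτ, ← mul_assoc, e2, one_mul]
  have g0 : (Nat.card G : ℚ) ≠ 0 := Nat.cast_ne_zero.2 Nat.card_pos.ne'
  have ix (j) (k : ![18, 18, 6, 6] j = (18 : ℤ)) (I : ℚ) : I * C1[f (sg j)].index / Nat.card G = I / 18 := by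
    have h1 := congrArg (Nat.cast (R := ℚ)) C1[f (sg j)].index_mul_card
    have h2 := congrArg (Int.cast (R := ℚ)) ((cc j).trans k)
    push_cast at h1 h2
    rw [div_eq_iff g0, ← h1, h2]; ring
  have c3 {j} (k : sg j ^ 3 = 1) {u : G} (c : IsConj (f (sg j)) u) : u ^ 3 = 1 := by
    obtain ⟨g, rfl⟩ := isConj_iff.1 c
    rw [conj_pow, ← map_pow, k]; simp
  have ci (j) {u : G} (c : IsConj (f (sg j)) u) : IsConj (f (sg j)) u⁻¹ := by
    obtain ⟨g, rfl⟩ := isConj_iff.1 c
    exact (f.map_isConj (isConj_iff.2 (real (sg j)))).trans (isConj_iff.2 ⟨g, by simp [mul_assoc]⟩)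
  have back {g x : G} (j) (k : g * f (sg j) ^ 4 * g⁻¹ ∈ T) (k' : g * x * g⁻¹ ∈ T) : x ∈ T :=
    (mem_normalizer_iff.1 (rg ▸ nm k) x).2 k'
  have TN {x : G} (k : x ∈ T) : x ∈ f.range := rg ▸ le_normalizer k
  have EE (k0 : Fin 9) (h2 : rep k0 ^ 2 = 1) (n1 : rep k0 ≠ 1) {ζ σ τ : Bool} (h3 : IsConj (f (rep k0)) (f (rep 3)) ↔ ζ)
      (h4 : IsConj (f (rep k0)) (f (rep 4)) ↔ σ) (h5 : IsConj (f (rep k0)) (f (rep 5)) ↔ τ) :
      D8E (W 1) (W (rep k0)) (Nat.card G) C1[f (rep k0)].index ζ.toNat σ.toNat τ.toNat := by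
    have h6 : rep k0 ^ 6 = 1 := by rw [(by norm_num : 6 = 2 * 3), pow_mul, h2, one_pow]
    have c2 {u : G} (c : IsConj (f (rep k0)) u) : u * u = 1 ∧ u ≠ 1 := by
      obtain ⟨g, rfl⟩ := isConj_iff.1 c
      exact ⟨by rw [← sq, conj_pow, ← map_pow, h2]; simp, conj_ne_one g (ne1 n1)⟩
    have hX (k) : IsConj (f (rep k0)) (f (rep k)) ↔ iv ζ σ τ k := by
      have n (k) (h : rep k * rep k ≠ 1 ∨ rep k = 1) : IsConj (f (rep k0)) (f (rep k)) ↔ false := iff_of_false (fun c =>
        h.elim (fun h => ne1 h (map_mul f _ _ ▸ (c2 c).1)) fun h => (c2 c).2 (by rw [h, map_one])) (by simp)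
      fin_cases k
      exacts [n 0 (by decide), n 1 (by decide), n 2 (by decide), h3, h4, h5, n 6 (by decide), n 7 (by decide), n 8 (by decide)]
    have l3 (j j' j'') (k3 : sg j ^ 3 = 1) (k4 : sg j' ^ 4 = sg j'') (n : j ≠ j'') (k5 : sg j'' ^ 3 = 1) (u v) (c1 : IsConj (f (rep k0)) u)
        (c : IsConj (f (sg j)) v) (e : u * v = f (sg j')) : u ∈ f.range := by
      have e1 : (u * v * u⁻¹ * v)⁻¹ = f (sg j'') := by
        rw [← eq_inv_of_mul_eq_one_left (c2 c1).1, mul_assoc (u * v), e, ← k4, map_pow, inv_eq_iff_mul_eq_one, ← sq, ← pow_add,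
          ← map_pow, p6, map_one]
      obtain ⟨g, h1, h2⟩ := h.tri (u := f (sg j'')) (v := u * v * u⁻¹) (c3 k5 (.refl _)) (c3 k3 (c.trans (isConj_iff.2 ⟨u, rfl⟩)))
        (by rw [← e1]; convert c3 k3 (ci j c) using 2; group) fun e => n (by
          have := (cs j _).1 ((c.trans (isConj_iff.2 ⟨u, rfl⟩)).trans e.symm); clear * - this; revert j j''; decide)
      have h3 := back j' (by rwa [← map_pow, k4]) h2
      have h4 : v ∈ T := by
        have := mul_mem (inv_mem h3) (inv_mem (by rw [← k4, map_pow]; exact (p4 j').1 : f (sg j'') ∈ T))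
        rwa [← e1, inv_inv, inv_mul_cancel_left] at this
      exact (mul_mem_cancel_right (TN h4)).1 (e ▸ ⟨_, rfl⟩)
    refine ⟨w0 _, Nat.cast_ne_zero.2 index_ne_zero_of_finite, oW _ h2, fun j => ?_, ?_, ?_⟩
    · rw [fm _ _ h6 h6, np2_loc f inj hX hX fun u v c1 c2' e => nm (j := j) ?_, cnt_kk]
      · fin_cases j <;> simp
      have : u * f (sg j) * u⁻¹ = (f (sg j))⁻¹ := by
        rw [← e, mul_inv_rev, ← mul_assoc, (c2 c1).1, one_mul, ← eq_inv_of_mul_eq_one_left (c2 c2').1]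
      rw [← conj_pow, this, inv_pow]; exact inv_mem (p4 j).1
    · have := fm _ _ h6 (p6 1) 2
      rw [np2_loc f inj hX (cs 1) (l3 1 2 0 (by decide) (by decide) (by decide) (by decide)), ix 1 rfl] at this
      simp only [Ws] at this
      rw [this]; exact_mod_cast cnt_kb ζ σ τ
    · have := fm _ _ h6 (p6 0) 3
      rw [np2_loc f inj hX (cs 0) (l3 0 3 1 (by decide) (by decide) (by decide) (by decide)), ix 0 rfl] at this
      simp only [Ws] at this
      rw [this]; exact_mod_cast cnt_ka ζ σ τ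
  have nsw : ¬ IsConj (f (rep 4)) (f (rep 5)) := fun c => by
    have a1 := dv 3 (by norm_num) (sg 0) (rep 4) (by decide) (by decide) (by decide) (by decide) (χ 1)
    have a2 := dv 3 (by norm_num) (sg 1) (rep 5) (by decide) (by decide) (by decide) (by decide) (χ 1)
    have a3 : zv (f (rep 4)) (χ 1) = zv (f (rep 5)) (χ 1) := by rw [zv, zv, (χ 1).2.isClassFunction.eq_of_isConj c]
    rw [(by decide : sg 0 * rep 4 = sg 2), hτ] at a1
    rw [(by decide : sg 1 * rep 5 = sg 3), hτ, ← a3] at a2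
    rcases hε 1 with e | e <;> simp [e, dL] at a1 a2 <;> omega
  have m1 : W 1 3 = 1 := by
    by_contra m1
    have t {x : G} : IsConj x x ↔ true := iff_of_true (.refl _) rfl
    have E4 := EE 4 (by decide) (by decide) (τ := false) decide_eq_true_iff.symm t (iff_of_false nsw (by simp))
    have E5 := EE 5 (by decide) (by decide) (σ := false) decide_eq_true_iff.symm (iff_of_false (fun c => nsw c.symm) (by simp)) t
    have E3 := EE 3 (by decide) (by decide) t (isConj_comm.trans decide_eq_true_iff.symm)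
      (isConj_comm.trans decide_eq_true_iff.symm)
    simp only [Bool.toNat_true, Bool.toNat_false, Nat.cast_one, Nat.cast_zero] at E3 E4 E5
    have ε0 (k) : ε k ≠ 0 := by rcases hε k with e | e <;> simp [e]
    have := d8_num (D := W 1) g0 (fun k => mul_ne_zero (ε0 k) (d0 _)) (w0 1) m1 (fun k => ?_) (oW 1 (one_pow _)) ?_ E4 E5 E3 ?_
    · have e1 : (χ 3).1 (f (rep 3)) = (χ 3).1 1 := by
        rw [hV _ (by decide), h1, mul_left_cancel₀ (ε0 3) this]
      have e3 := (χ 3).2.isCharacter.apply_mul_of_eq' e1 (f (rep 3 * sg 0))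
      rw [← map_mul, (by decide : rep 3 * (rep 3 * sg 0) = sg 0), ← (χ 3).2.isClassFunction.eq_of_isConj
        (f.map_isConj (isConj_iff.2 (cls_conj (rep 3 * sg 0)))), (by decide : cls (rep 3 * sg 0) = 3), e1, h1, hS, hτ,
        Int.cast_inj] at e3
      exact m1 (by simp only [W, ← e3, ← mul_assoc, e2]; rfl)
    · have := Fintype.ofFinite T
      obtain ⟨n, hn⟩ := ((χ k).2.isCharacter.comp T.subtype).exists_nat_classInner isCharacter_one
      have b : Function.Bijective fun v : ZMod 3 × ZMod 3 => (⟨f ⟨v, 1⟩, (mT _).2 rfl⟩ : T) :=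
        ⟨fun u v e => congrArg N0.v (inj (congrArg (·.1) e)), fun ⟨x, hx⟩ => by
          obtain ⟨⟨v, d⟩, rfl⟩ := TN hx
          obtain rfl : d = 1 := (mT _).1 hx
          exact ⟨v, rfl⟩⟩
      have v (v : ZMod 3 × ZMod 3) : (χ k).1 (f ⟨v, 1⟩) = (χ k).1 (f (rep (cls ⟨v, 1⟩))) :=
        ((χ k).2.isClassFunction.eq_of_isConj (f.map_isConj (isConj_iff.2 (cls_conj _)))).symm
      have cn : ∀ l, #{v : ZMod 3 × ZMod 3 | cls ⟨v, 1⟩ = l} = ![1, 4, 4, 0, 0, 0, 0, 0, 0] l := by decide +kernel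
      rw [classInner, ← b.sum_comp, ← Nat.card_eq_of_bijective _ b] at hn
      simp only [coe_subtype, v, map_one, mul_one] at hn
      rw [← Finset.sum_fiberwise' (g := fun v : ZMod 3 × ZMod 3 => cls ⟨v, 1⟩) (f := fun l => (χ k).1 (f (rep l)))] at hn
      simp only [Finset.sum_const, cn] at hn
      simp [Fin.sum_univ_succ] at hn
      rw [show (χ k).1 (f (rep 0)) = _ from hV 1 (one_pow _) _, show (χ k).1 (f (rep 1)) = _ from hS 0 _,
        show (χ k).1 (f (rep 2)) = _ from hS 1 _, hτ, hτ] at hn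
      have hn' : zv (f 1) (χ k) + 4 * (ε k * dL k.castSucc 0) + 4 * (ε k * dL k.castSucc 1) = 9 * n :=
        Int.cast_injective (α := ℂ) (by push_cast at hn ⊢; linear_combination 9 * hn)
      exact ⟨ε k * n, by linear_combination ε k * hn' - (4 * dL k.castSucc 0 + 4 * dL k.castSucc 1) * e2 k⟩
    · have l (j) (k : (sg j).d = 1) (u v) (c1 : IsConj (f (sg 0)) u) (c2 : IsConj (f (sg 1)) v) (e : u * v = f (sg j)) :
          u ∈ f.range := by
        obtain ⟨g, h1, h2⟩ := h.tri (c3 (by decide) c1) (c3 (by decide) c2) (e ▸ h.ex _ ((mT _).2 k)) fun e =>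
          absurd ((cs 0 2).1 (c1.trans (e.trans c2.symm))) (by decide)
        exact TN (back j (by rw [← conj_pow, ← e, ← conj_mul]; exact pow_mem (mul_mem h1 h2) _) h1)
      have a1 := fm _ _ (p6 0) (p6 1) 0
      have a2 := fm _ _ (p6 0) (p6 1) 1
      rw [np2_loc f inj (cs 0) (cs 1) (l 0 rfl)] at a1
      rw [np2_loc f inj (cs 0) (cs 1) (l 1 rfl)] at a2
      simp only [Ws] at a1 a2
      exact mul_left_cancel₀ (div_ne_zero (mul_ne_zero (Nat.cast_ne_zero.2 index_ne_zero_of_finite)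
        (Nat.cast_ne_zero.2 index_ne_zero_of_finite)) g0) (a1.trans ((congrArg _ cnt_ab).trans a2.symm))
    · by_cases c : IsConj (f (rep 4)) (f (rep 3))
      · rw [decide_eq_false fun c' : IsConj (f (rep 5)) _ => nsw (c.trans c'.symm)]; simp
      · rw [decide_eq_false c]; simp
  have e3 : ε 3 = 1 := by
    have := irr_one_eq (χ 3)
    rw [h1, Int.cast_inj] at this
    rcases hε 3 with e | e
    exacts [e, by simp only [W, e, this] at m1; omega]
  exact ⟨χ 3, by simpa [W, e3, h1] using m1, fun j => by rw [hS, hτ, e3, one_mul]; rfl⟩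

end CfsgL0
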