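import Cfsg.Agent.L0.D8c

/-! Recognition of `3² : D₈`. -/

namespace CfsgL0
open Cfsg Subgroup CfsgH2 DihedralGroup

variable {G : Type*} [Group G] [Fintype G] {T : Subgroup G}

theorem d8_hom (h : TI3 T) (h9 : o[T] = 9) (D : DihedralGroup 4 →* G) (iD : Function.Injective D) (hD : Syl 2 D.range N[T]) :
    ∃ f : N0 →* G, Function.Injective f ∧ f.range = N[T] ∧ ∀ y, f y ∈ T ↔ y.d = 1 := by
  classical
  have : Fact (Nat.Prime 3) := ⟨by norm_num⟩
  have nD (d) {x : G} (hx : x ∈ T) : D d * x * (D d)⁻¹ ∈ T := conj_mem_of_norm (hD.le ⟨d, rfl⟩) hx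
  have fa (d) (k : D d ∈ T) : d = 1 := by
    have := iD ((map_pow D d 3).trans ((h.ex _ k).trans (map_one D).symm))
    clear k; revert d; decide
  have ni {x : G} (hx : x ∈ T) (e : x⁻¹ = x) : x = 1 := by
    rw [← h.ex x hx, pow_succ, sq, inv_eq_iff_mul_eq_one.1 e, one_mul]
  have cj2 (d e) (x : G) : D d * (D e * x * (D e)⁻¹) * (D d)⁻¹ = D (d * e) * x * (D (d * e))⁻¹ := by simp [mul_assoc]
  have gen {y : G} (hy : y ∈ T) (y1 : y ≠ 1) (e : D (r 2) * y * (D (r 2))⁻¹ = y⁻¹) :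
      D (r 1) * y * (D (r 1))⁻¹ ∉ zpowers y ∧ zpowers y ⊔ zpowers (D (r 1) * y * (D (r 1))⁻¹) = T := by
    have o3 := orderOf_eq_prime (h.ex y hy) y1
    have k : D (r 1) * y * (D (r 1))⁻¹ ∉ zpowers y := fun k => by
      obtain ⟨n, hn, e1⟩ := mem_zpowers_iff_mem_range_orderOf.1 k |> Finset.mem_image.1
      rw [o3, Finset.mem_range] at hn
      have e2 := cj2 (r 1) (r 1) y
      rw [(by decide : r 1 * r 1 = r (2 : ZMod 4)), e, ← e1, ← conj_pow, ← e1, ← pow_mul] at e2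
      interval_cases n
      · exact y1 (by simpa using e2.symm)
      · exact y1 (ni hy (by simpa using e2.symm))
      · exact y1 (ni hy (by rw [← e2, (by norm_num : 2 * 2 = 3 + 1), pow_succ, h.ex y hy, one_mul]))
    refine ⟨k, eq_of_le_of_card_le (sup_le (zpowers_le.2 hy) (zpowers_le.2 (nD _ hy))) (le_of_eq ?_)⟩
    rw [card_sup_zpowers_prime Nat.prime_three (mem_norm_zpowers (by
      rw [h.comm (nD _ hy) hy, mul_inv_cancel_right]; exact mem_zpowers y)) (h.ex _ (nD _ hy) ▸ one_mem _) k, h9,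
      Nat.card_zpowers, o3]
  have zi (x) (hx : x ∈ T) : D (r 2) * x * (D (r 2))⁻¹ = x⁻¹ := by
    obtain ⟨u, hu, n⟩ : ∃ u ∈ T, u⁻¹ * (D (r 2) * u * (D (r 2))⁻¹) ≠ 1 := by
      by_contra! k
      exact absurd (fa (r 2) (h.cen.le fun u hu => (mul_inv_eq_iff_eq_mul.1 (inv_mul_eq_one.1 (k u hu)).symm).symm)) (by decide)
    have e : D (r 2) * (u⁻¹ * (D (r 2) * u * (D (r 2))⁻¹)) * (D (r 2))⁻¹ = (u⁻¹ * (D (r 2) * u * (D (r 2))⁻¹))⁻¹ := by
      rw [← conj_mul, cj2, (by decide : r 2 * r 2 = (1 : DihedralGroup 4))]; simp [mul_assoc]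
    obtain ⟨-, e2⟩ := gen (mul_mem (inv_mem hu) (nD _ hu)) n e
    have hy := mul_mem (inv_mem hu) (nD (r 2) hu)
    generalize u⁻¹ * _ = y at *
    obtain ⟨_, ⟨i, rfl⟩, j, rfl⟩ := (mem_sup_zpowers (mem_norm_zpowers (by
      rw [h.comm (nD _ hy) hy, mul_inv_cancel_right]; exact mem_zpowers y))).1 (e2.ge hx)
    have e3 : D (r 2) * (D (r 1) * y * (D (r 1))⁻¹) * (D (r 2))⁻¹ = (D (r 1) * y * (D (r 1))⁻¹)⁻¹ := by
      rw [cj2, (by decide : r 2 * r 1 = r 1 * (r 2 : DihedralGroup 4)), ← cj2, e]; group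
    rw [← conj_mul, ← conj_zpow, ← conj_zpow, e, e3, inv_zpow, inv_zpow, ← mul_inv_rev,
      h.comm (zpow_mem hy i) (zpow_mem (nD _ hy) j)]
  obtain ⟨a, ha, a1, sa⟩ : ∃ a ∈ T, a ≠ 1 ∧ D (sr 0) * a * (D (sr 0))⁻¹ = a := by
    by_contra! k
    refine absurd (fa (sr 0 * r 2) (h.cen.le fun x hx => (mul_inv_eq_iff_eq_mul.1 ?_).symm)) (by decide)
    rw [← cj2, zi x hx, ← conj_inv, inv_eq_iff_eq_inv, eq_inv_iff_mul_eq_one]
    by_contra n
    refine k _ (mul_mem (nD _ hx) hx) n ?_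
    rw [← conj_mul, cj2, (by decide : sr 0 * sr 0 = (1 : DihedralGroup 4)), map_one, one_mul, inv_one, mul_one, h.comm hx (nD _ hx)]
  obtain ⟨nb, hT⟩ := gen ha a1 (zi a ha)
  obtain ⟨b, hb⟩ : ∃ b, b = D (r 1) * a * (D (r 1))⁻¹ := ⟨_, rfl⟩
  have rb : D (r 1) * b * (D (r 1))⁻¹ = a⁻¹ := by rw [hb, cj2, ← zi a ha]; rfl
  have bT : b ∈ T := hb ▸ nD _ ha
  have sb : D (sr 0) * b * (D (sr 0))⁻¹ = b⁻¹ := by
    rw [← zi b bT, hb, cj2, cj2, (by decide : sr 0 * r 1 = r 2 * r 1 * (sr 0 : DihedralGroup 4)), ← cj2 _ (sr 0), sa]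
  rw [← hb] at nb hT
  have pa {x : G} (hx : x ∈ T) (i j : ZMod 3) : x ^ (i + j).val = x ^ i.val * x ^ j.val := by
    rw [ZMod.val_add, ← pow_eq_pow_mod _ (h.ex x hx), pow_add]
  have pn {x : G} (hx : x ∈ T) (i : ZMod 3) : x ^ (-i).val = x⁻¹ ^ i.val := by
    rw [inv_pow, eq_inv_iff_mul_eq_one, ← pa hx, neg_add_cancel, ZMod.val_zero, pow_zero]
  let g (v : ZMod 3 × ZMod 3) : G := a ^ v.1.val * b ^ v.2.val
  have gT (v) : g v ∈ T := mul_mem (pow_mem ha _) (pow_mem bT _)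
  have ga (u v) : g (u + v) = g u * g v := by
    simp only [g, Prod.fst_add, Prod.snd_add, pa ha, pa bT, mul_assoc]
    rw [← mul_assoc (a ^ _) (b ^ _), h.comm (pow_mem ha _) (pow_mem bT u.2.val), mul_assoc]
  have ac (d v) : D d * g v * (D d)⁻¹ = g (act d v) := by
    have m {d e} (h1 : ∀ v, D d * g v * (D d)⁻¹ = g (act d v)) (h2 : ∀ v, D e * g v * (D e)⁻¹ = g (act e v)) (v) :
        D (d * e) * g v * (D (d * e))⁻¹ = g (act (d * e) v) := by rw [← cj2, h2, h1, act_mul]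
    have h1 (v) : D (r 1) * g v * (D (r 1))⁻¹ = g (act (r 1) v) := by
      rw [← conj_mul, ← conj_pow, ← conj_pow, ← hb, rb, ← pn ha, h.comm (pow_mem bT _) (pow_mem ha _)]; rfl
    have h2 (v) : D (sr 0) * g v * (D (sr 0))⁻¹ = g (act (sr 0) v) := by
      rw [← conj_mul, ← conj_pow, ← conj_pow, sa, sb, ← pn bT]; rfl
    have h3 := m h1 h1
    have h4 := m h3 h1
    revert v
    fin_cases d
    exacts [m h3 h3, h1, h3, h4, h2, m h2 h1, m h2 h3, m h2 h4]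
  let f : N0 →* G := MonoidHom.mk' (fun x => g x.v * D x.d) fun x y => by
    change g (x.v + act x.d y.v) * D (x.d * y.d) = _
    rw [ga, ← ac, map_mul]; group
  have mT (y) : f y ∈ T ↔ y.d = 1 :=
    ⟨fun k => fa _ ((mul_mem_cancel_left (gT y.v)).1 k), fun k => mul_mem (gT _) (by rw [k, map_one]; exact one_mem _)⟩
  refine ⟨f, (injective_iff_map_eq_one f).2 fun ⟨⟨i, j⟩, d⟩ e => ?_, le_antisymm ?_ ?_, mT⟩
  · obtain rfl : d = 1 := (mT _).1 (e ▸ one_mem _)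
    replace e : a ^ i.val * b ^ j.val = 1 := by simpa [f, g] using e
    have k : b ^ j.val ∈ zpowers a := eq_inv_of_mul_eq_one_right e ▸ inv_mem (pow_mem (mem_zpowers a) _)
    obtain rfl : j = 0 := by
      fin_cases j
      exacts [rfl, (nb (pow_one b ▸ k)).elim, (nb (by
        have : (b ^ 2) ^ 2 ∈ zpowers a := pow_mem k 2
        rwa [← pow_mul, pow_succ b 3, h.ex b bT, one_mul] at this)).elim]
    have := (orderOf_eq_prime (h.ex a ha) a1) ▸ orderOf_dvd_of_pow_eq_one (x := a) (n := i.val) (by simpa using e)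
    obtain rfl : i = 0 := (ZMod.val_eq_zero i).1 (Nat.eq_zero_of_dvd_of_lt this (ZMod.val_lt i))
    rfl
  · rintro _ ⟨y, rfl⟩
    exact mul_mem (le_normalizer (gT _)) (hD.le ⟨_, rfl⟩)
  have l1 : T ≤ f.range := hT ▸ sup_le (zpowers_le.2 ⟨⟨(1, 0), 1⟩, by simp [f, g, ZMod.val_one]⟩)
    (zpowers_le.2 ⟨⟨(0, 1), 1⟩, by simp [f, g, ZMod.val_one]⟩)
  have l2 : D.range ≤ f.range := by rintro _ ⟨d, rfl⟩; exact ⟨⟨0, d⟩, by simp [f, g]⟩
  refine relIndex_eq_one.1 (Nat.eq_one_iff_not_exists_prime_dvd.2 fun p hp k => ?_)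
  have n2 : p ≠ 2 := fun e => hD.not_dvd_of_le l2 (e ▸ k)
  have n3 : p ≠ 3 := fun e => (h.syl.mono le_normalizer le_top).not_dvd_of_le l1 (e ▸ k)
  obtain ⟨x, hx, ox⟩ := exists_prime_order_mem hp (k.trans (relIndex_dvd_card _ _))
  have : Fact p.Prime := ⟨hp⟩
  have m := card_modEq_inf_cent (isPGroup_zpowers (p := p) (k := 1) (by rw [pow_one, ← ox, pow_orderOf_eq_one])) (zpowers_le.2 hx)
  obtain ⟨c, hc, e⟩ := (Nat.dvd_prime_pow Nat.prime_three (m := 2)).1 (h9 ▸ card_dvd_of_le (inf_le_left (b := C[zpowers x])))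
  have q {n : ℕ} (k : p ∣ 2 ^ n * 3 ^ n) : False := ((Nat.Prime.dvd_mul hp).1 k).elim
    (fun k => n2 ((Nat.prime_dvd_prime_iff_eq hp Nat.prime_two).1 (hp.dvd_of_dvd_pow k)))
    fun k => n3 ((Nat.prime_dvd_prime_iff_eq hp Nat.prime_three).1 (hp.dvd_of_dvd_pow k))
  rw [e, h9] at m
  interval_cases c
  · exact q (n := 3) (((Nat.modEq_iff_dvd' (by norm_num)).1 m.symm).trans (by norm_num))
  · exact q (n := 1) (((Nat.modEq_iff_dvd' (by norm_num)).1 m.symm).trans (by norm_num))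
  have : T ⊓ C[zpowers x] = T := eq_of_le_of_card_le inf_le_left (by rw [e, h9]; norm_num)
  exact q (n := 1) ((ox ▸ orderOf_dvd_of_pow_eq_one (h.ex x (h.cen.le fun y hy =>
    ((this.ge hy).2 x (mem_zpowers x)).symm))).trans (by norm_num))

theorem d8_hom' (h : TI3 T) (h9 : o[T] = 9) (S : Sylow 2 N[T]) (e : S ≃* DihedralGroup 4) :
    ∃ f : N0 →* G, Function.Injective f ∧ f.range = N[T] ∧ ∀ y, f y ∈ T ↔ y.d = 1 := by
  have k : (((Subgroup.subtype _).comp (S : Subgroup N[T]).subtype).comp e.symm.toMonoidHom).range =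
      (S : Subgroup N[T]).map (Subgroup.subtype _) := by
    rw [MonoidHom.range_comp, (MonoidHom.range_eq_top (f := e.symm.toMonoidHom)).2 e.symm.surjective,
      ← MonoidHom.range_eq_map, MonoidHom.range_comp, range_subtype]
  exact d8_hom h h9 _ (Subtype.val_injective.comp (Subtype.val_injective.comp e.symm.injective)) (k ▸ syl_sub S)

end CfsgL0
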