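import Cfsg.Agent.L0.D8d
import Cfsg.Agent.L0.A6E

/-! Identification of `S₆` by a strongly 3-embedded subgroup `3² : D₈`. -/

namespace CfsgL0
open Cfsg Subgroup CfsgH2 N0
open CfsgH8 hiding cls_conj
open CfsgH3 hiding cj cj_cj cls

variable {G : Type*} [Group G] [Fintype G] {T : Subgroup G}

theorem d8_s6 (h : TI3 T) (h9 : o[T] = 9) (f : N0 →* G) (inj : Function.Injective f) (rg : f.range = N[T])
    (mT : ∀ y, f y ∈ T ↔ y.d = 1) : T.Normal ∨ Nonempty (G ≃* Equiv.Perm (Fin 6)) := by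
  classical
  have : Fact (Nat.Prime 3) := ⟨by norm_num⟩
  refine or_iff_not_imp_left.2 fun nn => ?_
  obtain ⟨χ, h1, h2⟩ := d8_core h f inj rg mT
  have hc := χ.2.isCharacter
  have mu := hc.map_mul_of_apply_one h1
  have Kn := hc.charKer_normal
  obtain ⟨K, hK⟩ : ∃ K, K = charKer χ.1 := ⟨_, rfl⟩
  rw [← hK] at Kn
  have mK {g} : g ∈ K ↔ χ.1 g = 1 := by rw [hK, hc.mem_charKer, h1]
  have cf (y) : χ.1 (f y) = χ.1 (f (rep (cls y))) :=
    (χ.2.isClassFunction.eq_of_isConj (f.map_isConj (isConj_iff.2 (cls_conj y)))).symm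
  have v1 : χ.1 (f (rep 1)) = 1 := (h2 0).trans Int.cast_one
  have v2 : χ.1 (f (rep 2)) = 1 := (h2 1).trans Int.cast_one
  have v4 : χ.1 (f (rep 4)) = -1 := by
    have := h2 2
    rwa [(by decide : sg 2 = rep 1 * rep 4), map_mul, mu, v1, one_mul, (by decide : dL 3 2 = -1), Int.cast_neg, Int.cast_one] at this
  have v5 : χ.1 (f (rep 5)) = -1 := by
    have := h2 3
    rwa [(by decide : sg 3 = rep 2 * rep 5), map_mul, mu, v2, one_mul, (by decide : dL 3 3 = -1), Int.cast_neg, Int.cast_one] at this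
  have v8 : f (rep 8) ∈ K := mK.2 (by
    rw [← (by decide : cls (rep 4 * rep 5) = 8), ← cf, map_mul, mu, v4, v5]; norm_num)
  have n4 : f (rep 4) ∉ K := fun k => by norm_num [mK, v4] at k
  have TN {x : G} (k : x ∈ T) : ∃ y, y.d = 1 ∧ f y = x := by
    obtain ⟨y, rfl⟩ := rg.ge (le_normalizer k); exact ⟨y, (mT y).1 k, rfl⟩
  have TK : T ≤ K := fun x hx => by
    obtain ⟨y, hy, rfl⟩ := TN hx
    rw [mK, cf]
    rcases (by decide +kernel : ∀ y : N0, y.d = 1 → cls y = 0 ∨ cls y = 1 ∨ cls y = 2) y hy with e | e | e <;> rw [e]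
    exacts [(congrArg χ.1 (map_one f)).trans h1, v1, v2]
  have cK {t x : G} (ht : t ∈ T) (t1 : t ≠ 1) (hx : x ∈ K) (c : x ∈ C1[t]) : x ∈ T := by
    obtain ⟨y, rfl⟩ := rg.ge (h.ti t ht t1 c)
    obtain ⟨t, e, rfl⟩ := TN ht
    rcases (by decide +kernel : ∀ t y : N0, t.d = 1 → t ≠ 1 → y * t = t * y → y.d = 1 ∨ cls (y ^ 3) = 4 ∨ cls (y ^ 3) = 5) t y e
      (fun e => t1 (e ▸ map_one f)) (inj (by simpa using mem_centralizer_singleton_iff.1 c)) with e | e | e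
    · exact (mT y).2 e
    all_goals
      have := mK.1 (pow_mem hx 3)
      rw [← map_pow, cf, e] at this
      norm_num [v4, v5] at this
  have ab : Ab[T] := ⟨⟨fun x y => Subtype.ext (h.comm x.2 y.2)⟩⟩
  have nc : ¬ Cyc[T] := fun c => by
    obtain ⟨x, hx⟩ := c.exists_ofOrder_eq_natCard
    have := orderOf_dvd_of_pow_eq_one (Subtype.ext (h.ex x x.2) : x ^ 3 = 1)
    rw [hx, h9] at this; omega
  have tj {J : Subgroup G} (l : J ≤ K) (n : T ≤ N[J]) (j0 : J ≠ ⊥) : ∃ t ∈ T, t ∈ J ∧ t ≠ 1 := by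
    by_contra! k
    have e : T ⊓ J = ⊥ := (eq_bot_iff_forall _).2 fun x hx => k x hx.1 hx.2
    have s := h.syl.inf_norm le_top n
    refine j0 (eq_bot_iff.2 (le_of_cent1 ab nc n (coprime_of_pgroup h.syl.pg fun d => s.ne_bot d e) fun a ha a1 x hx => ?_))
    exact e.le ⟨cK ha a1 (l hx.1) hx.2, hx.1⟩
  obtain ⟨L, Ln, L0, LK, mn⟩ := CfsgH1.exists_minimal_normal_le K fun e => absurd (inj ((e.le (mK.2 v1)).trans
    (map_one f).symm)) (by decide)
  have TL : T ≤ L := fun x hx => by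
    obtain ⟨t, ht, tL, t1⟩ := tj LK (le_top.trans (top_le_norm_iff.2 Ln)) L0
    obtain ⟨y, hy, rfl⟩ := TN hx
    obtain ⟨t, e, rfl⟩ := TN ht
    obtain ⟨i, j, rfl⟩ := (by decide +kernel : ∀ t y : N0, t.d = 1 → t ≠ 1 → y.d = 1 → ∃ i j : Fin 3,
      t ^ i.1 * (rep 8 * t * (rep 8)⁻¹) ^ j.1 = y) t y e (fun e => t1 (e ▸ map_one f)) hy
    simp only [map_mul, map_pow, map_inv]
    exact mul_mem (pow_mem tL _) (pow_mem (Ln.conj_mem _ tL _) _)
  have sL := h.syl.mono TL le_top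
  have nL : ¬ L ≤ N[T] := fun k => nn (top_le_norm_iff.1 ((top_le_norm_iff.2 Ln).trans (sL.norm_le_of_norm k)))
  have nT {J : Subgroup G} (l : J ≤ T) (n : L ≤ N[J]) : J = ⊥ := (eq_bot_iff_forall _).2 fun x hx => by_contra fun x1 =>
    nL fun g hg => h.norm (l hx) x1 (l (conj_mem_of_norm (n hg) hx))
  have : IsSimpleGroup L := by
    have := (nontrivial_iff_ne_bot L).2 L0
    refine ⟨fun J0 hJ => or_iff_not_imp_left.2 fun j0 => ?_⟩
    obtain ⟨J, ⟨⟨l, n, j1⟩, l0⟩, mJ⟩ := (wellFounded_lt (α := Subgroup G)).has_min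
      {J | (J ≤ L ∧ L ≤ N[J] ∧ J ≠ ⊥) ∧ J ≤ J0.map L.subtype} ⟨_, ⟨map_subtype_le _, fun g hg => mem_norm_of_conj (by
        rintro _ ⟨x, hx, rfl⟩; exact ⟨_, hJ.conj_mem x hx ⟨g, hg⟩, rfl⟩),
        fun e => j0 ((map_eq_bot_iff_of_injective _ L.subtype_injective).1 e)⟩, le_rfl⟩
    have Jn : J.Normal := normalizer_eq_top_iff.1 (top_le_iff.1 fun g _ => mem_norm_of_map_le (by_contra fun k => ?_))
    · refine top_le_iff.1 fun x _ => ?_
      obtain ⟨y, hy, e⟩ := ((mn J Jn l).resolve_left j1).ge.trans l0 x.2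
      exact Subtype.ext e ▸ hy
    have n' : L ≤ N[J.map (CfsgH2.cj g)] := by simpa only [map_cj_normal, normalizer_map_cj] using map_mono (f := CfsgH2.cj g) n
    have e : J ⊓ J.map (CfsgH2.cj g) = ⊥ := by_contra fun e => mJ _ ⟨⟨inf_le_left.trans l, le_norm_inf n n', e⟩, inf_le_left.trans l0⟩
      (inf_le_left.lt_of_ne fun e => k (eq_of_le_of_card_le (e.ge.trans inf_le_right) (card_map_cj _ _).le).ge)
    obtain ⟨t, ht, tJ, t1⟩ := tj (l.trans LK) (TL.trans n) j1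
    have l' : J.map (CfsgH2.cj g) ≤ L := map_cj_le_of_norm l (top_le_norm_iff.2 Ln (mem_top g))
    exact k (bot_le.trans' (nT (fun x hx => cK ht t1 (LK (l' hx)) (cent_le_cent1 tJ
      (le_cent_of_inf_eq_bot (l'.trans n) (l.trans n') (inf_comm J _ ▸ e) hx))) n').le)
  have a0 : f (rep 1) ∈ T := (mT _).2 rfl
  have s' := sL.subgroupOf
  have c360 : o[L] = 360 := cc9 (P := T.subgroupOf L) (fun a ha a1 => le_antisymm (fun x hx => cK ha (by simpa using a1) (LK x.2)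
      (mem_centralizer_singleton_iff.2 (congrArg Subtype.val (mem_centralizer_singleton_iff.1 hx))))
      fun x hx => mem_centralizer_singleton_iff.2 (Subtype.ext (h.comm hx ha))) s' (fun x hx => Subtype.ext (h.ex _ hx))
    (by rw [Nat.card_congr (subgroupOfEquivOfLe TL).toEquiv, h9]) (x := ⟨⟨_, TL a0⟩, a0⟩)
    (y := ⟨⟨_, TL ((mT (rep 2)).2 rfl)⟩, (mT (rep 2)).2 rfl⟩)
    (fun e => absurd (inj ((congrArg (·.1.1) e).trans (map_one f).symm)) (by decide))
    (fun e => absurd (inj ((congrArg (·.1.1) e).trans (map_one f).symm)) (by decide)) fun c => by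
      obtain ⟨g, e⟩ := isConj_iff.1 (L.subtype.map_isConj c)
      change g * f _ * g⁻¹ = f _ at e
      obtain ⟨g, rfl⟩ := rg.ge (h.norm a0 (fun e => absurd (inj (e.trans (map_one f).symm)) (by decide)) (e ▸ (mT _).2 rfl))
      rw [← map_inv, ← map_mul, ← map_mul] at e
      exact absurd ((cls_rep g 1).symm.trans (congrArg cls (inj e))) (by decide)
  have ρL : f (rep 8) ∈ L := by
    have c1 : o[L ⊓ N[T]] = 36 := by
      rw [← s360_n c360 s', ← subgroupOf_normalizer_eq TL, ← card_map_of_injective L.subtype_injective, subgroupOf_map_subtype,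
        inf_comm]
    have c2 : o[N[T]] = 72 := by
      rw [← rg, ← Nat.card_congr (MonoidHom.ofInjective inj).toEquiv, Nat.card_eq_fintype_card]; decide +kernel
    have c3 := card_mul_relIndex (inf_le_right (a := K) (b := N[T]))
    have c4 : (K ⊓ N[T]).relIndex N[T] ≠ 1 := fun e => n4 (relIndex_eq_one.1 e (rg.le ⟨_, rfl⟩)).1
    have c5 := relIndex_pos (K ⊓ N[T]) N[T]
    exact ((eq_of_le_of_card_le (inf_le_inf_right N[T] LK) (by nlinarith [(by omega : 2 ≤ (K ⊓ N[T]).relIndex N[T])])).ge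
      ⟨v8, rg.le ⟨_, rfl⟩⟩).1
  obtain ⟨ε⟩ := a6_360 c360
  obtain ⟨φ, hφ⟩ := a6_ext ε (y := ⟨_, TL a0⟩) (by
      rw [orderOf_mk, orderOf_injective f inj]; exact orderOf_eq_prime (by decide) (by decide)) (fun g => by
      obtain ⟨l, hl, n, hn, rfl⟩ := sL.frattini (top_le_norm_iff.2 Ln (mem_top g))
      obtain ⟨y, rfl⟩ := rg.ge hn
      obtain ⟨i, e⟩ := (by decide +kernel : ∀ y : N0, ∃ i : Fin 4, rep 8 ^ i.1 * rep 1 * (rep 8 ^ i.1)⁻¹ = y * rep 1 * y⁻¹) y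
      refine isConj_iff.2 ⟨⟨l, hl⟩ * ⟨_, ρL⟩ ^ i.1, Subtype.ext ?_⟩
      have := congrArg f e
      simp only [map_mul, map_inv, map_pow] at this
      change l * f (rep 8) ^ i.1 * f (rep 1) * (l * f (rep 8) ^ i.1)⁻¹ = l * f y * f (rep 1) * (l * f y)⁻¹
      rw [mul_inv_rev, mul_inv_rev, mul_assoc l, mul_assoc l, ← mul_assoc _ _ l⁻¹, this]; group)
    (nT ((cent_anti TL).trans h.cen.le) (le_norm_cent le_normalizer))
  refine ⟨.ofBijective φ ((Nat.bijective_iff_injective_and_card φ).2 ⟨hφ, le_antisymm (Nat.card_le_card_of_injective φ hφ) ?_⟩)⟩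
  have c3 := L.card_mul_index
  have c4 : L.index ≠ 1 := fun e => n4 (LK ((index_eq_one.1 e).ge (mem_top _)))
  have c5 : L.index ≠ 0 := index_ne_zero_of_finite
  rw [Nat.card_perm, Nat.card_fin, ← c3, c360]
  norm_num [Nat.factorial]; omega

end CfsgL0
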