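import Cfsg.Agent.L0.FE8

/-! Fusion systems over `p`-groups of rank two, `p ≥ 5`. -/

namespace CfsgL0
open Cfsg Subgroup CfsgH2 CfsgBG Function
open Cfsg.FusionSystem hiding inv_mem center
open scoped commutatorElement IsMulCommutative

section
variable {G : Type*} [Group G] {S : Subgroup G} {F : FusionSystem S} {P Q R T U V D K L Z : Subgroup G}
  {p : ℕ} {f : G → G} {x y z a b c d : G} [Finite G] [hp : Fact p.Prime]

theorem om_fix (p2 : p ≠ 2) (hQ : PG[p, Q]) {α : MulAut Q} {k : ℕ} (a : α ^ k = 1) (b : k.Coprime p)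
    (h : ∀ x ∈ Q, x ^ p = 1 → af α x = x) : α = 1 := by
  obtain ⟨D, d1, -, d3, d4⟩ := exists_D hQ le_rfl
  exact d4 α k a b (fun x hx => mul_mem (inv_mem hx) (af_mem _ hx)) fun x hx =>
    h x (d1 hx) ((d3 x hx).pow.resolve_right fun e => p2 e.1)

/-- stabiliser of a chain covering the elements of order `p` -/
theorem mem_Op_om (p2 : p ≠ 2) (hQ : PG[p, Q]) {A : Subgroup (MulAut Q)} (c : ℕ → Subgroup G) (n : ℕ) (h0 : c 0 = ⊥)
    (hn : ∀ x ∈ Q, x ^ p = 1 → x ∈ c n) (hc : ∀ α ∈ A, ∀ i, ∀ x ∈ Q, x ∈ c i → af α x ∈ c i) {β : MulAut Q}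
    (hβ : β ∈ A) (h : ∀ i, ∀ x ∈ Q, x ∈ c (i + 1) → x ^ p = 1 → x⁻¹ * af β x ∈ c i)
    (he : ∀ i, ∀ x ∈ c i, x ^ p = 1) : β ∈ piCoreOf {p} A :=
  mem_Op_of_pairs (fun i => c (i + 1)) c (fun α a i => hc α a (i + 1)) hc (fun α _ k a b e => om_fix p2 hQ a b
    fun x hx x1 => chain_fix hQ a b c (fun y _ k => by rw [h0, mem_bot] at k; rw [k, (homOn_af α).one]) e n x hx
      (hn x hx x1)) hβ fun i x hx k => h i x hx k (he _ x k)

theorem ext_Op (hS : PG[p, S]) (hF : F.IsSaturated p) (hR : F.IsFullyNormalized R) {A : Subgroup (MulAut R)}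
    (hA : A ≤ F.autGroup R) (h : autInducedBy S R ≤ piCoreOf {p} A) {β : MulAut R} (hβ : β ∈ A) :
    ∃ g, M F (S ⊓ N[R]) g ∧ ∀ x ∈ R, g x = af β x := by
  have e := (fa_iff.1 (sat_fn_fa hS hF hR)).2.eq_of_le isPGroup_piCoreOf h (piCoreOf_le.trans hA)
  obtain ⟨g, g1, g2⟩ := sat_ext hS hF ((mem_aut hR.1).1 (hA hβ)) (by rw [im_af]; exact sat_fn_fc hS hF hR)
  exact ⟨g, g1.mono fun y hy => mem_Ext_of_norm le_rfl (e ▸ le_norm_piCoreOf hβ) hy.1 hy.2 (cA_mem _ hy.1), g2⟩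
end

variable {G : Type*} [Group G] {F : FusionSystem (⊤ : Subgroup G)} {E P Q R T U V D K Z : Subgroup G}
  {p : ℕ} {f g : G → G} {x y z a b c d : G} [Finite G] [hp : Fact p.Prime]

theorem M.exists_equiv (h : M F ⊤ g) : ∃ φ : MulAut G, ∀ x, φ x = g x :=
  ⟨MulEquiv.ofBijective (MonoidHom.mk' g fun a b => h.mul (mem_top a) (mem_top b))
    (Finite.injective_iff_bijective.1 fun _ _ => h.inj (mem_top _) (mem_top _)), fun _ => rfl⟩

/-- action on the central quotient -/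
def qAut (Q : Type*) [Group Q] : MulAut Q →* MulAut (Q ⧸ center Q) where
  toFun α := QuotientGroup.congr _ _ α (characteristic_iff_map_eq.1 inferInstance α)
  map_one' := MulEquiv.ext fun x => by obtain ⟨g, rfl⟩ := QuotientGroup.mk_surjective x; rfl
  map_mul' a b := MulEquiv.ext fun x => by obtain ⟨g, rfl⟩ := QuotientGroup.mk_surjective x; rfl

theorem exists_inv2 (h5 : 5 ≤ p) : ∃ a' : ℤ, (p : ℤ) ∣ -2 * a' - 1 ∧ ¬ (p : ℤ) ∣ a' ^ 2 - 1 ∧ ¬ (p : ℤ) ∣ -2 - a' ^ 2 := by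
  obtain ⟨m, hm⟩ := hp.out.odd_of_ne_two (by omega)
  have d : (p : ℤ) ∣ -2 * m - 1 := ⟨-1, by rw [hm]; push_cast; ring⟩
  refine ⟨m, d, fun k => ?_, fun k => ?_⟩
  · have : (p : ℤ) ∣ 3 := by
      rw [show (3 : ℤ) = (-2 * m - 1) * (-2 * m + 1) - 4 * (m ^ 2 - 1) by ring]
      exact (d.mul_right _).sub (k.mul_left _)
    have := Nat.le_of_dvd three_pos (Int.natCast_dvd_natCast.1 this); omega
  · have : (p : ℤ) ∣ 3 ^ 2 := by
      rw [show (3 : ℤ) ^ 2 = -((-2 * m - 1) * (-2 * m + 1)) - 4 * (-2 - m ^ 2) by ring]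
      exact (d.mul_right _).neg_right.sub (k.mul_left _)
    have := Nat.le_of_dvd three_pos (Int.natCast_dvd_natCast.1 ((Nat.prime_iff_prime_int.1 hp.out).dvd_of_dvd_pow this))
    omega

namespace RK
variable (h : RK p E) (hF : F.IsSaturated p) (h5 : 5 ≤ p)
include h

omit [Finite G] hp in
theorem afE (α : MulAut R) (hx : x ∈ R) (k : x ∈ E) : af α x ∈ E :=
  (h.om _).2 (by rw [← (homOn_af α).pow hx, (h.om x).1 k, (homOn_af α).one])

theorem afZ (l : E ≤ R) (α : MulAut R) (k : x ∈ Z[E]) : af α x ∈ Z[E] := by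
  rw [← h.wx.der_eq h.nab] at k ⊢
  have := mem_im_of (af α) k
  rw [(homOn_af α).im_comm l l] at this
  have m : im E (af α) ≤ E := (closure_le _).2 (by rintro _ ⟨x, hx, rfl⟩; exact h.afE α (l hx) hx)
  exact commutator_mono m m this

include hF h5

theorem caseA (hR : F.IsEssential p R) : ¬ E ≤ R := fun l => by
  haveI := h.normal
  have pR := h.pg.to_le hR.1.1
  have rad := ess_radical h.pg hF hR
  have zc : ∀ w ∈ Z[E], ∀ g, w⁻¹ * (g * w * g⁻¹) = 1 := fun w hw g => by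
    rw [← mem_cent_iff.1 (h.Z_cen (mem_top g)) w hw]; simp
  have he : ∀ K ≤ E, ∀ x ∈ K, x ^ p = 1 := fun K a x b => (h.om x).1 (a b)
  have k0 : ∀ y ∈ N[R], y ∈ E ⊔ C[E] → y ∈ R := fun y a b => by
    by_contra c
    refine cA_nmem_Op hR.1 rad (mem_top y) a c (mem_Op_om h.p2 pR (fun i => if i = 0 then ⊥ else if i = 1 then Z[E] else E)
      2 rfl (fun x _ k => (h.om x).2 k) (fun α _ i x hx k => ?_) (autInd_le_aut le_top le_rfl (cA_mem a (mem_top y)))
      (fun i x hx k x1 => ?_) fun i => he _ ?_)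
    · split_ifs at k ⊢
      exacts [by rw [mem_bot.1 k, (homOn_af α).one]; exact one_mem _, h.afZ l α k, h.afE α hx k]
    · rw [af_cA _ hx]
      rcases i with _ | _ | i
      · exact zc x k y
      · have := inv_mem (h.comm0 (commutator_mem_commutator b (inv_mem ((h.om x).2 x1))))
        simpa [commutatorElement_def, mul_assoc] using this
      · exact mul_mem (inv_mem k) (conj_mem_of_norm (mem_norm_normal E y) k)
    · split_ifs
      exacts [bot_le, inf_le_left, le_rfl]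
  obtain ⟨y, hy, y1⟩ := SetLike.exists_of_lt (lt_nI h.pg le_rfl (ess_lt h.pg hF hR))
  have n : ¬ ⁅E, ⊤⁆ ≤ Z[E] := fun k => y1 (k0 y hy.2 (h.mem0 fun x hx => by
    rw [← inv_mem_iff, commutatorElement_inv]; exact k (commutator_mem_commutator hx (mem_top y))))
  have lU := h.U_le n
  obtain ⟨x0, hx0, x01⟩ := SetLike.exists_of_lt (lt_of_le_of_ne lU fun e => hp.out.ne_one (by
    rw [← (h.idxU n).2, e, relIndex_self]))
  obtain ⟨s, u, -, -, -, -, -, eU, u1, s1, s2, eS⟩ := h.conf n hx0 x01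
  have i0 : (E ⊔ C[E]).relIndex ⊤ = p := eS ▸ relIndex_sup_zpowers_prime hp.out (mem_norm_normal _ s) s2 s1
  have R0 : R ≤ E ⊔ C[E] := fun r hr => by
    by_contra c
    obtain ⟨w, hw, j, rfl⟩ := (mem_sup_zpowers (mem_norm_normal _ r)).1 ((sup_zp_of_idx le_top i0 (mem_top r) c).ge
      (mem_top y))
    exact y1 (mul_mem (k0 w (by simpa using N[R].mul_mem hy.2 (inv_mem (zpow_mem (le_normalizer hr) j))) hw)
      (zpow_mem hr j))
  obtain rfl : R = E ⊔ C[E] := by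
    by_contra c
    obtain ⟨w, hw, w1⟩ := SetLike.exists_of_lt (lt_nI h.pg le_top (lt_of_le_of_ne R0 c))
    exact w1 (k0 w hw.2 hw.1)
  set U := Z[E] ⊔ ⁅E, ⊤⁆
  set R := E ⊔ C[E]
  have nR : ∀ g, g ∈ N[R] := mem_norm_normal R
  have mU : ∀ x ∈ E, ∀ w, x⁻¹ * (w * x * w⁻¹) ∈ U := fun x hx w => mem_sup_right (by
    simpa [commutatorElement_def, mul_assoc] using commutator_mem_commutator (inv_mem hx) (mem_top w))
  have zU : ∀ v ∈ U, ∀ w, v⁻¹ * (w * v * w⁻¹) ∈ Z[E] := fun v hv w => by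
    simpa [commutatorElement_def, mul_assoc] using h.commU n (commutator_mem_commutator (inv_mem hv) (mem_top w))
  have uU : u ∈ U := eU.le (mem_sup_right (mem_zpowers u))
  have Op : ∀ A : Subgroup (MulAut R), (∀ α ∈ A, ∀ x ∈ U, af α x ∈ U) → ∀ w, cA (nR w) ∈ A →
      cA (nR w) ∈ piCoreOf {p} A := fun A hA w hw => by
    refine mem_Op_om h.p2 pR (fun i => if i = 0 then ⊥ else if i = 1 then Z[E] else if i = 2 then U else E)
      3 rfl (fun x _ k => (h.om x).2 k) (fun α a i x hx k => ?_) hw (fun i x hx k x1 => ?_) fun i => he _ ?_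
    · split_ifs at k ⊢
      exacts [by rw [mem_bot.1 k, (homOn_af α).one]; exact one_mem _, h.afZ l α k, hA α a x k, h.afE α hx k]
    · rw [af_cA _ hx]
      rcases i with _ | _ | _ | i
      exacts [zc x k w, zU x k w, mU x k w, lU (mU x k w)]
    · split_ifs
      exacts [bot_le, inf_le_left, lU, le_rfl]
  have iU : ∀ α : MulAut R, af α u ∈ U → ∀ x ∈ U, af α x ∈ U := fun α k x hx => by
    obtain ⟨y, hy, j, rfl⟩ := (mem_sup_zpowers (h.nZ (mem_top u))).1 (eU.ge hx)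
    rw [(homOn_af α).mul (l hy.1) (zpow_mem (l (lU uU)) _), (homOn_af α).zpow (l (lU uU))]
    exact mul_mem (mem_sup_left (h.afZ l α hy)) (zpow_mem k _)
  have m1 := autInd_le_aut (F := F) le_top le_rfl (cA_mem (nR s) (mem_top s))
  obtain ⟨α, hα, a1⟩ : ∃ α ∈ F.autGroup R, af α u ∉ U := by
    by_contra c; push Not at c
    exact cA_nmem_Op hR.1 rad (mem_top s) (nR s) s1 (Op _ (fun α a => iU α (c α a)) s m1)
  have a2 : af α⁻¹ u ∉ U := fun k => a1 ((af_mem_iff (fun x _ => iU _ k x) (af_mem α (l (lU uU)))).1 (by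
    rwa [af_inv_af _ (l (lU uU))]))
  have st : ∀ γ : MulAut R, γ ∈ stabA l := fun γ => le_antisymm ((closure_le _).2 (by
    rintro _ ⟨x, hx, rfl⟩; exact h.afE γ (l hx) hx)) fun x hx =>
      af_af_inv γ (l hx) ▸ mem_im_of _ (h.afE γ⁻¹ (l hx) hx)
  let ρ : MulAut R →* MulAut (E ⧸ center E) := ((qAut E).comp (resA l)).comp ((MonoidHom.id _).codRestrict _ st)
  have hρ : ∀ γ : MulAut R, ∀ v : E, ρ γ v = (⟨af γ v, h.afE γ (l v.2) v.2⟩ : E) := fun γ v =>
    congrArg QuotientGroup.mk (Subtype.ext ((af_coe _ v).symm.trans (af_resA _ v.2)))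
  have mc : ∀ v : E, v ∈ center E ↔ (v : G) ∈ Z[E] := fun v => by
    rw [← map_center_subtype]; exact (mem_map_iff_mem E.subtype_injective).symm
  have eq : ∀ v w : E, (v : E ⧸ center E) = w ↔ (v : G)⁻¹ * w ∈ Z[E] := fun v w => by
    rw [QuotientGroup.eq, mc]; rfl
  haveI : IsMulCommutative (E ⧸ center E) := ⟨⟨fun a b => by
    obtain ⟨a, rfl⟩ := QuotientGroup.mk_surjective a
    obtain ⟨b, rfl⟩ := QuotientGroup.mk_surjective b
    rw [← QuotientGroup.mk_mul, ← QuotientGroup.mk_mul, eq]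
    simpa [commutatorElement_def, mul_assoc] using h.wx.der (commutator_mem_commutator (inv_mem b.2) (inv_mem a.2))⟩⟩
  have fx : ∀ v : E, ρ (cA (nR s)) v = v → (v : G) ∈ U := fun v k => by
    by_contra c
    rw [hρ, eq_comm, eq] at k
    simp only [af_cA _ (l v.2)] at k
    refine s1 (h.mem0 fun w hw => ?_)
    obtain ⟨y, hy, j, rfl⟩ := (mem_sup_zpowers (h.nU n (mem_top v))).1 ((sup_zp_of_idx lU (h.idxU n).2 v.2 c).ge hw)
    haveI := normal_of_top_le_norm h.nZ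
    have k' := zU y hy s
    rw [← QuotientGroup.eq_one_iff, ← QuotientGroup.mk'_apply, map_mul, map_inv, inv_mul_eq_one, map_mul, map_mul,
      map_inv, eq_mul_inv_iff_mul_eq] at k k'
    rw [← QuotientGroup.eq_one_iff, ← QuotientGroup.mk'_apply, map_commutatorElement,
      commutatorElement_eq_one_iff_commute, map_mul, map_zpow]
    exact (Commute.symm k').mul_right ((Commute.symm k).zpow_right j)
  let ub : E := ⟨u, lU uU⟩
  have tv : Tv p (ρ (cA (nR s))) (ub : E ⧸ center E) := ⟨by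
      rw [← QuotientGroup.mk_pow, show ub ^ p = 1 from Subtype.ext ((h.om u).1 ub.2)]; rfl,
    fun k => u1 ((mc _).1 ((QuotientGroup.eq_one_iff _).1 k)), by
      rw [hρ, eq_comm, eq]; simp only [af_cA _ (l ub.2)]; exact zU u uU s, fun v => by
      obtain ⟨v, rfl⟩ := QuotientGroup.mk_surjective v
      obtain ⟨y, hy, j, e⟩ := (mem_sup_zpowers (h.nZ (mem_top u))).1 (eU.ge (mU v v.2 s))
      refine ⟨j, ?_⟩
      simp only
      rw [hρ, ← QuotientGroup.mk_zpow, ← QuotientGroup.mk_inv, ← QuotientGroup.mk_mul, eq]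
      simp only [coe_mul, coe_inv, coe_zpow, af_cA _ (l v.2), ← e, ub]
      exact conj_mem_of_norm' (h.nZ (mem_top _)) hy |> fun k => by simpa [mul_assoc] using k,
    fun k => x01 (fx ⟨x0, hx0⟩ (by rw [k]; rfl))⟩
  have k1 : ρ (cA (nR s)) (ρ α ub) ≠ ρ α ub := fun k => a1 (by rw [hρ] at k; exact fx _ k)
  have k2 : (ρ α * ρ (cA (nR s)) * (ρ α)⁻¹) ub ≠ ub := fun k => a2 (by
    rw [MulAut.mul_apply, MulAut.mul_apply, ← MulEquiv.eq_symm_apply, ← MulAut.inv_apply, ← map_inv, hρ α⁻¹] at k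
    exact fx _ k)
  obtain ⟨a', d1, d2, -⟩ := exists_inv2 h5
  obtain ⟨β', b1, b2, b3, -⟩ := tv.torus (tv.conj (ρ α)) k1 k2 d1
  rw [← map_inv, ← map_mul, ← map_mul, ← Set.image_pair, ← MonoidHom.map_closure] at b1
  obtain ⟨β, b0, rfl⟩ := b1
  have hβ : β ∈ F.autGroup R := (closure_le _).2 (by
    rintro _ (rfl | rfl); exacts [m1, mul_mem (mul_mem hα m1) (inv_mem hα)]) b0
  have bz : ∀ w ∈ Z[E], af β w = w := fun w hw => by
    have c : ∀ w ∈ Z[E], af (cA (nR s)) w = w := fun w hw => by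
      rw [af_cA _ (l hw.1)]; exact (inv_mul_eq_one.1 (zc w hw s)).symm
    have : β ∈ MulAction.stabilizer (MulAut R) (⟨w, l hw.1⟩ : R) := (closure_le _).2 (by
      rintro _ (rfl | rfl) <;> refine Subtype.ext ((af_coe _ _).symm.trans ?_)
      · exact c w hw
      · rw [af_mul _ _ (l hw.1), af_mul _ _ (af_mem _ (l hw.1)), c _ (h.afZ l _ hw), af_af_inv _ (l hw.1)]) b0
    exact (af_apply _ (l hw.1)).trans (congrArg Subtype.val this)
  rw [hρ, ← QuotientGroup.mk_zpow, eq_comm, eq] at b2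
  rw [hρ α, hρ, ← QuotientGroup.mk_zpow, eq_comm, eq] at b3
  have sU : ∀ γ : MulAut R, af γ u ∈ U → γ ∈ stabA (lU.trans l) := fun γ k => le_antisymm ((closure_le _).2 (by
    rintro _ ⟨x, hx, rfl⟩; exact iU γ k x hx)) fun x hx => af_af_inv γ (l (lU hx)) ▸ mem_im_of _
      ((af_mem_iff (fun x _ => iU _ k x) (af_mem _ (l (lU hx)))).1 (by rwa [af_af_inv _ (l (lU hx))]))
  obtain ⟨g, g1, g2⟩ := ext_Op h.pg hF hR.2.1 (A := F.autGroup R ⊓ stabA (lU.trans l)) inf_le_left (fun γ hγ => by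
    obtain ⟨w, -, -, e⟩ := mem_autInd.1 hγ
    obtain rfl : γ = cA (nR w) := af_ext fun x hx => by rw [e x hx, af_cA _ hx]
    exact Op (F.autGroup R ⊓ stabA (lU.trans l)) (fun α a x => stabA_mem a.2) w ⟨autInd_le_aut le_top le_rfl hγ, sU _ (by
      rw [af_cA _ (l ub.2)]; exact conj_mem_of_norm (h.nU n (mem_top w)) uU)⟩)
    ⟨hβ, sU β (by simpa [ub] using mul_mem (zpow_mem uU (-2)) (mem_sup_left b2 : _ ∈ U))⟩
  obtain ⟨φ, hφ⟩ := (g1.mono (le_inf le_rfl fun w _ => nR w)).exists_equiv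
  have xE := h.afE α (l ub.2) ub.2
  rcases h.eig n φ xE a1 (α := a') (ζ := 1) (by rw [hφ, g2 _ (l xE)]; exact mem_sup_left b3)
    (fun w hw => by rw [hφ, g2 _ (l hw.1), bz w hw, zpow_one]) with k | k
  exacts [d2 k, d2 (dvd_sub_comm.1 k)]

theorem no_ess (hE : E ≠ ⊤) : ¬ F.IsEssential p R := fun hR => by
  haveI := h.normal
  have pR := h.pg.to_le hR.1.1
  have rad := ess_radical h.pg hF hR
  have sE : F.StronglyClosed E := sc_iff.2 ⟨le_top, fun _ _ hf x hx a => (h.om _).2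
    (by rw [← hf.pow hx, (h.om x).1 a, hf.one])⟩
  have nl := h.caseA hF h5 hR
  have ZR : Z[E] ≤ R := fun z hz => centric_cI hR.1 ⟨mem_top _, cent_anti le_top (le_centralizer_iff.1 h.Z_cen hz)⟩
  have ZT : Z[E] ≤ R ⊓ E := le_inf ZR inf_le_left
  have cT := cent_inf_le h.pg hF hR.1 rad sE
  have lt : R ⊓ E < E := lt_of_le_of_ne inf_le_right fun e => nl (e.ge.trans inf_le_left)
  have i1 : Z[E].relIndex (R ⊓ E) = p ∧ (R ⊓ E).relIndex E = p := by
    have i := card_mul_relIndex (inf_le_left : Z[E] ≤ E)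
    rw [h.wx.cardZ, h.card, pow_succ', ← relIndex_mul_relIndex _ _ _ ZT lt.le] at i
    replace i := Nat.eq_of_mul_eq_mul_left hp.out.pos i
    obtain ⟨k, hk, e⟩ := (Nat.dvd_prime_pow hp.out).1 (Dvd.intro _ i)
    interval_cases k
    · exact (nl ((le_inf le_rfl (le_top.trans (h.Z_cen.trans (cent_anti (relIndex_eq_one.1 e))))).trans cT)).elim
    · rw [pow_one] at e
      rw [e, sq] at i
      exact ⟨e, Nat.eq_of_mul_eq_mul_left hp.out.pos i⟩
    · rw [e, mul_eq_left₀ (pow_ne_zero _ hp.out.ne_zero)] at i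
      exact (lt.not_ge (relIndex_eq_one.1 i)).elim
  have c2 : o[R ⊓ E] = p ^ 2 := by rw [← card_mul_relIndex ZT, i1.1, h.wx.cardZ, sq]
  obtain ⟨y, hy, y1, y2⟩ := exists_mem_norm_not h.pg le_top le_top (le_top.trans (sc_le_norm sE)) nl
  have k0 := cA_nmem_Op hR.1 rad (mem_top y) y1 y2
  have m0 := autInd_le_aut (F := F) le_top le_rfl (cA_mem y1 (mem_top y))
  have RE : R ≤ E := by
    by_cases a : R ⊓ E ≤ Φ[R]
    · refine (k0 (mem_Op_of_pairs (fun _ : Unit => R) (fun _ => Φ[R]) (fun α _ _ x hx _ => af_mem _ hx)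
        (fun α _ _ x _ => af_phi α) (fun α _ k a b e => phi_chain pR a b (fun x hx => e () x hx hx)
          fun x hx _ => e () x hx hx) m0 fun _ x hx _ => a ⟨mul_mem (R.inv_mem hx) (af_mem _ hx), ?_⟩)).elim
      rw [af_cA _ hx, ← mul_assoc, ← mul_assoc]
      exact mul_mem (conj_mem_of_norm' (mem_norm_normal E x) hy) (E.inv_mem hy)
    by_cases b : R ⊓ E ⊓ Φ[R] = ⊥
    · have : Φ[R] = ⊥ := by
        by_contra c
        obtain ⟨w, hw, o⟩ := exists_prime_order_mem hp.out (show p ∣ o[Φ[R]] by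
          simpa using mul_card_dvd_of_lt (pR.to_le phi_le) (bot_lt_iff_ne_bot.2 c))
        rw [mem_bot.1 (b.le ⟨⟨phi_le hw, (h.om w).2 (o ▸ pow_orderOf_eq_one w)⟩, hw⟩), orderOf_one] at o
        exact hp.out.ne_one o.symm
      exact fun x hx => (h.om x).2 ((elem_of_phi_eq_bot pR this).2 x hx)
    have c1 : o[R ⊓ E ⊓ Φ[R]] = p := by
      have := mul_card_dvd_of_lt (pR.to_le inf_le_left) (lt_of_le_of_ne (inf_le_left : R ⊓ E ⊓ Φ[R] ≤ _)
        fun e => a (e.ge.trans inf_le_right))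
      rw [c2, sq, Nat.mul_dvd_mul_iff_right hp.out.pos] at this
      exact ((Nat.dvd_prime hp.out).1 this).resolve_left fun e => b (card_eq_one.1 e)
    have n1 : zpowers y ≤ N[R ⊓ E] := zpowers_le.2 (mem_norm_inf y1 (le_normalizer hy))
    have n2 : zpowers y ≤ N[R ⊓ E ⊓ Φ[R]] := le_norm_inf n1 (zpowers_le.2 (norm_le_norm_phi y1))
    have py := h.pg.to_le (le_top : zpowers y ≤ ⊤)
    refine (k0 (mem_Op_om h.p2 pR (fun i => if i = 0 then ⊥ else if i = 1 then R ⊓ E ⊓ Φ[R] else R ⊓ E)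
      2 rfl (fun x a k => ⟨a, (h.om x).2 k⟩) (fun α _ i x hx k => ?_) m0 (fun i x hx k x1 => ?_) fun i x k => ?_)).elim
    · split_ifs at k ⊢
      exacts [by rw [mem_bot.1 k, (homOn_af α).one]; exact one_mem _,
        ⟨⟨af_mem _ hx, h.afE α hx k.1.2⟩, af_phi α k.2⟩, ⟨af_mem _ hx, h.afE α hx k.2⟩]
    · rw [af_cA _ hx]
      rcases i with _ | _ | i
      · rw [← mem_cent_iff.1 (le_cent_of_card_prime py n2 c1 (mem_zpowers y)) x k]; simp
      · simpa [commutatorElement_def, mul_assoc] using comm_le_of_idx py (pR.to_le inf_le_left) inf_le_left (by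
          have := card_mul_relIndex (inf_le_left : R ⊓ E ⊓ Φ[R] ≤ _)
          rw [c1, c2, sq] at this
          exact Nat.eq_of_mul_eq_mul_left hp.out.pos this) n2 n1
            (commutator_mem_commutator (inv_mem (show x ∈ R ⊓ E from k)) (mem_zpowers y))
      · exact mul_mem (inv_mem k) (conj_mem_of_norm (n1 (mem_zpowers y)) k)
    · split_ifs at k
      exacts [by rw [mem_bot.1 k, one_pow], (h.om x).1 k.1.2, (h.om x).1 k.2]
  rw [inf_eq_left.2 RE] at i1 c2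
  haveI := isMulComm_of_card_sq c2
  have cZ : ∀ w ∈ ⊤ ⊓ N[R], ∀ u ∈ R, u⁻¹ * (w * u * w⁻¹) ∈ Z[E] := fun w hw u hu => by
    simpa [commutatorElement_def, mul_assoc] using comm_le_of_idx (h.pg.to_le (inf_le_left : ⊤ ⊓ N[R] ≤ ⊤)) pR ZR i1.1
      (le_top.trans h.nZ) inf_le_right (commutator_mem_commutator (inv_mem hu) hw)
  obtain ⟨i2, y, -, hy, z, hz, tv, ax, α, hα, k1, k2, -⟩ := ess_ab h.pg hF hR ZR i1.1 (le_top.trans h.Z_cen) cZ
  have eN : ⊤ ⊓ N[R] = E := (eq_of_le_of_card_ge (le_inf le_top (le_norm_of_relIndex_prime h.wx.pg RE (i1.2 ▸ hp.out)))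
    (by rw [← card_mul_relIndex (le_inf le_top le_normalizer : R ≤ _), i2, ← card_mul_relIndex RE, i1.2])).symm
  obtain ⟨a', d1, d2, d3⟩ := exists_inv2 h5
  obtain ⟨β, b1, b2, b3, -⟩ := tv.torus (tv.conj α) k1 k2 d1
  have m1 := autInd_le_aut (F := F) le_top le_rfl (cA_mem hy (mem_top y))
  have hβ : β ∈ F.autGroup R := (closure_le _).2 (by
    rintro _ (rfl | rfl); exacts [m1, mul_mem (mul_mem hα m1) (inv_mem hα)]) b1
  have ez : zpowers (z : G) = Z[E] := eq_of_le_prime (h.wx.cardZ ▸ hp.out) (zpowers_le.2 hz)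
    fun e => tv.z1 (Subtype.ext (zpowers_eq_bot.1 e))
  have bz : ∀ w ∈ Z[E], af β w = w ^ (-2 : ℤ) := fun w hw => by
    obtain ⟨j, rfl⟩ := ez.ge hw
    simp only [(homOn_af β).zpow z.2, af_coe, b2, coe_zpow, ← zpow_mul, mul_comm]
  have sZ : ∀ γ : MulAut R, (∀ w ∈ Z[E], af γ w ∈ Z[E]) → γ ∈ stabA ZR := fun γ k => le_antisymm ((closure_le _).2 (by
    rintro _ ⟨x, hx, rfl⟩; exact k x hx)) fun x hx => af_af_inv γ (ZR hx) ▸ mem_im_of _
      ((af_mem_iff (fun x _ => k x) (af_mem _ (ZR hx))).1 (by rwa [af_af_inv _ (ZR hx)]))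
  obtain ⟨g, g1, g2⟩ := ext_Op h.pg hF hR.2.1 (A := F.autGroup R ⊓ stabA ZR) inf_le_left (fun γ hγ => by
    obtain ⟨w, -, hw, e⟩ := mem_autInd.1 hγ
    refine mem_Op_om h.p2 pR (fun i => if i = 0 then ⊥ else if i = 1 then Z[E] else R) 2 rfl (fun x a _ => a)
      (fun α a i x hx k => ?_) ⟨autInd_le_aut le_top le_rfl hγ, sZ γ fun u hu => e u (ZR hu) ▸
        conj_mem_of_norm (h.nZ (mem_top w)) hu⟩ (fun i x hx k _ => ?_) fun i x k => ?_
    · split_ifs at k ⊢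
      exacts [by rw [mem_bot.1 k, (homOn_af α).one]; exact one_mem _, stabA_mem a.2 k, af_mem _ hx]
    · rw [e x hx]
      rcases i with _ | _ | i
      · rw [← mem_cent_iff.1 (h.Z_cen (mem_top w)) x k]; simp
      · exact cZ w ⟨mem_top _, hw⟩ x hx
      · exact ZR (cZ w ⟨mem_top _, hw⟩ x hx)
    · split_ifs at k
      exacts [by rw [mem_bot.1 k, one_pow], (h.om x).1 k.1, (h.om x).1 (RE k)])
    ⟨hβ, sZ β fun w hw => bz w hw ▸ zpow_mem hw _⟩
  rw [eN] at g1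
  have CE : C[E] ≤ E := fun w hw => RE (centric_cI hR.1 ⟨mem_top _, cent_anti RE hw⟩)
  have n : ¬ ⁅E, ⊤⁆ ≤ Z[E] := fun k => hE (eq_top_iff.2 fun y _ => sup_le le_rfl CE (h.mem0 fun x hx => by
    rw [← inv_mem_iff, commutatorElement_inv]; exact k (commutator_mem_commutator hx (mem_top y))))
  have x1 : (α z : G) ∉ Z[E] ⊔ ⁅E, ⊤⁆ := fun k => hE (by
    rw [← eN, top_inf_eq, ← top_le_iff, ← sup_zp_of_idx ZR i1.1 (α z).2 fun k => k1 ((ax _).2 k),
      sup_zp_of_idx le_sup_left (h.idxU n).1 k fun k => k1 ((ax _).2 k)]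
    exact h.nU n)
  obtain ⟨s, -, -, -, -, -, -, -, -, s1, s2, eS⟩ := h.conf n (RE (α z).2) x1
  rw [sup_eq_left.2 CE] at s1 s2 eS
  have i0 : E.relIndex ⊤ = p := eS ▸ relIndex_sup_zpowers_prime hp.out (mem_norm_normal _ s) s2 s1
  obtain ⟨δ, e1, e2⟩ := g1.exists_aut (sc_im sE g1 le_rfl)
  have fn : F.IsFullyNormalized E := fn_of_normal le_top (sc_le_norm sE)
  have : HX F E ≤ resS le_top (F.autGroup ⊤) := (closure_le _).2 (by
    rintro γ ⟨Q, a, f, b, c⟩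
    obtain rfl : Q = ⊤ := (eq_or_eq_of_relIndex_prime (i0 ▸ hp.out) a.le le_top).resolve_left a.ne'
    obtain ⟨φ, d, e⟩ := b.exists_aut (b.im_eq_of_le le_rfl fun _ _ => mem_top _)
    exact mem_resS.2 ⟨φ, d, fun x hx => (e x (mem_top x)).trans (c x hx)⟩)
  obtain ⟨ψ, f1, f2⟩ := mem_resS.1 (this ((not_not.1 fun k => h.caseA hF h5
    ((ess_iff h.pg hF (lt_top_iff_ne_top.2 hE) fn).2 k) le_rfl).ge e1))
  obtain ⟨φ, hφ⟩ := ((mem_aut le_rfl).1 f1).exists_equiv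
  have k : ∀ w ∈ R, φ w = af β w := fun w hw => by rw [hφ, f2 w (RE hw), e2 w (RE hw), g2 w hw]
  rcases h.eig n φ (RE (α z).2) x1 (α := a') (ζ := -2) (by rw [k _ (α z).2, af_coe, b3]; simp)
    (fun w hw => by rw [k w (ZR hw), bz w hw]) with k | k
  exacts [d2 k, d3 k]

end RK

theorem normal_rk2 (hG : PG[p, (⊤ : Subgroup G)]) (hF : F.IsSaturated p) (h5 : 5 ≤ p) (hr : prk p (⊤ : Subgroup G) ≤ 2)
    (h : ¬ (Nat.card G = p ^ 3 ∧ ∀ x : G, x ^ p = 1)) : F.IsNormal ⊤ := by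
  have om := bg4_8b (by omega) hG hr
  by_cases c : o[omegaOne p (⊤ : Subgroup G)] ≤ p ^ 2
  · exact normal_mc hG hF (by omega) sc_top (bg4_11 (by omega) hG c)
  obtain ⟨k, hk, e⟩ := (Nat.dvd_prime_pow hp.out).1 (bg4_8a om ((prk_mono le_top).trans hr))
  obtain rfl : k = 3 := by
    by_contra a
    exact c (e ▸ Nat.pow_le_pow_right hp.out.pos (by omega))
  have r : RK p (omegaOne p (⊤ : Subgroup G)) := ⟨hG, by omega, fun x => ⟨om x, mem_omegaOne (mem_top x)⟩, e,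
    fun a => c (card_le_of_prk_le hr ⟨a, om⟩ le_top)⟩
  exact normal_top_of hG hF fun R => r.no_ess hF h5 fun t => h ⟨by rw [← e, t, card_top],
    fun x => om x (t.ge (mem_top x))⟩

end CfsgL0
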