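import Cfsg.Agent.L0.WR3

/-! Simplicity criteria for fusion systems of finite groups. -/

namespace CfsgL0
open Function Subgroup Cfsg CfsgH2 Cfsg.FusionSystem
open scoped commutatorElement

variable {G : Type*} [Group G] [Finite G] {p : ℕ} {S T : Subgroup G} {a b c x y z : G} {m : ℕ}

/-- strong closure in the group -/
def StC (S T : Subgroup G) : Prop := T ≤ S ∧ ∀ x ∈ T, ∀ g, g * x * g⁻¹ ∈ S → g * x * g⁻¹ ∈ T

/-- generated by the `p`-elements normalizing `R` -/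
def PN (p : ℕ) (R : Subgroup G) : Subgroup G := closure {g | g ∈ N[R] ∧ ∃ k, g ^ p ^ k = 1}

theorem gsimple [Fact p.Prime] (S : Sylow p G) (h1 : (S : Subgroup G) ≠ ⊥)
    (h2 : ∀ T, StC (S : Subgroup G) T → T = ⊥ ∨ T = S)
    (h3 : N[(S : Subgroup G)] ≤ closure {g | g ∈ N[(S : Subgroup G)] ∧ (g ∈ C[(S : Subgroup G)] ∨
      ∃ R, (groupFusionSystem (S : Subgroup G)).IsCentric R ∧ g ∈ PN p R)}) :
    (groupFusionSystem (S : Subgroup G)).IsSimple p := by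
  have hF := group_sat S
  refine simple_of S.isPGroup' hF h1 (fun T hT => h2 T ⟨hT.1, fun x hx g hg => ?_⟩) fun E hE => ?_
  · refine sc_mem hT (f := fun y => g * y * g⁻¹) (P := zpowers x) (M_group.2 ⟨(zpowers_le.2 hx).trans hT.1, ?_, g,
      fun _ _ => rfl⟩) (mem_zpowers x) hx
    rintro _ ⟨i, rfl⟩
    simpa only [conj_zpow] using zpow_mem hg i
  rw [group_eq_sub, sub_aut le_rfl]
  intro α hα
  obtain ⟨g, -, a, b⟩ := mem_autInd.1 hα
  have key : ∃ hn : g ∈ N[(S : Subgroup G)], cA hn ∈ E.autGroup S := by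
    replace a := h3 a
    clear b
    induction a using closure_induction with
    | mem g hg =>
      obtain ⟨hg, h | ⟨R, hR, a⟩⟩ := hg
      · exact ⟨hg, by rw [(cA_eq_one _).2 h]; exact one_mem _⟩
      have key : ∃ hn : g ∈ N[R], cA hn ∈ E.autGroup R := by
        clear hg
        induction a using closure_induction with
        | mem x hx =>
          refine ⟨hx.1, opp_le_iff.1 ((si_of_inv hE.1.2.2).ptp S.isPGroup' hF hR.1) _ ?_ ?_⟩
          · rw [group_eq_sub, sub_aut hR.1]; exact cA_mem _ (mem_top _)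
          · obtain ⟨k, hk⟩ := hx.2
            refine isPGroup_zpowers (k := k) ((map_pow R.normalizerMonoidHom ⟨x, hx.1⟩ _).symm.trans ?_)
            rw [show (⟨x, hx.1⟩ : N[R]) ^ p ^ k = 1 from Subtype.ext hk, map_one]
        | one => exact ⟨one_mem _, by rw [(cA_eq_one _).2 (one_mem _)]; exact one_mem _⟩
        | mul x y _ _ a b => exact ⟨mul_mem a.1 b.1, cA_mul a.1 b.1 ▸ mul_mem a.2 b.2⟩
        | inv x _ a => exact ⟨inv_mem a.1, cA_inv a.1 ▸ inv_mem a.2⟩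
      obtain ⟨hn, h⟩ := key
      refine ⟨hg, (M_of_centric S.isPGroup' hF hE.1.1 hE.1.2.2.1 (M_group.2 ⟨le_rfl, fun _ => af_mem (cA hg), g,
        fun x hx => af_cA _ hx⟩) R hR.1 hR.1 hR (((mem_aut hR.1).1 h).congr fun x hx => ?_)).af_mem_aut⟩
      rw [af_cA _ (hR.1 hx), af_cA _ hx]
    | one => exact ⟨one_mem _, by rw [(cA_eq_one _).2 (one_mem _)]; exact one_mem _⟩
    | mul x y _ _ a b => exact ⟨mul_mem a.1 b.1, cA_mul a.1 b.1 ▸ mul_mem a.2 b.2⟩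
    | inv x _ a => exact ⟨inv_mem a.1, cA_inv a.1 ▸ inv_mem a.2⟩
  obtain ⟨hn, h⟩ := key
  have : α = cA hn := MulEquiv.ext fun x => Subtype.ext (by
    have := (b x x.2).trans (af_cA hn x.2).symm
    rwa [af_coe, af_coe] at this)
  exact this ▸ h

omit [Finite G] in
theorem StC.norm (h : StC S T) (hs : a ∈ S) (hx : x ∈ T) : a * x * a⁻¹ ∈ T :=
  h.2 x hx a (mul_mem (mul_mem hs (h.1 hx)) (inv_mem hs))

theorem StC.eq_of_cyc (h : StC S T) (hS : Syl 2 S ⊤) (hG : S ≤ ⁅(⊤ : Subgroup G), ⊤⁆) (hc : T ⊔ zpowers c = S) :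
    T = S := by
  have cS : c ∈ S := hc ▸ mem_sup_right (mem_zpowers c)
  haveI : (T.subgroupOf S).Normal := ⟨fun n hn g => h.norm g.2 hn⟩
  set π := QuotientGroup.mk' (T.subgroupOf S)
  have hπ : ∀ x : S, π x = 1 ↔ (x : G) ∈ T := fun x => QuotientGroup.eq_one_iff x
  have hz : ∀ x : S, π x ∈ zpowers (π ⟨c, cS⟩) := fun x => by
    have : T ⊔ zpowers c ≤ ((zpowers (π ⟨c, cS⟩)).comap π).map S.subtype := sup_le (fun t ht =>
      ⟨⟨t, h.1 ht⟩, by rw [SetLike.mem_coe, mem_comap, (hπ ⟨t, h.1 ht⟩).2 ht]; exact one_mem _, rfl⟩)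
      (zpowers_le.2 ⟨⟨c, cS⟩, mem_zpowers _, rfl⟩)
    obtain ⟨y, a, b⟩ := this (hc.ge x.2)
    rwa [show y = x from Subtype.ext b] at a
  haveI : IsCyclic (S ⧸ T.subgroupOf S) := ⟨π ⟨c, cS⟩, fun q => by
    obtain ⟨x, rfl⟩ := QuotientGroup.mk'_surjective _ q; exact hz x⟩
  obtain ⟨k, hk⟩ := IsPGroup.iff_orderOf.1 (IsPGroup.to_quotient hS.pg (T.subgroupOf S)) (π ⟨c, cS⟩)
  rcases k with _ | j
  · exact le_antisymm h.1 (hc ▸ sup_le le_rfl (zpowers_le.2 ((hπ ⟨c, cS⟩).1 (orderOf_eq_one_iff.1 hk))))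
  exfalso
  letI : CommGroup (S ⧸ T.subgroupOf S) := IsCyclic.commGroup
  set χ := (powMonoidHom (2 ^ j)).comp π
  have e1 : ∀ x : S, χ x = 1 ↔ (x : G) ^ 2 ^ j ∈ T := fun x => by
    rw [← coe_pow, ← hπ, map_pow]; rfl
  have e2 : ∀ x : S, χ x = 1 ∨ χ x = π ⟨c, cS⟩ ^ 2 ^ j := fun x => by
    refine zpowers_two (by rw [← pow_add, ← two_mul, ← pow_succ', ← hk, pow_orderOf_eq_one]) ?_
    obtain ⟨i, hi⟩ := hz x
    refine ⟨i, ?_⟩
    show (π ⟨c, cS⟩ ^ 2 ^ j) ^ i = π x ^ 2 ^ j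
    rw [← hi, ← zpow_natCast, ← zpow_natCast, ← zpow_mul, ← zpow_mul, mul_comm]
  have : ⁅(⊤ : Subgroup G), ⊤⁆ ⊓ S ≤ χ.ker.map S.subtype := hS.focal_le fun x hx u _ hu => by
    refine ⟨⟨x, hx⟩ * ⟨_, hu⟩⁻¹, ?_, rfl⟩
    rw [SetLike.mem_coe, MonoidHom.mem_ker, map_mul, map_inv, mul_inv_eq_one]
    have e3 : χ ⟨x, hx⟩ = 1 ↔ χ ⟨_, hu⟩ = 1 := by
      rw [e1, e1]
      refine ⟨fun k => ?_, fun k => ?_⟩
      · simpa only [conj_pow] using h.2 _ k u (by simpa only [conj_pow] using pow_mem hu (2 ^ j))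
      · have e : u⁻¹ * (u * x * u⁻¹) ^ 2 ^ j * u⁻¹⁻¹ = x ^ 2 ^ j := by rw [conj_pow]; group
        exact e ▸ h.2 _ k u⁻¹ (e ▸ pow_mem hx (2 ^ j))
    rcases e2 ⟨x, hx⟩ with a | a <;> rcases e2 ⟨_, hu⟩ with b | b
    · rw [a, b]
    · rw [a, e3.1 a]
    · rw [b, e3.2 b]
    · rw [a, b]
  obtain ⟨y, a, b⟩ := this ⟨hG cS, cS⟩
  rw [show y = ⟨c, cS⟩ from Subtype.ext b] at a
  have : π ⟨c, cS⟩ ^ 2 ^ j = 1 := a
  have := Nat.le_of_dvd (by positivity) (orderOf_dvd_of_pow_eq_one this)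
  rw [hk, pow_succ] at this
  have : 0 < 2 ^ j := by positivity
  omega

theorem simple_two (S : Sylow 2 G) (hG : (S : Subgroup G) ≤ ⁅(⊤ : Subgroup G), ⊤⁆) (h1 : (S : Subgroup G) ≠ ⊥)
    (hi : ∀ s t : G, orderOf s = 2 → orderOf t = 2 → IsConj s t)
    (hc : ∀ T ≤ (S : Subgroup G), (∀ t ∈ (S : Subgroup G), orderOf t = 2 → t ∈ T) → T ⊔ zpowers c = S)
    (ha : ∀ g ∈ N[(S : Subgroup G)], Odd (orderOf g) → g ∈ C[(S : Subgroup G)]) :
    (groupFusionSystem (S : Subgroup G)).IsSimple 2 := by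
  have hS : Syl 2 (S : Subgroup G) ⊤ := syl_top S
  refine gsimple S h1 (fun T hT => or_iff_not_imp_left.2 fun h0 => hT.eq_of_cyc hS hG (hc T hT.1 fun t ht h2 => ?_))
    fun g hg => ?_
  · obtain ⟨s, hs⟩ := exists_prime_orderOf_dvd_card' 2 (dvd_card_of_pgroup (hS.pg.to_le hT.1) h0)
    obtain ⟨u, rfl⟩ := isConj_iff.1 (hi s t ((orderOf_coe s).trans hs) h2)
    exact hT.2 _ s.2 u ht
  · obtain ⟨s, hs, e⟩ := conj_eq_of_odd' (hS.mono le_normalizer le_top) ha hg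
    have h3 : s⁻¹ * g ∈ C[(S : Subgroup G)] := fun x hx => by
      have := e x hx
      calc x * (s⁻¹ * g) = s⁻¹ * (s * x * s⁻¹) * g := by group
        _ = s⁻¹ * g * x := by rw [← this]; group
    rw [show g = s * (s⁻¹ * g) by group]
    refine mul_mem (subset_closure ⟨le_normalizer hs, Or.inr ⟨S, centric_top, subset_closure ⟨le_normalizer hs, ?_⟩⟩⟩)
      (subset_closure ⟨centralizer_le_normalizer _ h3, Or.inl h3⟩)
    obtain ⟨k, hk⟩ := S.isPGroup' ⟨s, hs⟩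
    exact ⟨k, congrArg Subtype.val hk⟩

theorem mc_both (h : MC S a b m) (hm : NQ S a m) (hS : Syl 2 S ⊤) (hG : S ≤ ⁅(⊤ : Subgroup G), ⊤⁆) :
    Fz a b ∧ Fz a (a * b) := by
  have key : ∀ u ∈ S, u ∉ zpowers a → ∀ v ∈ S, v ∉ zpowers a →
      (∀ x ∈ S, x ∉ zpowers a → x * u⁻¹ ∈ zpowers (a ^ 2) ∨ x * v⁻¹ ∈ zpowers (a ^ 2)) → Fz a v :=
    fun u u1 u2 v v1 v2 h0 => by
      by_contra hv
      have h1 := mc_foc_le h hm hS (K := zpowers (a ^ 2) ⊔ zpowers u) le_sup_left fun x x1 x2 x3 => by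
        rcases h0 x x1 x2 with e | e
        · simpa using mul_mem (mem_sup_left e) (mem_sup_right (mem_zpowers u))
        · exact absurd ((Fz.congr (mc_isConj h v1 v2 e)).2 x3) hv
      have h2 := (mc_max h u1 u2).2
      rw [relIndex_eq_one.2 ((le_inf hG le_rfl).trans h1)] at h2
      omega
  exact ⟨key _ (mc_ab h).1 (mc_ab h).2 _ h.bmem h.nmem fun x x1 x2 => (mc_out_cases h x1 x2).symm,
    key _ h.bmem h.nmem _ (mc_ab h).1 (mc_ab h).2 fun x x1 x2 => mc_out_cases h x1 x2⟩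

theorem mc_simple (S : Sylow 2 G) (h : MC (S : Subgroup G) a b m) (hm : NQ (S : Subgroup G) a m)
    (hG : (S : Subgroup G) ≤ ⁅(⊤ : Subgroup G), ⊤⁆) (hb : orderOf b = 2)
    (hi : ∀ t : G, orderOf t = 2 → IsConj (a ^ 2 ^ m) t) : (groupFusionSystem (S : Subgroup G)).IsSimple 2 := by
  refine simple_two S (c := a) hG (fun e => h.nmem ?_) (fun s t hs ht => (hi s hs).symm.trans (hi t ht))
    (fun T hT h1 => le_antisymm (sup_le hT (zpowers_le.2 h.amem)) ?_) ((mc_aut h hm le_rfl).resolve_right fun e =>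
      mc_a_nmem h (e ⟨h.amem, mem_zpowers a⟩))
  · rw [mem_bot.1 (e.le h.bmem)]; exact one_mem _
  · rw [← h.sup, sup_comm]
    exact sup_le_sup_right (zpowers_le.2 (h1 b h.bmem hb)) _

theorem SD.simple (S : Sylow 2 G) (h : SD (S : Subgroup G) a b m) (hG : (S : Subgroup G) ≤ ⁅(⊤ : Subgroup G), ⊤⁆) :
    (groupFusionSystem (S : Subgroup G)).IsSimple 2 :=
  mc_simple S h.toMC h.nq hG h.ord_b fun t ht => (h.all2 (syl_top S) t ht).elim id fun e =>
    ((mc_fz_iff h.toMC h.ord_b).1 (mc_both h.toMC h.nq (syl_top S) hG).1).trans e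

theorem DH.simple (S : Sylow 2 G) (h : DH (S : Subgroup G) a b m) (hG : (S : Subgroup G) ≤ ⁅(⊤ : Subgroup G), ⊤⁆) :
    (groupFusionSystem (S : Subgroup G)).IsSimple 2 := by
  have hb := h.ord2 h.bmem h.nmem
  have k := mc_both h.toMC h.nq (syl_top S) hG
  refine mc_simple S h.toMC h.nq hG hb fun t ht => ?_
  rcases h.all2 (syl_top S) t ht with e | e | e
  · exact e
  · exact ((mc_fz_iff h.toMC hb).1 k.1).trans e
  · exact ((mc_fz_iff h.toMC (h.ord2 (mc_ab h.toMC).1 (mc_ab h.toMC).2)).1 k.2).trans e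

theorem WR.simple (S : Sylow 2 G) (h : WR (S : Subgroup G) x y z m) (hG : (S : Subgroup G) ≤ ⁅(⊤ : Subgroup G), ⊤⁆) :
    (groupFusionSystem (S : Subgroup G)).IsSimple 2 := by
  obtain ⟨⟨n, -, h1⟩, n', -, h2⟩ := h.both (syl_top S) (no_index_two (syl_top S) hG)
  have hi : ∀ t : G, orderOf t = 2 → IsConj (x ^ 2 ^ m * y ^ 2 ^ m) t := fun t ht => by
    have e1 := isConj_iff.2 ⟨n, h1⟩
    rcases h.all2 (syl_top S) t ht with e | e | e
    · exact e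
    · exact e1.trans e
    · exact (e1.trans (isConj_iff.2 ⟨n', h2⟩)).trans e
  refine simple_two S (c := x) hG (fun e => h.zU ?_) (fun s t hs ht => (hi s hs).symm.trans (hi t ht))
    (fun T hT h1 => le_antisymm (sup_le hT (zpowers_le.2 (h.US h.xU))) ?_) fun g hg ho => by_contra fun e => ?_
  · rw [mem_bot.1 (e.le h.zS)]; exact one_mem _
  · have hz : z ∈ T ⊔ zpowers x := mem_sup_left (h1 z h.zS h.ord_z)
    have hx : x ∈ T ⊔ zpowers x := mem_sup_right (mem_zpowers x)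
    rw [← h.sup]
    exact sup_le (sup_le (zpowers_le.2 hx) (zpowers_le.2 (h.cx ▸ mul_mem (mul_mem hz hx) (inv_mem hz))))
      (zpowers_le.2 hz)
  · rcases h.cent_cases le_rfl inf_le_left hg ho e with k | ⟨Q, w, u, k1, k2, k3⟩
    · exact h.zU (k ▸ h.zS)
    · exact h.V_ne k1 k2 k3.symm

theorem exists_conj_sylow [Fact p.Prime] {P : Subgroup G} {n : ℕ} (h : o[P] = p ^ n) (hc : ¬ p ^ (n + 1) ∣ Nat.card G)
    (S : Sylow p G) : ∃ g : G, P.map (MulAut.conj g).toMonoidHom = S := by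
  obtain ⟨Q, hQ⟩ := (IsPGroup.of_card h).exists_le_sylow
  obtain ⟨k, hk⟩ := IsPGroup.iff_card.1 Q.isPGroup'
  have e : P = Q := eq_of_le_of_card_ge hQ (by
    rw [h, hk]
    refine Nat.pow_le_pow_right (Fact.out : p.Prime).pos (by_contra fun e => hc ?_)
    exact (pow_dvd_pow p (by omega)).trans (hk ▸ card_subgroup_dvd_card (Q : Subgroup G)))
  obtain ⟨g, rfl⟩ := MulAction.exists_smul_eq G Q S
  exact ⟨g, e ▸ rfl⟩

omit [Finite G] in
theorem cy2_of (ha : orderOf a = 2 ^ (m + 1)) (hb : b * b = 1) (h1 : b * a * b⁻¹ ∈ zpowers a) (h2 : b * a * b⁻¹ ≠ a) :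
    Cy2 (zpowers a ⊔ zpowers b) a b m := by
  have e : b⁻¹ = b := inv_eq_of_mul_eq_one_right hb
  refine ⟨ha, ?_, rfl, by rw [sq, hb]; exact one_mem _, ?_⟩
  · rintro ⟨i, rfl⟩
    exact h2 (by group)
  · have k : ∀ x ∈ zpowers a, b * x * b⁻¹ ∈ zpowers a := by
      rintro _ ⟨i, rfl⟩
      simpa only [conj_zpow] using zpow_mem h1 i
    refine mem_normalizer_iff.2 fun x => ⟨k x, fun h => ?_⟩
    have := k _ h
    rwa [show b * (b * x * b⁻¹) * b⁻¹ = (b * b) * x * (b * b)⁻¹ by group, hb, one_mul, inv_one, mul_one] at this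

theorem sd_simple (hG : ⁅(⊤ : Subgroup G), (⊤ : Subgroup G)⁆ = ⊤) (hm : 2 ≤ m) (ha : orderOf a = 2 ^ (m + 1)) (hb : b * b = 1)
    (hr : b * a * b⁻¹ = a⁻¹ * a ^ 2 ^ m) (hc : ¬ 2 ^ (m + 3) ∣ Nat.card G) (S : Sylow 2 G) :
    (groupFusionSystem (S : Subgroup G)).IsSimple 2 := by
  have h : Cy2 (zpowers a ⊔ zpowers b) a b m := cy2_of ha hb
    (hr ▸ mul_mem (inv_mem (mem_zpowers a)) (pow_mem (mem_zpowers a) _)) fun e => by
      have : a ^ 2 ^ m = a ^ 2 := by rw [sq]; exact inv_mul_eq_iff_eq_mul.1 (hr.symm.trans e)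
      have h4 : 2 ^ 2 ≤ 2 ^ m := Nat.pow_le_pow_right two_pos hm
      have := pow_injOn_Iio_orderOf (x := a) (by simp [ha, pow_succ]) (by simp only [ha, pow_succ, Set.mem_Iio]; omega) this
      omega
  obtain ⟨g, hg⟩ := exists_conj_sylow h.card hc S
  have k : MC _ a b m := ⟨h, by omega, Or.inr (Or.inr ⟨hm, by rw [sq, hb], hr⟩)⟩
  have k' := k.map (f := (MulAut.conj g).toMonoidHom) (MulAut.conj g).injective
  rw [hg] at k'
  refine SD.simple S ⟨k', hm, by rw [← map_mul, hb, map_one], ?_⟩ (le_top.trans hG.ge)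
  rw [← map_mul, ← map_mul, ← map_pow]
  congr 1
  calc a * b * (a * b) = a * (b * a * b⁻¹) * (b * b) := by group
    _ = _ := by rw [hr, hb]; group

theorem dh_simple (hG : ⁅(⊤ : Subgroup G), (⊤ : Subgroup G)⁆ = ⊤) (hm : 1 ≤ m) (ha : orderOf a = 2 ^ (m + 1)) (hb : b * b = 1)
    (hr : b * a * b⁻¹ = a⁻¹) (hc : ¬ 2 ^ (m + 3) ∣ Nat.card G) (S : Sylow 2 G) :
    (groupFusionSystem (S : Subgroup G)).IsSimple 2 := by
  have h : Cy2 (zpowers a ⊔ zpowers b) a b m := cy2_of ha hb (hr ▸ inv_mem (mem_zpowers a)) fun e => by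
    have : a ^ 2 = 1 := by rw [sq]; exact mul_eq_one_iff_eq_inv.2 (e.symm.trans hr)
    have := Nat.le_of_dvd two_pos (orderOf_dvd_of_pow_eq_one this)
    have h4 : 2 ^ 1 ≤ 2 ^ m := Nat.pow_le_pow_right two_pos hm
    rw [ha, pow_succ] at this
    omega
  obtain ⟨g, hg⟩ := exists_conj_sylow h.card hc S
  have k' := h.map (f := (MulAut.conj g).toMonoidHom) (MulAut.conj g).injective
  rw [hg] at k'
  obtain ⟨e⟩ := k'.dihedral (by rw [← map_pow, sq, hb, map_one])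
    (by rw [← map_inv, ← map_mul, ← map_mul, hr, map_inv])
  rcases dh_of S.isPGroup' (Nat.one_lt_two_pow (by omega)) e with k | ⟨a', b', m', k⟩
  · have := k'.card
    rw [k.1, show 4 = 2 ^ 2 from rfl] at this
    have := Nat.pow_right_injective le_rfl this
    omega
  · exact k.simple S (le_top.trans hG.ge)

theorem wr_simple (hG : ⁅(⊤ : Subgroup G), (⊤ : Subgroup G)⁆ = ⊤) (hm : 1 ≤ m) (hx : orderOf x = 2 ^ (m + 1))
    (h1 : x * y = y * x) (h2 : zpowers x ⊓ zpowers y = ⊥) (h3 : z * z = 1) (h4 : z * x * z⁻¹ = y)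
    (hc : ¬ 2 ^ (2 * (m + 1) + 2) ∣ Nat.card G) (S : Sylow 2 G) :
    (groupFusionSystem (S : Subgroup G)).IsSimple 2 := by
  have h : WR _ x y z m := ⟨hm, hx, h1, h2, h3, h4, rfl⟩
  obtain ⟨g, hg⟩ := exists_conj_sylow h.card hc S
  have k' := h.map (f := (MulAut.conj g).toMonoidHom) (MulAut.conj g).injective
  rw [hg] at k'
  exact k'.simple S (le_top.trans hG.ge)

omit [Finite G] in
theorem eq_one_of_ker {G' : Type*} [Group G'] {f : G →* G'} {n k : ℕ} (hn : Odd n) (hf : ∀ x, f x = 1 → x ^ n = 1)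
    (h : x ^ 2 ^ k = 1) (h1 : f x = 1) : x = 1 :=
  orderOf_eq_one_iff.1 (Nat.eq_one_of_dvd_coprimes ((Nat.coprime_two_left.2 hn).pow_left k)
    (orderOf_dvd_of_pow_eq_one h) (orderOf_dvd_of_pow_eq_one (hf x h1)))

omit [Finite G] in
theorem ord_of_ker {G' : Type*} [Group G'] {f : G →* G'} {n k : ℕ} (hn : Odd n) (hf : ∀ x, f x = 1 → x ^ n = 1)
    (h : orderOf x = 2 ^ k) : orderOf (f x) = 2 ^ k := by
  refine Nat.dvd_antisymm (h ▸ orderOf_map_dvd f x) (h ▸ orderOf_dvd_of_pow_eq_one (eq_one_of_ker (k := k) hn hf ?_ ?_))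
  · rw [← pow_mul, mul_comm, pow_mul, ← h, pow_orderOf_eq_one, one_pow]
  · rw [map_pow, pow_orderOf_eq_one]

theorem sd_simple' {H : Type*} [Group H] {f : H →* G} {n : ℕ} {a b : H} (hn : Odd n) (hf : ∀ x, f x = 1 → x ^ n = 1)
    (hG : ⁅(⊤ : Subgroup G), (⊤ : Subgroup G)⁆ = ⊤) (hm : 2 ≤ m) (ha : orderOf a = 2 ^ (m + 1)) (hb : b * b = 1)
    (hr : b * a * b⁻¹ = a⁻¹ * a ^ 2 ^ m) (hc : ¬ 2 ^ (m + 3) ∣ Nat.card G) (S : Sylow 2 G) :
    (groupFusionSystem (S : Subgroup G)).IsSimple 2 :=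
  sd_simple hG hm (ord_of_ker hn hf ha) (b := f b) (by rw [← map_mul, hb, map_one])
    (by simpa using congrArg f hr) hc S

theorem wr_simple' {H : Type*} [Group H] {f : H →* G} {n : ℕ} {x y z : H} (hn : Odd n) (hf : ∀ x, f x = 1 → x ^ n = 1)
    (hG : ⁅(⊤ : Subgroup G), (⊤ : Subgroup G)⁆ = ⊤) (hm : 1 ≤ m) (hx : orderOf x = 2 ^ (m + 1))
    (h1 : x * y = y * x) (h2 : ∀ i j : ℕ, x ^ i = y ^ j → x ^ i = 1) (h3 : z * z = 1) (h4 : z * x * z⁻¹ = y)
    (hc : ¬ 2 ^ (2 * (m + 1) + 2) ∣ Nat.card G) (S : Sylow 2 G) :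
    (groupFusionSystem (S : Subgroup G)).IsSimple 2 := by
  refine wr_simple hG hm (ord_of_ker hn hf hx) (y := f y) (z := f z) (by rw [← map_mul, h1, map_mul]) ?_
    (by rw [← map_mul, h3, map_one]) (by simpa using congrArg f h4) hc S
  refine eq_bot_iff.2 ?_
  rintro _ ⟨a, b⟩
  obtain ⟨i, rfl⟩ := mem_powers_iff_mem_zpowers.2 a
  obtain ⟨j, hj⟩ := mem_powers_iff_mem_zpowers.2 b
  have e1 : x ^ 2 ^ (m + 1) = 1 := hx ▸ pow_orderOf_eq_one x
  have e2 : y ^ 2 ^ (m + 1) = 1 := by rw [← h4, conj_pow, e1]; group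
  have e3 : x ^ i * (y ^ j)⁻¹ = 1 := eq_one_of_ker (k := m + 1) hn hf (by
    rw [(((show Commute x y from h1).pow_pow i j).inv_right).mul_pow, inv_pow, ← pow_mul, ← pow_mul, mul_comm i,
      mul_comm j, pow_mul, pow_mul, e1, e2]
    simp) (by rw [map_mul, map_inv, map_pow, map_pow, mul_inv_eq_one]; exact hj.symm)
  show f x ^ i ∈ (⊥ : Subgroup G)
  rw [← map_pow, h2 i j (mul_inv_eq_one.1 e3), map_one]
  exact one_mem _

omit [Finite G] in
theorem perfect_of_simple [IsSimpleGroup G] (h : a * b ≠ b * a) : ⁅(⊤ : Subgroup G), (⊤ : Subgroup G)⁆ = ⊤ :=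
  ((inferInstance : (commutator G).Normal).eq_bot_or_eq_top).resolve_left fun e => h (commutatorElement_eq_one_iff_mul_comm.1
    (mem_bot.1 (e ▸ commutator_mem_commutator (mem_top a) (mem_top b))))

end CfsgL0
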