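import Cfsg.Agent.L0.FS1
import Cfsg.Agent.L0.GLn4
import Cfsg.Agent.H5.Unit2

/-! Sylow `2`-subgroups of three-dimensional linear and unitary groups. -/

namespace CfsgL0
open Function Subgroup Cfsg Matrix

variable {G H : Type*} [Group G] [Finite G] [Group H] {K : Type*} [Field K] {f : H →* G} {n m : ℕ}
  {ι : H →* Matrix (Fin 3) (Fin 3) K}

theorem sd_mat (hι : Injective ι) (hn : Odd n) (hf : ∀ x, f x = 1 → x ^ n = 1)
    (hG : ⁅(⊤ : Subgroup G), (⊤ : Subgroup G)⁆ = ⊤) (hm : 2 ≤ m) (h2 : (2 : K) ≠ 0) {a b : H} {s u β γ : K}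
    (ha : ι a = !![s, β, 0; γ, s, 0; 0, 0, -1]) (hb : ι b = !![1, 0, 0; 0, -1, 0; 0, 0, -1])
    (h1 : u ^ 2 = s ^ 2 + 1) (h3 : β * γ = u ^ 2) (h4 : (s + u) ^ 2 ^ m = -1) (hc : ¬ 2 ^ (m + 3) ∣ Nat.card G)
    (S : Sylow 2 G) : (groupFusionSystem (S : Subgroup G)).IsSimple 2 := by
  obtain ⟨k, rfl⟩ := Nat.exists_eq_add_of_le' hm
  have n1 : (-1 : K) ≠ 1 := fun e => h2 (by linear_combination -e)
  have ev : Even (2 ^ (k + 2)) := by simp [Nat.even_pow]
  have hu : u ≠ 0 := by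
    rintro rfl
    have : s ^ 4 = 1 := by linear_combination (1 - s ^ 2) * h1
    rw [add_zero, pow_add, mul_comm, pow_mul, show 2 ^ 2 = 4 from rfl, this, one_pow] at h4
    exact n1 h4.symm
  have hβ : β ≠ 0 := by
    rintro rfl
    exact pow_ne_zero 2 hu (by rw [← h3, zero_mul])
  have h5 : (s - u) ^ 2 ^ (k + 2) = -1 := by
    have : ((s + u) * (s - u)) ^ 2 ^ (k + 2) = 1 := by
      rw [show (s + u) * (s - u) = -1 by linear_combination -h1, ev.neg_one_pow]
    rw [mul_pow, h4] at this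
    linear_combination -this
  set P : Matrix (Fin 3) (Fin 3) K := !![β, β, 0; u, -u, 0; 0, 0, 1]
  have hP : IsUnit P.det := by
    have : P.det = -(2 * β * u) := by simp [P, det_fin_three]; ring
    rw [this]
    exact (neg_ne_zero.2 (mul_ne_zero (mul_ne_zero h2 hβ) hu)).isUnit
  have e1 : SemiconjBy P (diagonal ![s + u, s - u, -1]) (ι a) := by
    rw [ha, SemiconjBy]
    ext i j
    fin_cases i <;> fin_cases j <;> simp [P, mul_diagonal, mul_apply, Fin.sum_univ_three] <;>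
      first | ring1 | linear_combination -h3
  have e2 : ι (a ^ 2 ^ (k + 2)) = !![-1, 0, 0; 0, -1, 0; 0, 0, 1] := by
    have := (e1.pow_right (2 ^ (k + 2))).eq
    rw [diagonal_pow, ← map_pow] at this
    refine (isUnit_iff_isUnit_det P |>.2 hP).mul_right_cancel (this ▸ ?_)
    ext i j
    fin_cases i <;> fin_cases j <;> simp [P, mul_diagonal, mul_apply, Fin.sum_univ_three, h4, h5, ev.neg_one_pow]
  have e3 : b * b = 1 := hι (by
    rw [map_mul, hb, map_one]
    ext i j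
    fin_cases i <;> fin_cases j <;> simp [mul_apply, Fin.sum_univ_three])
  refine sd_simple' (a := a) (b := b) hn hf hG hm (orderOf_eq_prime_pow (fun e => ?_) (hι ?_)) e3 ?_ hc S
  · rw [e, map_one] at e2
    simpa [n1.symm] using congrFun (congrFun e2 0) 0
  · rw [pow_succ, pow_mul, sq, map_mul, e2, map_one]
    ext i j
    fin_cases i <;> fin_cases j <;> simp [mul_apply, Fin.sum_univ_three]
  · rw [inv_eq_of_mul_eq_one_right e3, eq_inv_mul_iff_mul_eq]
    refine hι ?_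
    rw [e2, map_mul, map_mul, map_mul, ha, hb]
    ext i j
    fin_cases i <;> fin_cases j <;> simp [mul_apply, Fin.sum_univ_three] <;>
      first | ring1 | linear_combination -h3 - h1

theorem wr_mat (hι : Injective ι) (hn : Odd n) (hf : ∀ x, f x = 1 → x ^ n = 1)
    (hG : ⁅(⊤ : Subgroup G), (⊤ : Subgroup G)⁆ = ⊤) (hm : 1 ≤ m) {x y z : H} {ζ : K}
    (hx : ι x = diagonal ![ζ, 1, ζ⁻¹]) (hy : ι y = diagonal ![1, ζ, ζ⁻¹]) (hz : ι z = !![0, 1, 0; 1, 0, 0; 0, 0, -1])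
    (h1 : orderOf ζ = 2 ^ (m + 1)) (hc : ¬ 2 ^ (2 * (m + 1) + 2) ∣ Nat.card G)
    (S : Sylow 2 G) : (groupFusionSystem (S : Subgroup G)).IsSimple 2 := by
  have e1 : ∀ i, x ^ i = 1 ↔ ζ ^ i = 1 := fun i => by
    rw [← hι.eq_iff, map_pow, hx, map_one, diagonal_pow]
    refine ⟨fun e => by simpa using congrFun (congrFun e 0) 0, fun e => ?_⟩
    rw [← diagonal_one]
    congr 1
    ext j
    fin_cases j <;> simp [e]
  have e3 : z * z = 1 := hι (by
    rw [map_mul, hz, map_one]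
    ext i j
    fin_cases i <;> fin_cases j <;> simp [mul_apply, Fin.sum_univ_three])
  refine wr_simple' (y := y) (z := z) hn hf hG hm ((orderOf_eq_orderOf_iff.2 e1).trans h1) (hι ?_)
    (fun i j e => (e1 i).2 ?_) e3 ?_ hc S
  · rw [map_mul, map_mul, hx, hy, diagonal_mul_diagonal, diagonal_mul_diagonal]
    simp only [mul_comm]
  · have := congrArg ι e
    rw [map_pow, map_pow, hx, hy, diagonal_pow, diagonal_pow] at this
    simpa using congrFun (congrFun this 0) 0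
  · rw [inv_eq_of_mul_eq_one_right e3]
    refine hι ?_
    rw [map_mul, map_mul, hx, hy, hz]
    ext i j
    fin_cases i <;> fin_cases j <;> simp [mul_apply, Fin.sum_univ_three, diagonal, vecHead, vecTail]

theorem two_part {A : ℕ} (hA : A ≠ 0) (h : A % 4 = 0) : ∃ m r, 1 ≤ m ∧ Odd r ∧ A = 2 ^ (m + 1) * r := by
  obtain ⟨k, r, hr, rfl⟩ := Nat.exists_eq_two_pow_mul_odd hA
  rcases k with _ | _ | k
  · obtain ⟨r, rfl⟩ := hr; omega
  · obtain ⟨r, rfl⟩ := hr; omega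
  · exact ⟨k + 1, r, by omega, hr, rfl⟩

theorem not_two_pow_dvd {N k r : ℕ} (h : N ∣ 2 ^ k * r) (hr : Odd r) : ¬ 2 ^ (k + 1) ∣ N := fun e => by
  have := e.trans h
  rw [pow_succ, Nat.mul_dvd_mul_iff_left (by positivity)] at this
  exact hr.not_two_dvd_nat this

theorem half_pow {ω : K} (h : orderOf ω = 2 ^ (m + 1)) : ω ^ 2 ^ m = -1 := by
  have : ω ^ 2 ^ m * ω ^ 2 ^ m = 1 := by rw [← pow_add, ← two_mul, ← pow_succ', ← h, pow_orderOf_eq_one]
  refine (mul_self_eq_one_iff.1 this).resolve_left fun e => ?_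
  have := Nat.le_of_dvd (by positivity) (orderOf_dvd_of_pow_eq_one e)
  have : 0 < 2 ^ m := by positivity
  rw [h, pow_succ] at *
  omega

theorem mem_SU_of {F : Type*} [Field F] {σ : F →+* F} {q n : ℕ} (hσ : ∀ x, σ x = x ^ q) {g : SpecialLinearGroup (Fin n) F}
    (h : g.1ᵀ * g.1.map σ = 1) : g ∈ SU n F q := fun u v => by
  have e : ∀ u v, hermForm n F q u v = u ⬝ᵥ (σ ∘ v) := fun u v => by simp [hermForm, dotProduct, hσ]
  rw [e, e]
  show (g.1 *ᵥ u) ⬝ᵥ (σ ∘ (g.1 *ᵥ v)) = _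
  rw [show σ ∘ (g.1 *ᵥ v) = g.1.map σ *ᵥ (σ ∘ v) from funext fun i => RingHom.map_mulVec σ _ _ i, ← vecMul_transpose,
    dotProduct_mulVec, vecMul_vecMul, h, vecMul_one]

end CfsgL0
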