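import Cfsg.Agent.L0.FS1
import Cfsg.Agent.H5.SLBasic

/-! Transfer of simplicity of fusion systems; unitriangular subgroups of `SL_n`. -/

namespace CfsgL0
open Function Subgroup Cfsg CfsgH2 Matrix

section
variable {G : Type*} [Group G] [Finite G] {p : ℕ} [Fact p.Prime]

omit [Finite G] [Fact p.Prime] in
theorem centric_of {S R : Subgroup G} (hS : IsPGroup p S) (h3 : R ≤ S)
    (h4 : ∀ x ∈ C[R], (∃ k, x ^ p ^ k = 1) → x ∈ R) : (groupFusionSystem S).IsCentric R := ⟨h3, by
  rintro Q ⟨φ, ⟨-, -, g, hg⟩, rfl⟩ x hx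
  have : g⁻¹ * x * g ∈ R := h4 _ (fun y hy => by
    have := hx.2 _ ⟨⟨y, hy⟩, rfl⟩
    rw [hg] at this
    calc y * (g⁻¹ * x * g) = g⁻¹ * (g * y * g⁻¹ * x) * g := by group
      _ = g⁻¹ * x * g * y := by rw [this]; group) (by
    obtain ⟨k, hk⟩ := hS ⟨x, hx.1⟩
    refine ⟨k, ?_⟩
    have e : x ^ p ^ k = 1 := congrArg Subtype.val hk
    simpa [e] using conj_pow (i := p ^ k) (a := g⁻¹) (b := x))
  exact ⟨⟨_, this⟩, by rw [hg]; group⟩⟩

theorem simple_map {L : Type*} [Group L] [Finite L] (U : Sylow p L)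
    (h : (groupFusionSystem (U : Subgroup L)).IsSimple p) (π : L →* G) (hπ : Surjective π)
    (hk : ∀ x ∈ (U : Subgroup L), π x = 1 → x = 1) (S : Sylow p G) :
    (groupFusionSystem (S : Subgroup G)).IsSimple p := by
  obtain ⟨g, rfl⟩ := MulAction.exists_smul_eq G (U.mapSurjective hπ) S
  set ρ := (MulAut.conj g).toMonoidHom.comp π
  have hρ : Surjective ρ := (MulAut.conj g).surjective.comp hπ
  have h1 := real_smor_quot (p := p) (group_real (U : Subgroup L)) (by rw [range_subtype]; exact syl_top U) ρ hρ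
  have e : (ρ.comp (U : Subgroup L).subtype).range = (g • U.mapSurjective hπ : Sylow p G) := by
    rw [MonoidHom.range_comp, range_subtype, ← Subgroup.map_map]; rfl
  rw [e] at h1
  obtain ⟨θ, a, b, -⟩ := h1.exists_inv ((injective_iff_map_eq_one _).2 fun x hx => Subtype.ext (hk x x.2
    ((MulAut.conj g).injective (hx.trans (map_one _).symm))))
  exact a.simple b (Sylow.isPGroup' _) h

end

namespace Uni
variable {K : Type*} [Field K] {ι : Type*} [Fintype ι] [DecidableEq ι] {P Q R : ι → ι → Prop} {M N : Matrix ι ι K}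

/-- supported on `P` -/
def Sp (P : ι → ι → Prop) (M : Matrix ι ι K) : Prop := ∀ i j, ¬ P i j → M i j = 0

omit [DecidableEq ι] in
theorem Sp.mul (h : Sp P M) (h' : Sp Q N) (e : ∀ i j k, P i j → Q j k → R i k) : Sp R (M * N) := fun i k hk => by
  rw [mul_apply]
  refine Finset.sum_eq_zero fun j _ => ?_
  by_cases a : P i j
  · rw [h' j k fun b => hk (e i j k a b), mul_zero]
  · rw [h i j a, zero_mul]

omit [Fintype ι] [DecidableEq ι] in
theorem Sp.add (h : Sp P M) (h' : Sp P N) : Sp P (M + N) := fun i j k => by rw [Matrix.add_apply, h i j k, h' i j k, add_zero]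

omit [Fintype ι] [DecidableEq ι] in
theorem Sp.mono (h : Sp P M) (e : ∀ i j, P i j → Q i j) : Sp Q M := fun i j k => h i j fun a => k (e i j a)

omit [Fintype ι] in
theorem sp_single {a b : ι} (h : P a b) (c : K) : Sp P (single a b c) := fun i j k => by
  rw [single_apply, if_neg]
  rintro ⟨rfl, rfl⟩
  exact k h

omit [Fintype ι] in
theorem sp_diag (d : ι → K) : Sp (· = ·) (diagonal d) := fun _ _ k => diagonal_apply_ne d k

variable [Finite K] {hP : ∀ i j k, P i j → P j k → P i k} {g x : SpecialLinearGroup ι K} {a b : ι}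

/-- pattern submonoid -/
def patM (K : Type*) [Field K] (P : ι → ι → Prop) (hP : ∀ i j k, P i j → P j k → P i k) :
    Submonoid (SpecialLinearGroup ι K) where
  carrier := {g | Sp P (g.1 - 1)}
  mul_mem' {a b} ha hb := by
    have : (a * b).1 - 1 = (a.1 - 1) * (b.1 - 1) + (a.1 - 1) + (b.1 - 1) := by
      rw [Matrix.SpecialLinearGroup.coe_mul]; noncomm_ring
    rw [Set.mem_setOf_eq, this]
    exact ((ha.mul hb hP).add ha).add hb
  one_mem' i j _ := by simp

/-- pattern subgroup -/
def pat (K : Type*) [Field K] [Finite K] (P : ι → ι → Prop) (hP : ∀ i j k, P i j → P j k → P i k) :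
    Subgroup (SpecialLinearGroup ι K) where
  toSubmonoid := patM K P hP
  inv_mem' {a} ha := by
    rw [← one_mul a⁻¹, ← pow_one a, ← pow_orderOf_eq_one a, ← pow_sub a (orderOf_pos a)]
    exact pow_mem (S := patM K P hP) ha _

theorem mem_pat : g ∈ pat K P hP ↔ Sp P (g.1 - 1) := Iff.rfl

theorem tv_mem (h : a ≠ b) (c : K) (k : P a b) : SpecialLinearGroup.transvection h c ∈ pat K P hP := by
  rw [mem_pat, SpecialLinearGroup.transvection_coe, add_sub_cancel_left]
  exact sp_single k c

theorem mem_norm (h1 : Sp Q g.1) (h2 : Sp Q g⁻¹.1) (e1 : ∀ i j k, Q i j → P j k → P i k)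
    (e2 : ∀ i j k, P i j → Q j k → P i k) : g ∈ N[pat K P hP] := mem_normalizer_fintype fun u hu => by
  have : (g * u * g⁻¹).1 - 1 = g.1 * (u.1 - 1) * g⁻¹.1 := by
    rw [mul_sub, sub_mul, mul_one, ← Matrix.SpecialLinearGroup.coe_mul g g⁻¹, mul_inv_cancel]; rfl
  rw [SetLike.mem_coe, mem_pat, this]
  exact (h1.mul hu e1).mul h2 e2

theorem tv_norm (h : a ≠ b) (c : K) (e1 : ∀ k, P b k → P a k) (e2 : ∀ i, P i a → P i b) :
    SpecialLinearGroup.transvection h c ∈ N[pat K P hP] := by
  have k : ∀ c : K, Sp (fun i j => i = j ∨ i = a ∧ j = b) (SpecialLinearGroup.transvection h c).1 := fun c =>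
    ((sp_diag fun _ => 1).mono fun _ _ => Or.inl).add (sp_single (P := fun i j => i = j ∨ i = a ∧ j = b) (Or.inr ⟨rfl, rfl⟩) c)
  refine mem_norm (k c) (SpecialLinearGroup.transvection_inv h c ▸ k _) ?_ ?_
  · rintro i j l (rfl | ⟨rfl, rfl⟩) e
    exacts [e, e1 l e]
  · rintro i j l e (rfl | ⟨rfl, rfl⟩)
    exacts [e, e2 i e]

theorem diag_norm {d : ι → K} (h : g.1 = diagonal d) : g ∈ N[pat K P hP] := by
  have h1 : g ∈ pat K (· = ·) fun _ _ _ => Eq.trans := fun i j k => by simp [h, k]
  have k : ∀ g ∈ pat K (· = ·) fun _ _ _ => Eq.trans, Sp (· = ·) (g : SpecialLinearGroup ι K).1 := fun g h i j k => by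
    simpa [k] using h i j k
  refine mem_norm (k _ h1) (k _ (inv_mem h1)) ?_ ?_
  · rintro i j k rfl e; exact e
  · rintro i j k e rfl; exact e

omit [Finite K] in
theorem comm_tv (h : a ≠ b) (e : SpecialLinearGroup.transvection h 1 * x = x * SpecialLinearGroup.transvection h 1) :
    (∀ l ≠ a, x.1 l a = 0) ∧ (∀ l ≠ b, x.1 b l = 0) := by
  have := congrArg Subtype.val e
  simp only [Matrix.SpecialLinearGroup.coe_mul, SpecialLinearGroup.transvection_coe, add_mul, mul_add, one_mul, mul_one,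
    add_right_inj] at this
  refine ⟨fun l hl => ?_, fun l hl => ?_⟩
  · simpa [hl] using (congrFun (congrFun this l) b).symm
  · simpa [hl] using congrFun (congrFun this a) l

omit [Finite K] in
theorem tv_conj (h3 : 3 ≤ Fintype.card ι) (h : a ≠ b) {i j : ι} (h' : i ≠ j) {c : K} (hc : c ≠ 0) {d : K} (hd : d ≠ 0) :
    IsConj (SpecialLinearGroup.transvection h c) (SpecialLinearGroup.transvection h' d) := by
  obtain ⟨τ, h1, h2⟩ : ∃ τ : Equiv.Perm ι, τ i = a ∧ τ j = b :=
    ⟨Equiv.swap (Equiv.swap i a j) b * Equiv.swap i a, by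
      rw [Equiv.Perm.mul_apply, Equiv.swap_apply_left, Equiv.swap_apply_of_ne_of_ne _ h]
      intro e
      exact h' ((Equiv.swap i a).injective (by rw [← e, Equiv.swap_apply_left])), by simp⟩
  obtain ⟨k, k1, k2⟩ := CfsgH5.exists_ne_ne_of_three_le h3 i j
  set y : ι → K := fun l => if l = i then d / c else if l = k then c / d * ((Equiv.Perm.sign τ : ℤ) : K) else 1
  have hy : ∏ l, y l = ((Equiv.Perm.sign τ : ℤ) : K) := by
    refine (Finset.prod_eq_mul i k k1.symm (fun l _ hl => by simp [y, hl.1, hl.2]) (by simp) (by simp)).trans ?_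
    simp only [y, if_true, if_neg k1]
    field_simp
  refine isConj_iff.2 ⟨⟨diagonal y * τ.permMatrix K, ?_⟩, mul_inv_eq_iff_eq_mul.2 (Subtype.ext ?_)⟩
  · rw [det_mul, det_diagonal, det_permutation, hy, ← Int.cast_mul, ← Units.val_mul, Int.units_mul_self]
    simp
  · show (diagonal y * τ.permMatrix K) * (1 + single a b c) = (1 + single i j d) * (diagonal y * τ.permMatrix K)
    rw [add_mul, mul_add, one_mul, mul_one, add_right_inj]
    ext l m
    by_cases e1 : l = i <;> by_cases e2 : m = b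
    · subst e1 e2
      simp [y, h1, h2, hc, h'.symm, k2.symm]
    · subst e1
      simp [e2, h2, Ne.symm e2]
    · subst e2
      have : τ l ≠ a := fun e => e1 (τ.injective (e.trans h1.symm))
      simp [e1, this]
    · simp [e1, e2]

omit [Finite K] in
theorem tv_pow (p : ℕ) [CharP K p] (h : a ≠ b) (c : K) : SpecialLinearGroup.transvection h c ^ p ^ 1 = 1 := by
  have : ∀ n : ℕ, SpecialLinearGroup.transvection h c ^ n = SpecialLinearGroup.transvection h (n * c) := fun n => by
    induction n with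
    | zero => simp
    | succ n ih => rw [pow_succ, ih, ← SpecialLinearGroup.transvection_add]; simp [add_mul]
  simp [this]

theorem diag2n_mem_PN (p : ℕ) [CharP K p] (h : a ≠ b) {c : K} (hc : c ≠ 0) (e1 : ∀ k, P a k ↔ P b k)
    (e2 : ∀ i, P i a ↔ P i b) : SpecialLinearGroup.diag2n h c hc ∈ PN p (pat K P hP) := by
  have k1 : ∀ c, SpecialLinearGroup.transvection h c ∈ PN p (pat K P hP) := fun c =>
    subset_closure ⟨tv_norm h c (fun k => (e1 k).2) fun k => (e2 k).1, 1, tv_pow p h c⟩
  have k2 : ∀ c, SpecialLinearGroup.transvection h.symm c ∈ PN p (pat K P hP) := fun c =>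
    subset_closure ⟨tv_norm h.symm c (fun k => (e1 k).1) fun k => (e2 k).2, 1, tv_pow p h.symm c⟩
  rw [CfsgH5.diag2n_decompose]
  exact mul_mem (mul_mem (mul_mem (mul_mem (mul_mem (k1 _) (k2 _)) (k1 _)) (k1 _)) (k2 _)) (k1 _)

variable [LinearOrder ι]

/-- unitriangular subgroup -/
abbrev UT (K ι : Type*) [Field K] [Finite K] [Fintype ι] [DecidableEq ι] [LinearOrder ι] :
    Subgroup (SpecialLinearGroup ι K) := pat K (· < ·) fun _ _ _ => lt_trans

omit [DecidableEq ι] [Finite K] in
theorem diag_mul (h : Sp (· ≤ ·) M) (h' : Sp (· ≤ ·) N) (i : ι) : (M * N) i i = M i i * N i i := by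
  rw [mul_apply]
  refine Finset.sum_eq_single i (fun j _ hj => ?_) (by simp)
  rcases lt_or_gt_of_ne hj with e | e
  · rw [h i j e.not_ge, zero_mul]
  · rw [h' j i e.not_ge, mul_zero]

omit [Finite K] in
theorem diag_pow (h : Sp (· ≤ ·) M) (n : ℕ) : Sp (· ≤ ·) (M ^ n) ∧ ∀ i, (M ^ n) i i = M i i ^ n := by
  induction n with
  | zero => exact ⟨fun i j k => by simp [show i ≠ j from fun e => k e.le], by simp⟩
  | succ n ih => exact ⟨pow_succ M n ▸ ih.1.mul h fun _ _ _ => le_trans, fun i => by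
      rw [pow_succ, diag_mul ih.1 h, ih.2, pow_succ]⟩

omit [Finite K] in
theorem diag_eq_one (p : ℕ) [Fact p.Prime] [CharP K p] (h : Sp (· ≤ ·) g.1) {k : ℕ} (hk : g ^ p ^ k = 1) (i : ι) :
    g.1 i i = 1 := by
  have := (diag_pow h (p ^ k)).2 i
  rw [← Matrix.SpecialLinearGroup.coe_pow, hk] at this
  have e : (g.1 i i - 1) ^ p ^ k = 0 := by rw [sub_pow_char_pow, ← this]; simp
  exact sub_eq_zero.1 (pow_eq_zero_iff (pow_ne_zero k (Fact.out : p.Prime).ne_zero) |>.1 e)

theorem mem_UT (h : Sp (· ≤ ·) g.1) (h1 : ∀ i, g.1 i i = 1) : g ∈ UT K ι := fun i j k => by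
  rcases (not_lt.1 k).eq_or_lt with rfl | e
  · simp [h1]
  · simp [h i j e.not_ge, e.ne']

theorem UT_pg (p : ℕ) [Fact p.Prime] [CharP K p] : IsPGroup p (UT K ι) := fun g => by
  have h : ∀ n, Sp (fun i j => n + (Finset.univ.filter (· < i)).card ≤ (Finset.univ.filter (· < j)).card)
      ((g.1.1 - 1) ^ n) := fun n => by
    induction n with
    | zero => exact fun i j k => by simp [show i ≠ j from fun e => k (by simp [e])]
    | succ n ih =>
      refine pow_succ (g.1.1 - 1) n ▸ ih.mul g.2 fun i j k a b => ?_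
      have : (Finset.univ.filter (· < j)).card < (Finset.univ.filter (· < k)).card :=
        Finset.card_lt_card ⟨fun l hl => by simpa using lt_trans (by simpa using hl) b, fun e => by
          simpa using e (show j ∈ Finset.univ.filter (· < k) by simpa using b)⟩
      omega
  refine ⟨Fintype.card ι + 1, Subtype.ext (Subtype.ext ?_)⟩
  rcases isEmpty_or_nonempty ι with _ | _
  · exact Subsingleton.elim _ _
  have e : (g.1.1 - 1) ^ p ^ (Fintype.card ι + 1) = 0 := by
    ext i j
    refine h _ i j fun k => ?_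
    have h1 := Finset.card_le_univ (Finset.univ.filter (· < j))
    have h2 := Nat.lt_pow_self (Fact.out : p.Prime).one_lt (n := Fintype.card ι + 1)
    omega
  rw [sub_pow_char_pow_of_commute _ _ (Commute.one_right _), one_pow, sub_eq_zero] at e
  exact e

theorem norm_UT (hg : g ∈ N[UT K ι]) : Sp (· ≤ ·) g.1 := fun a i k => by
  by_contra h
  have h1 : ∀ j, i < j → ∀ b ≤ a, g⁻¹.1 j b = 0 := fun j hj b hb => by
    have := (mem_normalizer_iff.1 hg _).1 (tv_mem hj.ne 1 hj) a b hb.not_gt
    rw [Matrix.SpecialLinearGroup.coe_mul, Matrix.SpecialLinearGroup.coe_mul, SpecialLinearGroup.transvection_coe, mul_add, add_mul,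
      mul_one, ← Matrix.SpecialLinearGroup.coe_mul, mul_inv_cancel, Matrix.SpecialLinearGroup.coe_one, add_sub_cancel_left,
      mul_apply, Finset.sum_eq_single j (fun l _ hl => by simp [hl]) (by simp)] at this
    simpa [h] using this
  have := g⁻¹.2
  rw [det_apply', Finset.sum_eq_zero fun σ _ => ?_] at this
  · exact zero_ne_one this
  obtain ⟨b, b1, b2⟩ : ∃ b ≤ a, i < σ b := by
    by_contra e
    push Not at e
    have := Finset.card_le_card_of_injOn (s := Finset.univ.filter (· ≤ a)) (t := Finset.univ.filter (· ≤ i)) σ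
      (fun b hb => by simpa using e b (by simpa using hb)) σ.injective.injOn
    refine this.not_gt (Finset.card_lt_card ⟨fun l hl => ?_, fun e => ?_⟩)
    · simpa using le_trans (by simpa using hl) (not_le.1 k).le
    · exact k (by simpa using e (show a ∈ Finset.univ.filter (· ≤ a) by simp))
  exact mul_eq_zero_of_right _ (Finset.prod_eq_zero (Finset.mem_univ b) (h1 _ b2 b b1))

theorem exists_sylow (p : ℕ) [Fact p.Prime] [CharP K p] : ∃ U : Sylow p (SpecialLinearGroup ι K), (U : Subgroup _) = UT K ι := by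
  obtain ⟨U, hU⟩ := (UT_pg (K := K) (ι := ι) p).exists_le_sylow
  refine ⟨U, by_contra fun e => ?_⟩
  have := lt_nI U.isPGroup' le_rfl (lt_of_le_of_ne hU (Ne.symm e))
  refine this.not_ge fun g hg => ?_
  obtain ⟨k, hk⟩ := U.isPGroup' ⟨g, hg.1⟩
  exact mem_UT (norm_UT hg.2) (diag_eq_one p (norm_UT hg.2) (congrArg Subtype.val hk))

theorem UT_le {T : Subgroup (SpecialLinearGroup ι K)}
    (h : ∀ i j (e : i < j) c, SpecialLinearGroup.transvection e.ne c ∈ T) : UT K ι ≤ T := by
  classical
  intro g hg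
  induction hn : (Finset.univ.filter fun x : ι × ι => (g.1 - 1) x.1 x.2 ≠ 0).card using Nat.strong_induction_on
    generalizing g with
  | _ n ih =>
  rcases (Finset.univ.filter fun x : ι × ι => (g.1 - 1) x.1 x.2 ≠ 0).eq_empty_or_nonempty with e | e
  · have : g = 1 := Subtype.ext (sub_eq_zero.1 (Matrix.ext fun i j => by
      simpa using Finset.filter_eq_empty_iff.1 e (Finset.mem_univ (i, j))))
    exact this ▸ one_mem _
  obtain ⟨⟨a, b⟩, h1, h2⟩ := Finset.exists_max_image _ Prod.fst e
  have h3 : (g.1 - 1) a b ≠ 0 := (Finset.mem_filter.1 h1).2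
  have ab : a < b := by_contra fun k => h3 (hg a b k)
  have h4 : ∀ j, g.1 b j = if b = j then 1 else 0 := fun j => by
    have : (g.1 - 1) b j = 0 := by_contra fun k => (h2 (b, j) (Finset.mem_filter.2 ⟨Finset.mem_univ _, k⟩)).not_gt ab
    rwa [Matrix.sub_apply, sub_eq_zero, one_apply] at this
  set t := SpecialLinearGroup.transvection ab.ne (-(g.1 - 1) a b)
  have h5 : (t * g).1 - 1 = g.1 - 1 + single a b (-(g.1 - 1) a b) := by
    rw [Matrix.SpecialLinearGroup.coe_mul, SpecialLinearGroup.transvection_coe, add_mul, one_mul, add_sub_right_comm]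
    congr 1
    ext i j
    by_cases e : i = a
    · subst e
      rw [single_mul_apply_same, h4, single_apply]
      simp
    · rw [single_mul_apply_of_ne _ _ _ _ _ e, single_apply, if_neg fun k => e k.1.symm]
  have := ih _ ((Finset.card_lt_card ⟨fun x hx => ?_, fun k => ?_⟩).trans_eq hn) (g := t * g)
    (mul_mem (tv_mem ab.ne _ ab) hg) rfl
  · exact (mul_mem_cancel_left (h a b ab _)).1 this
  · refine Finset.mem_filter.2 ⟨Finset.mem_univ _, fun k => (Finset.mem_filter.1 hx).2 ?_⟩
    rw [h5, Matrix.add_apply, k, zero_add, single_apply, if_neg]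
    rintro ⟨rfl, rfl⟩
    exact h3 k
  · refine (Finset.mem_filter.1 (k h1)).2 ?_
    rw [h5, Matrix.add_apply, single_apply_same, add_neg_cancel]

end Uni
end CfsgL0
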