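import Cfsg.Agent.L0.FS3

/-! A simplicity criterion for the `2`-fusion system of `PSp₄(q)`. -/

namespace CfsgL0
open Function Subgroup Cfsg CfsgH2
open CfsgH4 (GQ)

variable {G H : Type*} [Group G] [Finite G] [Group H] [Finite H] {Q : Subgroup H} {a b n x y : H} {m : ℕ}
  {ψ : H × H →* G} {τ g : G}

/-- data of the centralizer of a `2`-central involution -/
structure P4 (Q : Subgroup H) (a b n : H) (m : ℕ) (ψ : H × H →* G) (τ : G) : Prop where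
  syl : Syl 2 Q ⊤
  gq : GQ Q a b m
  hn : a ^ 2 ^ m = n
  cn : ∀ x, n * x = x * n
  ker : ∀ x y, ψ (x, y) = 1 ↔ x = 1 ∧ y = 1 ∨ x = n ∧ y = n
  t2 : τ * τ = 1
  sw : ∀ x y, τ * ψ (x, y) = ψ (y, x) * τ
  nm : ∀ p, ψ p ≠ τ
  cen : ∀ g, g * ψ (n, 1) = ψ (n, 1) * g → ∃ x y, g = ψ (x, y) ∨ g = ψ (x, y) * τ
  cj : IsConj (ψ (n, 1)) τ
  c4 : ∀ x y, x * x = n → y * y = n → IsConj x y

namespace P4
variable (h : P4 Q a b n m ψ τ)
include h

omit [Finite G] [Finite H] in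
theorem mul (x y x' y' : H) : ψ (x, y) * ψ (x', y') = ψ (x * x', y * y') := (map_mul ψ _ _).symm
omit [Finite G] [Finite H] in
theorem inv (x y : H) : (ψ (x, y))⁻¹ = ψ (x⁻¹, y⁻¹) := (map_inv ψ _).symm
omit [Finite G] [Finite H] in
theorem ti : τ⁻¹ = τ := inv_eq_of_mul_eq_one_right h.t2
omit [Finite G] [Finite H] in
theorem sw' (x y : H) (g : G) : τ * (ψ (x, y) * g) = ψ (y, x) * (τ * g) := by rw [← mul_assoc, h.sw, mul_assoc]
omit [Finite G] [Finite H] in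
theorem t2' (g : G) : τ * (τ * g) = g := by rw [← mul_assoc, h.t2, one_mul]
omit [Finite G] [Finite H] in
theorem mul' (x y x' y' : H) (g : G) : ψ (x, y) * (ψ (x', y') * g) = ψ (x * x', y * y') * g := by rw [← mul_assoc, h.mul]
omit [Finite G] [Finite H] in
theorem nQ : n ∈ Q := h.hn ▸ h.gq.tmem
omit [Finite G] [Finite H] in
theorem n2 : n * n = 1 := h.hn ▸ half_sq h.gq.ord
omit [Finite G] [Finite H] in
theorem n1 : n ≠ 1 := h.hn ▸ half_ne_one h.gq.ord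

omit [Finite G] [Finite H] in
theorem eq_iff {x' y' : H} : ψ (x, y) = ψ (x', y') ↔ x = x' ∧ y = y' ∨ x = n * x' ∧ y = n * y' := by
  rw [← mul_inv_eq_one, h.inv, h.mul, h.ker]
  simp only [mul_inv_eq_one, mul_inv_eq_iff_eq_mul, one_mul]

/-- the Sylow subgroup -/
def S : Subgroup G where
  carrier := {g | ∃ x ∈ Q, ∃ y ∈ Q, g = ψ (x, y) ∨ g = ψ (x, y) * τ}
  mul_mem' := by
    rintro _ _ ⟨x, a, y, b, rfl | rfl⟩ ⟨x', c, y', d, rfl | rfl⟩
    · exact ⟨_, mul_mem a c, _, mul_mem b d, .inl (h.mul ..)⟩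
    · exact ⟨_, mul_mem a c, _, mul_mem b d, .inr (h.mul' ..)⟩
    · exact ⟨_, mul_mem a d, _, mul_mem b c, .inr (by rw [mul_assoc, h.sw, h.mul'])⟩
    · exact ⟨_, mul_mem a d, _, mul_mem b c, .inl (by rw [mul_assoc, h.sw', h.t2, mul_one, h.mul])⟩
  one_mem' := ⟨1, one_mem _, 1, one_mem _, .inl (map_one ψ).symm⟩
  inv_mem' := by
    rintro _ ⟨x, a, y, b, rfl | rfl⟩
    · exact ⟨_, inv_mem a, _, inv_mem b, .inl (h.inv ..)⟩
    · exact ⟨_, inv_mem b, _, inv_mem a, .inr (by rw [mul_inv_rev, h.ti, h.inv, h.sw])⟩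

omit [Finite G] [Finite H] in
theorem tS : τ ∈ h.S := ⟨1, one_mem _, 1, one_mem _, .inr (by rw [show ψ (1, 1) = 1 from map_one ψ, one_mul])⟩

omit [Finite G] [Finite H] in
theorem memS : ψ (x, y) ∈ h.S ↔ x ∈ Q ∧ y ∈ Q := by
  refine ⟨?_, fun k => ⟨x, k.1, y, k.2, .inl rfl⟩⟩
  rintro ⟨x', a, y', b, e | e⟩
  · rcases h.eq_iff.1 e with ⟨rfl, rfl⟩ | ⟨rfl, rfl⟩
    exacts [⟨a, b⟩, ⟨mul_mem h.nQ a, mul_mem h.nQ b⟩]
  · exact absurd (by rw [map_mul, e, map_inv, inv_mul_cancel_left]) (h.nm ((x', y')⁻¹ * (x, y)))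

omit [Finite G] [Finite H] in
theorem pg : IsPGroup 2 h.S := by
  have k : ∀ x ∈ Q, ∀ y ∈ Q, ∃ k, ψ (x, y) ^ 2 ^ k = 1 := fun x a y b => by
    obtain ⟨i, hi⟩ := pgroup_pow_eq_one h.syl.pg a
    obtain ⟨j, hj⟩ := pgroup_pow_eq_one h.syl.pg b
    refine ⟨i + j, ?_⟩
    rw [← map_pow, Prod.pow_mk, pow_add, pow_mul, hi, mul_comm, pow_mul, hj, one_pow, one_pow]
    exact map_one ψ
  refine isPGroup_of_forall ?_
  rintro _ ⟨x, a, y, b, rfl | rfl⟩
  · exact k x a y b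
  · obtain ⟨i, hi⟩ := k _ (mul_mem a b) _ (mul_mem b a)
    exact ⟨i + 1, by rw [pow_succ', pow_mul, sq, mul_assoc, h.sw', h.t2, mul_one, h.mul, hi]⟩

omit [Finite G] [Finite H] in
theorem zS (hg : g ∈ h.S) (hc : g ∈ C[h.S]) (h1 : g ≠ 1) : g = ψ (n, 1) := by
  have c1 := fun x hx => hc _ (h.memS.2 ⟨hx, one_mem _⟩ : ψ (x, 1) ∈ _)
  have c2 := fun x hx => hc _ (h.memS.2 ⟨one_mem _, hx⟩ : ψ (1, x) ∈ _)
  obtain ⟨x, hx, y, hy, rfl | rfl⟩ := hg
  · have e1 : x = 1 ∨ x = n := h.hn ▸ h.gq.eq_of_sq hx (h.gq.sq_of_cent hx fun u hu => by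
      have := c1 u hu
      rw [h.mul, h.mul, h.eq_iff] at this
      exact this.elim And.left fun e => absurd (by simpa using e.2) h.n1)
    have e2 : y = 1 ∨ y = n := h.hn ▸ h.gq.eq_of_sq hy (h.gq.sq_of_cent hy fun u hu => by
      have := c2 u hu
      rw [h.mul, h.mul, h.eq_iff] at this
      exact this.elim And.right fun e => absurd (by simpa using e.1) h.n1)
    rcases e1 with rfl | rfl <;> rcases e2 with rfl | rfl
    · exact absurd (map_one ψ) h1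
    · exact h.eq_iff.2 (.inr ⟨h.n2.symm, by simp⟩)
    · rfl
    · exact absurd ((h.ker _ _).2 (.inr ⟨rfl, rfl⟩)) h1
  · have := c1 a h.gq.amem
    rw [h.mul', mul_assoc, h.sw, h.mul', mul_left_inj, h.eq_iff] at this
    refine absurd ?_ h.gq.sq_a_ne
    rcases this with e | e
    · rw [show a = 1 by simpa using e.1, one_mul]
    · rw [show a = n by simpa using e.1, h.n2]

theorem norm (hg : g ∈ N[h.S]) : ∃ s ∈ h.S, ∃ x ∈ N[Q], g = s * ψ (x, x) := by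
  have z1 : ψ (n, 1) ∈ h.S := h.memS.2 ⟨h.nQ, one_mem _⟩
  have z2 : ψ (n, 1) ∈ C[h.S] := by
    rintro _ ⟨x, -, y, -, rfl | rfl⟩
    · simp [h.mul, h.cn]
    · rw [mul_assoc, h.sw, h.mul', h.mul', mul_left_inj, h.eq_iff]
      exact .inr ⟨by rw [← mul_assoc, h.n2, mul_one, one_mul], by rw [one_mul, h.cn]⟩
  have z3 := h.zS ((mem_normalizer_iff.1 hg _).1 z1) (conj_mem_of_norm (norm_le_norm_cent _ hg) z2)
    (by rw [Ne, conj_eq_one_iff, h.ker]; simp [h.n1, h.n1.symm])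
  have key : ∀ x y, ψ (x, y) ∈ N[h.S] → ∃ s ∈ h.S, ∃ u ∈ N[Q], ψ (x, y) = s * ψ (u, u) := fun x y hg => by
    have e1 := (mem_normalizer_iff.1 hg _).1 h.tS
    rw [mul_assoc, h.inv, h.sw, h.mul'] at e1
    refine ⟨ψ (x * y⁻¹, 1), h.memS.2 ⟨(h.memS.1 ((mul_mem_cancel_right h.tS).1 e1)).1, one_mem _⟩, y,
      mem_normalizer_fintype fun u hu => ?_, by simp [h.mul]⟩
    have := (mem_normalizer_iff.1 hg _).1 (h.memS.2 ⟨one_mem _, hu⟩)
    rw [h.inv, h.mul, h.mul] at this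
    exact (h.memS.1 this).2
  obtain ⟨x, y, rfl | rfl⟩ := h.cen g (mul_inv_eq_iff_eq_mul.1 z3)
  · exact key x y hg
  · obtain ⟨s, a, u, b, c⟩ := key x y ((mul_mem_cancel_right (le_normalizer h.tS)).1 hg)
    exact ⟨s * τ, mul_mem a h.tS, u, b, by rw [c, mul_assoc, mul_assoc, h.sw]⟩

omit [Finite G] in
theorem mem_Q (hx : x ∈ N[Q]) {k : ℕ} (e : ψ (x, y) ^ 2 ^ k = 1) : x ∈ Q := by
  rw [← map_pow, Prod.pow_mk, h.ker] at e
  refine zpowers_le.1 (h.syl.le_of_norm' (isPGroup_zpowers (k := k + 1) ?_) le_top (zpowers_le.2 hx))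
  rw [pow_succ, pow_mul, sq]
  rcases e with e | e <;> simp [e.1, h.n2]

theorem sylS : Syl 2 h.S ⊤ := Syl.of_max le_top h.pg fun R a b _ => by_contra fun e => by
  refine (lt_nI a le_rfl (lt_of_le_of_ne b (Ne.symm e))).not_ge fun g hg => ?_
  obtain ⟨s, c, x, d, rfl⟩ := h.norm hg.2
  obtain ⟨k, hk⟩ := pgroup_pow_eq_one a ((mul_mem_cancel_left (b c)).1 hg.1)
  exact mul_mem c (h.memS.2 ⟨h.mem_Q d hk, h.mem_Q d hk⟩)

theorem dN (hx : x ∈ N[Q]) : ψ (x, x) ∈ N[h.S] := mem_normalizer_fintype <| by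
  rintro _ ⟨u, a, v, b, rfl | rfl⟩
  · rw [h.inv, h.mul, h.mul]
    exact h.memS.2 ⟨conj_mem_of_norm hx a, conj_mem_of_norm hx b⟩
  · rw [h.inv, h.mul', mul_assoc, h.sw, h.mul']
    exact mul_mem (h.memS.2 ⟨conj_mem_of_norm hx a, conj_mem_of_norm hx b⟩) h.tS

/-- the elementary abelian subgroup of order `16` -/
def R (_ : P4 Q a b n m ψ τ) : Subgroup G := closure {ψ (a, a), ψ (b, b), τ, ψ (n, 1)}

omit [Finite G] [Finite H] in
theorem R_ab (hm : m = 1) : h.R ≤ C[h.R] := by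
  subst hm
  have e1 : a * b = n * (b * a) := by
    have : a * a = n := by rw [← h.hn]; simp [sq]
    rw [mul_inv_eq_iff_eq_mul.1 h.gq.inv, ← this]; group
  have e2 : ψ (1, n) = ψ (n, 1) := h.eq_iff.2 (.inr ⟨h.n2.symm, by simp⟩)
  have e3 : ψ (a * b, a * b) = ψ (b * a, b * a) := h.eq_iff.2 (.inr ⟨e1, e1⟩)
  rw [R, centralizer_closure, closure_le]
  rintro _ (rfl | rfl | rfl | rfl) _ (rfl | rfl | rfl | rfl) <;> simp [h.sw, h.mul, h.cn, e2, e3]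

theorem centric (hm : m = 1) : (groupFusionSystem h.S).IsCentric h.R := by
  have r1 : ψ (a, a) ∈ h.R := subset_closure (by simp)
  have r2 : ψ (b, b) ∈ h.R := subset_closure (by simp)
  have r3 : τ ∈ h.R := subset_closure (by simp)
  have r4 : ψ (n, 1) ∈ h.R := subset_closure (by simp)
  have key : ∀ x y k, ψ (x, y) ∈ C[h.R] → ψ (x, y) ^ 2 ^ k = 1 → ψ (x, y) ∈ h.R := fun x y k c e => by
    have e0 : ∀ u ∈ Q, ψ (u, u) ∈ h.R → u ∈ Q.comap (MulAut.conj x).toMonoidHom := fun u hu k => by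
      have := c _ k
      rw [h.mul, h.mul, eq_comm, h.eq_iff] at this
      show x * u * x⁻¹ ∈ Q
      rcases this with e | e <;> rw [e.1]
      · simpa
      · simpa [← mul_assoc] using mul_mem h.nQ hu
    have e1 : x ∈ Q := h.mem_Q (mem_normalizer_fintype fun u hu => (show Q ≤ Q.comap (MulAut.conj x).toMonoidHom from
      h.gq.sup.ge.trans (sup_le (zpowers_le.2 (e0 a h.gq.amem r1)) (zpowers_le.2 (e0 b h.gq.bmem r2)))) hu) e
    have e2 : ψ (x, x) ∈ h.R := (show Q ≤ h.R.comap (ψ.comp ((MonoidHom.id H).prod (MonoidHom.id H))) from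
      h.gq.sup.ge.trans (sup_le (zpowers_le.2 r1) (zpowers_le.2 r2))) e1
    have := c _ r3
    rw [h.sw, mul_left_inj, h.eq_iff] at this
    rcases this with e | e
    · exact e.1 ▸ e2
    · have : ψ (x, y) = ψ (n, 1) * ψ (x, x) := by
        rw [h.mul, h.eq_iff]; exact .inr ⟨by rw [← mul_assoc, h.n2, one_mul], by rw [e.1, one_mul]⟩
      exact this ▸ mul_mem r4 e2
  refine centric_of h.pg ((closure_le _).2 ?_) fun g c ⟨k, e⟩ => ?_
  · rintro _ (rfl | rfl | rfl | rfl)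
    exacts [h.memS.2 ⟨h.gq.amem, h.gq.amem⟩, h.memS.2 ⟨h.gq.bmem, h.gq.bmem⟩, h.tS, h.memS.2 ⟨h.nQ, one_mem _⟩]
  obtain ⟨x, y, rfl | rfl⟩ := h.cen g (c _ r4).symm
  · exact key x y k c e
  · have c' := (mul_mem_cancel_right (h.R_ab hm r3)).1 c
    refine mul_mem (key x y (k + 1) c' ?_) r3
    have : Commute (ψ (x, y) * τ) τ := (c _ r3).symm
    rw [← mul_one (ψ (x, y)), ← h.t2, ← mul_assoc, this.mul_pow, pow_succ, pow_mul, e, mul_comm (2 ^ k), pow_mul, sq τ,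
      h.t2]
    simp

theorem simple (hω : m = 1 → ∃ ω ∈ N[Q], ω ∉ Q ⊔ C[Q] ∧ ψ (ω, ω) ∈ PN 2 h.R) (S : Sylow 2 G) :
    (groupFusionSystem (S : Subgroup G)).IsSimple 2 := by
  obtain ⟨U, hU⟩ := h.sylS.exists_top
  refine simple_map U (gsimple U ?_ (fun T hT => or_iff_not_imp_left.2 fun h0 => ?_) fun g hg => ?_) (MonoidHom.id G)
    surjective_id (fun _ _ e => e) S <;> rw [hU] at *
  · exact fun e => h.nm 1 ((map_one ψ).trans (mem_bot.1 (e.le h.tS)).symm)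
  · obtain ⟨⟨z, hz⟩, z1⟩ := ne_bot_iff_exists_ne_one.1 (inf_cent_ne_bot h.pg (H := T)
      (fun s hs => mem_normalizer_fintype fun x hx => hT.norm hs hx) (dvd_card_of_pgroup (h.pg.to_le hT.1) h0))
    obtain rfl := h.zS (hT.1 hz.1) hz.2 fun e => z1 (Subtype.ext e)
    have t1 : τ ∈ T := by
      obtain ⟨u, hu⟩ := isConj_iff.1 h.cj
      exact hu ▸ hT.2 _ hz.1 u (hu ▸ h.tS)
    have t2 : ∀ x ∈ Q, ∀ y ∈ Q, x * x = n → y * y = n → ψ (x, y) ∈ T := fun x hx y hy e1 e2 => by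
      have := mul_mem (hT.norm (h.memS.2 ⟨hx, one_mem _⟩ : ψ (x, 1) ∈ _) t1) t1
      rw [h.inv, mul_assoc, mul_assoc, h.sw', h.t2, mul_one, h.mul, inv_one, mul_one, one_mul] at this
      obtain ⟨u, rfl⟩ := isConj_iff.1 (h.c4 x⁻¹ y (by rw [← mul_inv_rev, e1, inv_eq_of_mul_eq_one_right h.n2]) e2)
      have e := hT.2 _ this (ψ (1, u))
      rw [h.inv, h.mul, h.mul, one_mul, inv_one, mul_one] at e
      exact e (h.memS.2 ⟨hx, hy⟩)
    have b2 : b * b = n := h.hn ▸ h.gq.sq_eq h.gq.bmem h.gq.nmem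
    have t3 : ∀ x ∈ Q, x * x = n → ψ (1, x * b⁻¹) ∈ T := fun x hx e => by
      simpa [h.inv, h.mul] using mul_mem (t2 b h.gq.bmem x hx b2 e) (inv_mem (t2 b h.gq.bmem b h.gq.bmem b2 b2))
    have t4 : Q ≤ T.comap (ψ.comp (MonoidHom.inr H H)) := by
      have k1 : zpowers a ≤ T.comap (ψ.comp (MonoidHom.inr H H)) := zpowers_le.2 (by
        simpa using t3 (a * b) (mul_mem h.gq.amem h.gq.bmem) (h.hn ▸ h.gq.sq_eq (mul_mem h.gq.amem h.gq.bmem)
          (h.gq.mul_nmem (mem_zpowers a))))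
      refine h.gq.sup.ge.trans (sup_le k1 (zpowers_le.2 ?_))
      have k2 := pow_mem (mem_zpowers a) (2 ^ (m - 1))
      refine (inv_mem_iff (x := b)).1 ((mul_mem_cancel_left (k1 k2)).1 (t3 _ (h.gq.ale k2) ?_))
      rw [← pow_add, ← two_mul, ← pow_succ', Nat.sub_add_cancel h.gq.pos, h.hn]
    have t5 : ∀ x ∈ Q, ∀ y ∈ Q, ψ (x, y) ∈ T := fun x hx y hy => by
      have := mul_mem (mul_mem (mul_mem t1 (show ψ (1, x) ∈ T from t4 hx)) t1) (show ψ (1, y) ∈ T from t4 hy)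
      rwa [h.sw, mul_assoc _ τ τ, h.t2, mul_one, h.mul, mul_one, one_mul] at this
    refine le_antisymm hT.1 ?_
    rintro _ ⟨x, c, y, d, rfl | rfl⟩
    exacts [t5 x c y d, mul_mem (t5 x c y d) t1]
  · obtain ⟨s, c, x, d, rfl⟩ := h.norm hg
    have k0 : ∀ s ∈ h.S, s ∈ closure {g | g ∈ N[h.S] ∧ (g ∈ C[h.S] ∨
        ∃ R, (groupFusionSystem h.S).IsCentric R ∧ g ∈ PN 2 R)} := fun s c =>
      subset_closure ⟨le_normalizer c, .inr ⟨_, centric_top,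
        subset_closure ⟨le_normalizer c, pgroup_pow_eq_one h.pg c⟩⟩⟩
    refine mul_mem (k0 s c) (mem_comap.1 ((?_ : N[Q] ≤ comap (ψ.comp ((MonoidHom.id H).prod (MonoidHom.id H))) _) d))
    have k1 : Q ⊔ C[Q] ≤ comap (ψ.comp ((MonoidHom.id H).prod (MonoidHom.id H))) (closure {g | g ∈ N[h.S] ∧ (g ∈ C[h.S] ∨
        ∃ R, (groupFusionSystem h.S).IsCentric R ∧ g ∈ PN 2 R)}) := sup_le (fun u hu => k0 _ (h.memS.2 ⟨hu, hu⟩))
      fun u hu => subset_closure ⟨h.dN (centralizer_le_normalizer _ hu), .inl (by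
        rintro _ ⟨x, a, y, b, rfl | rfl⟩
        · show _ * ψ (u, u) = ψ (u, u) * _
          rw [h.mul, h.mul, hu x a, hu y b]
        · show _ * ψ (u, u) = ψ (u, u) * _
          rw [mul_assoc, h.sw, h.mul', h.mul', hu x a, hu y b])⟩
    have l : Q ⊔ C[Q] ≤ N[Q] := sup_le le_normalizer (centralizer_le_normalizer _)
    by_cases hm : m = 1
    · obtain ⟨ω, w1, w2, w3⟩ := hω hm
      have e1 := q8_dvd6 (hm ▸ h.gq) (le_refl N[Q])
      have e2 := (h.syl.mono le_normalizer le_top).not_dvd_of_le (le_sup_left : Q ≤ Q ⊔ C[Q])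
      have e3 : (Q ⊔ C[Q]).relIndex N[Q] ≠ 1 := fun e => w2 (relIndex_eq_one.1 e w1)
      have e4 : (Q ⊔ C[Q]).relIndex N[Q] = 3 := by
        have := Nat.le_of_dvd (by omega) e1
        interval_cases (Q ⊔ C[Q]).relIndex N[Q] <;> omega
      rcases eq_or_eq_of_relIndex_prime (e4 ▸ Nat.prime_three) (le_sup_left (b := zpowers ω))
        (sup_le l (zpowers_le.2 w1)) with e | e
      · exact absurd (e ▸ mem_sup_right (mem_zpowers ω)) w2
      · exact e.ge.trans (sup_le k1 (zpowers_le.2 (subset_closure ⟨h.dN w1, .inr ⟨_, h.centric hm, w3⟩⟩)))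
    · have mc : MC Q a b m := ⟨h.gq.toCy2, h.gq.pos, .inr (.inl ⟨h.gq.sq', h.gq.inv⟩)⟩
      refine le_trans (fun u hu => ?_) k1
      obtain ⟨s, hs, e⟩ := conj_eq_of_odd' (h.syl.mono le_normalizer le_top) ((mc_aut mc (.inl (by
        have := h.gq.pos; omega)) le_rfl).resolve_right fun e => mc_a_nmem mc (e ⟨mc.amem, mem_zpowers a⟩)) hu
      rw [← mul_inv_cancel_left s u]
      refine mul_mem (mem_sup_left hs) (mem_sup_right fun x hx => ?_)
      calc x * (s⁻¹ * u) = s⁻¹ * (s * x * s⁻¹) * u := by group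
        _ = s⁻¹ * u * x := by rw [← e x hx]; group

end P4
end CfsgL0
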