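import Cfsg.Agent.L0.FS6
import Cfsg.Agent.H5.Symp2
import Cfsg.Agent.H8.Tor
import Cfsg.Agent.H8.SL2n

/-! The subgroup `SL₂ ≀ 2` of `Sp₄`. -/

namespace CfsgL0.Sp4
open Matrix Subgroup

variable {F : Type*} [Field F] {A B C D : Matrix (Fin 2) (Fin 2) F}

local notation "M4" => Matrix (Fin 2 ⊕ Fin 2) (Fin 2 ⊕ Fin 2) F
local notation "SP" => symplecticGroup (Fin 2) F
local notation "SL2" => Matrix.SpecialLinearGroup (Fin 2) F

/-- orthogonal sum of two planes -/
def Φ (A B : Matrix (Fin 2) (Fin 2) F) : M4 :=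
  fromBlocks !![A 0 0, 0; 0, B 0 0] !![A 0 1, 0; 0, B 0 1] !![A 1 0, 0; 0, B 1 0] !![A 1 1, 0; 0, B 1 1]

/-- the swap -/
def T (F : Type*) [Field F] : Matrix (Fin 2 ⊕ Fin 2) (Fin 2 ⊕ Fin 2) F := fromBlocks !![0, 1; 1, 0] 0 0 !![0, 1; 1, 0]

theorem Φ_mul : Φ A B * Φ C D = Φ (A * C) (B * D) := by
  (ext (i | i) (j | j) <;> fin_cases i <;> fin_cases j <;>
    simp [Φ, T, J, Matrix.mul_apply, Fin.sum_univ_two, Fintype.sum_sum_type])
theorem Φ_one : Φ 1 1 = (1 : M4) := by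
  (ext (i | i) (j | j) <;> fin_cases i <;> fin_cases j <;>
    simp [Φ, T, J, Matrix.mul_apply, Fin.sum_univ_two, Fintype.sum_sum_type])
theorem Φ_neg : Φ (-A) (-B) = -Φ A B := by
  (ext (i | i) (j | j) <;> fin_cases i <;> fin_cases j <;>
    simp [Φ, T, J, Matrix.mul_apply, Fin.sum_univ_two, Fintype.sum_sum_type])
theorem Φ_add : Φ (A + C) (B + D) = Φ A B + Φ C D := by
  (ext (i | i) (j | j) <;> fin_cases i <;> fin_cases j <;>
    simp [Φ, T, J, Matrix.mul_apply, Fin.sum_univ_two, Fintype.sum_sum_type])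
theorem Φ_smul (c : F) : Φ (c • A) (c • B) = c • Φ A B := by
  (ext (i | i) (j | j) <;> fin_cases i <;> fin_cases j <;>
    simp [Φ, T, J, Matrix.mul_apply, Fin.sum_univ_two, Fintype.sum_sum_type])
theorem T_mul : T F * Φ A B = Φ B A * T F := by
  (ext (i | i) (j | j) <;> fin_cases i <;> fin_cases j <;>
    simp [Φ, T, J, Matrix.mul_apply, Fin.sum_univ_two, Fintype.sum_sum_type])
theorem T_sq : T F * T F = 1 := by
  (ext (i | i) (j | j) <;> fin_cases i <;> fin_cases j <;>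
    simp [Φ, T, J, Matrix.mul_apply, Fin.sum_univ_two, Fintype.sum_sum_type])
theorem T_mem : T F ∈ SP := by
  rw [SymplecticGroup.mem_iff]
  (ext (i | i) (j | j) <;> fin_cases i <;> fin_cases j <;>
    simp [Φ, T, J, Matrix.mul_apply, Fin.sum_univ_two, Fintype.sum_sum_type])

theorem Φ_inj (h : Φ A B = Φ C D) : A = C ∧ B = D := by
  have e := fun i j => congrFun (congrFun h i) j
  constructor <;> ext i j <;> fin_cases i <;> fin_cases j
  exacts [e (.inl 0) (.inl 0), e (.inl 0) (.inr 0), e (.inr 0) (.inl 0), e (.inr 0) (.inr 0),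
    e (.inl 1) (.inl 1), e (.inl 1) (.inr 1), e (.inr 1) (.inl 1), e (.inr 1) (.inr 1)]

theorem Φ_mem : Φ A B ∈ SP ↔ A.det = 1 ∧ B.det = 1 := by
  rw [SymplecticGroup.mem_iff, det_fin_two, det_fin_two]
  refine ⟨fun h => ⟨?_, ?_⟩, fun ⟨h1, h2⟩ => ?_⟩
  · have := congrFun (congrFun h (.inr 0)) (.inl 0)
    simp [Φ, J, Matrix.mul_apply, Fin.sum_univ_two, Fintype.sum_sum_type] at this
    linear_combination this
  · have := congrFun (congrFun h (.inr 1)) (.inl 1)
    simp [Φ, J, Matrix.mul_apply, Fin.sum_univ_two, Fintype.sum_sum_type] at this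
    linear_combination this
  · (ext (i | i) (j | j) <;> fin_cases i <;> fin_cases j <;>
    simp [Φ, T, J, Matrix.mul_apply, Fin.sum_univ_two, Fintype.sum_sum_type])
    all_goals first | ring1 | linear_combination h1 | linear_combination h2 | linear_combination -h1 | linear_combination -h2

theorem exists_Φ (h2 : (2 : F) ≠ 0) {M : M4} (h : M * Φ (-1) 1 = Φ (-1) 1 * M) : ∃ A B, M = Φ A B := by
  have e := fun i j => congrFun (congrFun h i) j
  have k : ∀ x : F, -x = x → x = 0 := fun x hx => (mul_eq_zero.1 (show 2 * x = 0 by linear_combination -hx)).resolve_left h2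
  refine ⟨!![M (.inl 0) (.inl 0), M (.inl 0) (.inr 0); M (.inr 0) (.inl 0), M (.inr 0) (.inr 0)],
    !![M (.inl 1) (.inl 1), M (.inl 1) (.inr 1); M (.inr 1) (.inl 1), M (.inr 1) (.inr 1)], ?_⟩
  ext (i | i) (j | j) <;> fin_cases i <;> fin_cases j <;> first
    | rfl
    | exact k _ (by
        have := e (.inl 0) (.inl 1); have := e (.inl 1) (.inl 0); have := e (.inl 0) (.inr 1)
        have := e (.inl 1) (.inr 0); have := e (.inr 0) (.inl 1); have := e (.inr 1) (.inl 0)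
        have := e (.inr 0) (.inr 1); have := e (.inr 1) (.inr 0)
        simp [Φ, Matrix.mul_apply, Fin.sum_univ_two, Fintype.sum_sum_type] at *
        first | assumption | (symm; assumption))

theorem T_ne : Φ A B ≠ T F ∧ Φ A B ≠ -T F := by
  constructor <;> intro h <;> simpa [Φ, T] using congrFun (congrFun h (.inl 0)) (.inl 1)

theorem exists_P (h2 : (2 : F) ≠ 0) : ∃ P ∈ SP, P * Φ (-1) 1 = T F * P := by
  refine ⟨fromBlocks !![1, 1; -1, 1] 0 0 !![1 / 2, 1 / 2; -(1 / 2), 1 / 2], ?_, by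
  (ext (i | i) (j | j) <;> fin_cases i <;> fin_cases j <;>
    simp [Φ, T, J, Matrix.mul_apply, Fin.sum_univ_two, Fintype.sum_sum_type])⟩
  rw [SymplecticGroup.mem_iff]
  (ext (i | i) (j | j) <;> fin_cases i <;> fin_cases j <;>
    simp [Φ, T, J, Matrix.mul_apply, Fin.sum_univ_two, Fintype.sum_sum_type])
  all_goals field_simp; ring1

/-- `SL₂ × SL₂ → Sp₄` -/
def ψ (F : Type*) [Field F] :
    Matrix.SpecialLinearGroup (Fin 2) F × Matrix.SpecialLinearGroup (Fin 2) F →* symplecticGroup (Fin 2) F where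
  toFun p := ⟨Φ p.1.1 p.2.1, Φ_mem.2 ⟨p.1.2, p.2.2⟩⟩
  map_one' := Subtype.ext Φ_one
  map_mul' _ _ := Subtype.ext Φ_mul.symm

theorem half_mem (h2 : (2 : F) ≠ 0) {a b : SP} (ha : a.1 * a.1 = -1) (hb : b.1 * b.1 = -1) :
    (1 / 2 : F) • ((1 + a.1) * (1 + b.1)) ∈ SP := by
  have k : ∀ a : SP, a.1 * a.1 = -1 → (1 + a.1) * J (Fin 2) F * (1 + a.1)ᵀ = (2 : F) • J (Fin 2) F := fun a ha => by
    have e := SymplecticGroup.mem_iff.1 a.2
    have e1 : J (Fin 2) F * a.1ᵀ = -(a.1 * J (Fin 2) F) := by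
      nth_rw 2 [← e]
      rw [← mul_assoc, ← mul_assoc, ha]; simp
    rw [transpose_add, transpose_one, add_mul, add_mul, mul_add, mul_add, e, one_mul, mul_one, e1, mul_one, two_smul]
    abel
  rw [SymplecticGroup.mem_iff, transpose_smul, transpose_mul, smul_mul_assoc, smul_mul_assoc, mul_smul_comm,
    show (1 + a.1) * (1 + b.1) * J (Fin 2) F * ((1 + b.1)ᵀ * (1 + a.1)ᵀ) =
      (1 + a.1) * ((1 + b.1) * J (Fin 2) F * (1 + b.1)ᵀ) * (1 + a.1)ᵀ by simp only [mul_assoc], k b hb, mul_smul_comm,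
    smul_mul_assoc, k a ha, smul_smul, smul_smul, smul_smul]
  rw [show (1 / 2 * (1 / 2) * 2 * 2 : F) = 1 by field_simp, one_smul]

variable [Fintype F] (hq : Fintype.card F % 2 = 1)
include hq

theorem mem_center {g : SP} : g ∈ center SP ↔ g.1 = 1 ∨ g.1 = -1 := by
  refine ⟨fun h => ?_, fun h => mem_center_iff.2 fun x => Subtype.ext (by rcases h with h | h <;> simp [h])⟩
  have c := mem_center_iff.1 h
  obtain ⟨A, B, e⟩ := exists_Φ (CfsgH8.two_ne_zero_of_odd hq) (congrArg Subtype.val (c (ψ F (-1, 1)))).symm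
  have e1 := congrArg Subtype.val (c ⟨_, T_mem⟩)
  simp only [Submonoid.coe_mul, e, T_mul] at e1
  obtain ⟨rfl, -⟩ := Φ_inj (by simpa [mul_assoc, T_sq] using congrArg (· * T F) e1)
  set s : SL2 := ⟨B, (Φ_mem.1 (e ▸ g.2)).1⟩
  have e2 : s ∈ center SL2 := mem_center_iff.2 fun x => Subtype.ext (Φ_inj (by
    have := congrArg Subtype.val (c (ψ F (x, 1)))
    rw [Submonoid.coe_mul, Submonoid.coe_mul, e] at this
    exact Φ_mul.symm.trans (this.trans Φ_mul))).1
  have e3 := pow_card_eq_one' (x := (⟨s, e2⟩ : center _))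
  rw [CfsgH8.card_center_SL2] at e3
  have e4 : s ^ 2 = 1 := orderOf_dvd_iff_pow_eq_one.1 ((orderOf_dvd_of_pow_eq_one (congrArg Subtype.val e3)).trans
    (Nat.gcd_dvd_left _ _))
  by_cases e5 : s = 1
  · left; rw [e, show B = 1 from congrArg Subtype.val e5, Φ_one]
  · right; rw [e, show B = -1 from congrArg Subtype.val (CfsgH8.eq_neg_one_of_sq hq e4 e5), Φ_neg, Φ_one]

theorem mk_eq {g h : SP} : QuotientGroup.mk' (center SP) g = QuotientGroup.mk' (center SP) h ↔ g.1 = h.1 ∨ g.1 = -h.1 := by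
  rw [← mul_inv_eq_one, ← map_inv, ← map_mul, QuotientGroup.mk'_apply, QuotientGroup.eq_one_iff, mem_center hq]
  have e : g.1 = (g * h⁻¹).1 * h.1 := by rw [← Submonoid.coe_mul, inv_mul_cancel_right]
  have e' : (g * h⁻¹).1 = g.1 * h⁻¹.1 := rfl
  have e'' : h.1 * h⁻¹.1 = 1 := by rw [← Submonoid.coe_mul, mul_inv_cancel]; rfl
  refine or_congr ⟨fun k => by rw [e, k, one_mul], fun k => by rw [e', k, e'']⟩
    ⟨fun k => by rw [e, k, neg_one_mul], fun k => by rw [e', k, neg_mul, e'']⟩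

theorem half_PN (h2 : (2 : F) ≠ 0) {R : Subgroup (SP ⧸ center SP)} (hR : R ≤ centralizer R) {a b : SP}
    (ha : a.1 * a.1 = -1) (hb : b.1 * b.1 = -1) (hc : a.1 * b.1 = b.1 * a.1)
    (h1 : QuotientGroup.mk' _ a ∈ R) (h3 : QuotientGroup.mk' _ b ∈ R) :
    QuotientGroup.mk' _ (⟨_, half_mem h2 ha hb⟩ : SP) ∈ PN 2 R := by
  have k : ∀ a : SP, a.1 * a.1 = -1 → QuotientGroup.mk' _ a ∈ R → ∀ r : SP, QuotientGroup.mk' _ r ∈ R →
      ∃ r' : SP, QuotientGroup.mk' _ r' ∈ R ∧ (1 + a.1) * r.1 = r'.1 * (1 + a.1) := fun a ha h1 r hr => by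
    have := hR hr _ h1
    rw [← map_mul, ← map_mul, mk_eq hq, Submonoid.coe_mul, Submonoid.coe_mul] at this
    rcases this with e | e
    · exact ⟨r, hr, by rw [add_mul, mul_add, e, one_mul, mul_one]⟩
    · refine ⟨a * r, map_mul (QuotientGroup.mk' (center SP)) a r ▸ mul_mem h1 hr, ?_⟩
      rw [Submonoid.coe_mul, add_mul, mul_add, one_mul, mul_one, add_comm, e, neg_mul, mul_assoc, ha]; simp
  refine subset_closure ⟨mem_normalizer_fintype fun r hr => ?_, 2, ?_⟩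
  · obtain ⟨r, rfl⟩ := QuotientGroup.mk'_surjective _ r
    obtain ⟨r1, e1, e2⟩ := k b hb h3 r hr
    obtain ⟨r2, e3, e4⟩ := k a ha h1 r1 e1
    rw [← map_mul, show (⟨_, half_mem h2 ha hb⟩ : SP) * r = r2 * ⟨_, half_mem h2 ha hb⟩ from Subtype.ext (by
      simp only [Submonoid.coe_mul]
      rw [smul_mul_assoc, mul_smul_comm, mul_assoc, e2, ← mul_assoc, e4, mul_assoc]), map_mul, mul_inv_cancel_right]
    exact e3
  · have e : (⟨_, half_mem h2 ha hb⟩ : SP) ^ 2 = a * b := Subtype.ext (by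
      have e1 : (1 + a.1) * (1 + b.1) * ((1 + a.1) * (1 + b.1)) = ((1 + a.1) * (1 + a.1)) * ((1 + b.1) * (1 + b.1)) := by
        have : (1 + b.1) * (1 + a.1) = (1 + a.1) * (1 + b.1) := by simp only [add_mul, mul_add, hc]; noncomm_ring
        rw [mul_assoc, ← mul_assoc (1 + b.1), this]; simp only [mul_assoc]
      have e2 : ∀ a : M4, a * a = -1 → (1 + a) * (1 + a) = (2 : F) • a := fun a ha => by
        rw [add_mul, mul_add, mul_add, ha, two_smul]; noncomm_ring
      simp only [sq, Submonoid.coe_mul]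
      rw [smul_mul_assoc, mul_smul_comm, e1, e2 _ ha, e2 _ hb, smul_mul_assoc, mul_smul_comm, smul_smul, smul_smul,
        smul_smul, show (1 / 2 * (1 / 2) * 2 * 2 : F) = 1 by field_simp, one_smul])
    rw [← map_pow, show 2 ^ 2 = 2 * 2 from rfl, pow_mul, e, show (a * b) ^ 2 = 1 from Subtype.ext (by
      simp only [sq, Submonoid.coe_mul]
      rw [mul_assoc, ← mul_assoc b.1, ← hc, mul_assoc, hb, ← mul_assoc, ha]; simp), map_one]

end CfsgL0.Sp4
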