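import Cfsg.Agent.L0.Amb
import Cfsg.Agent.H1.BG3a

/-! Kegel's theorem on splitting automorphisms of prime order (Hughes subgroup). -/

namespace CfsgL0
open Cfsg Subgroup CfsgH2 Function
open CfsgH1 (Frob)
open scoped IsMulCommutative
universe u

section
variable {G : Type*} [Group G] {V R K L : Subgroup G} {p : ℕ}

theorem coe_prod_range [Ab[V]] (y : N[V]) (v : V) (n : ℕ) :
    ((∏ i ∈ Finset.range n, V.normalizerMonoidHom (y ^ i) v : V) : G) * y ^ n = (v * y) ^ n := by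
  induction n with
  | zero => simp
  | succ n ih =>
    rw [Finset.prod_range_succ, coe_mul, pow_succ (v * y : G), ← ih]
    change _ * ((y : G) ^ n * v * ((y : G) ^ n)⁻¹) * _ = _
    group

theorem pow_card_eq_one_of_norm [Finite G] [Ab[V]] (hp : p.Prime) {y : G} (hy : y ∈ N[V]) (hR : R ≤ N[V])
    (hyR : y ∈ N[R]) (h0 : V ⊓ C[R] = ⊥) (hf : ∀ i, ¬ p ∣ i → R ⊓ C1[y ^ i] = ⊥)
    (h : ∀ r ∈ R, ∀ v ∈ V, (v * (r * y * r⁻¹)) ^ p = 1) {v : G} (hv : v ∈ V) : v ^ o[R] = 1 := by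
  classical
  haveI := Fintype.ofFinite R
  set σ := V.normalizerMonoidHom
  set j := inclusion hR
  have h1 : ∀ w : V, ∏ r : R, σ (j r) w = 1 := fun w => Subtype.ext (mem_bot.1 (h0 ▸ ⟨SetLike.coe_mem _,
    fun s hs => by
      have := map_prod (σ (j ⟨s, hs⟩)) (fun r : R => σ (j r) w) Finset.univ
      rw [Fintype.prod_equiv (Equiv.mulLeft (⟨s, hs⟩ : R)) (fun r : R => σ (j ⟨s, hs⟩) (σ (j r) w))
        (fun r : R => σ (j r) w) fun r => by simp] at this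
      exact mul_inv_eq_iff_eq_mul.1 (congrArg Subtype.val this)⟩))
  have h2 : ∀ r : R, ∏ i ∈ Finset.range p, σ ((j r * ⟨y, hy⟩ * (j r)⁻¹) ^ i) ⟨v, hv⟩ = 1 := fun r => by
    have e := coe_prod_range (j r * ⟨y, hy⟩ * (j r)⁻¹) ⟨v, hv⟩ p
    have e1 := h r r.2 1 (one_mem _)
    rw [one_mul] at e1
    exact Subtype.ext (mul_eq_right.1 (e.trans ((h r r.2 v hv).trans e1.symm)))
  have h3 := Finset.prod_eq_one (s := Finset.univ) fun r _ => h2 r
  rw [Finset.prod_comm, Finset.prod_eq_single 0 (fun i hi h0 => ?_) (by simp [hp.ne_zero])] at h3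
  · simpa [Subtype.ext_iff] using h3
  rw [← h1 (σ (⟨y, hy⟩ ^ i) ⟨v, hv⟩)]
  have hinj : Injective fun r : R => (⟨r * (y ^ i * (r : G)⁻¹ * (y ^ i)⁻¹), mul_mem r.2
      (conj_mem_of_norm (pow_mem hyR i) (inv_mem r.2))⟩ : R) := fun r s e => by
    have : (s : G)⁻¹ * r ∈ R ⊓ C1[y ^ i] := ⟨R.mul_mem (inv_mem s.2) r.2, mem_c1.2 (by
      have e' : (r : G) * (y ^ i * (r : G)⁻¹ * (y ^ i)⁻¹) = s * (y ^ i * (s : G)⁻¹ * (y ^ i)⁻¹) := congrArg Subtype.val e
      rw [show (s : G)⁻¹ * r * y ^ i = (s : G)⁻¹ * (r * (y ^ i * (r : G)⁻¹ * (y ^ i)⁻¹)) * y ^ i * r by group, e']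
      group)⟩
    rw [hf i (Nat.not_dvd_of_pos_of_lt (Nat.pos_of_ne_zero h0) (Finset.mem_range.1 hi)), mem_bot] at this
    exact Subtype.ext (inv_mul_eq_one.1 this).symm
  refine Fintype.prod_bijective _ (Finite.injective_iff_bijective.1 hinj) _ _ fun r => Subtype.ext ?_
  change ((r : G) * y * (r : G)⁻¹) ^ i * v * (((r : G) * y * (r : G)⁻¹) ^ i)⁻¹ =
    r * (y ^ i * (r : G)⁻¹ * (y ^ i)⁻¹) * (y ^ i * v * (y ^ i)⁻¹) * (r * (y ^ i * (r : G)⁻¹ * (y ^ i)⁻¹))⁻¹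
  rw [conj_pow]; group

theorem split_fpf (h : ∀ g ∈ L, g ∉ K → g ^ p = 1) (hL : K ≤ L) [Finite G] (hp : p.Prime) (hR : R ≤ K)
    (hd : ¬ p ∣ o[R]) {g : G} (hg : g ∈ L) (hgK : g ∉ K) : R ⊓ C1[g] = ⊥ := by
  refine (eq_bot_iff_forall _).2 fun x ⟨hx, hc⟩ => ?_
  have := h (x * g) (mul_mem (hL (hR hx)) hg) fun e => hgK ((K.mul_mem_cancel_left (hR hx)).1 e)
  rw [Commute.mul_pow (mem_c1.1 hc), h g hg hgK, mul_one] at this
  exact orderOf_eq_one_iff.1 (((Nat.dvd_prime hp).1 (orderOf_dvd_of_pow_eq_one this)).resolve_right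
    fun e => hd (e ▸ orderOf_dvd_of_mem hx))

end

theorem kegel (p : ℕ) [hp : Fact p.Prime] (n : ℕ) : ∀ (G : Type u) [Group G] [Finite G] (K L : Subgroup G),
    o[L] = n → K < L → L ≤ N[K] → (∀ g ∈ L, g ∉ K → g ^ p = 1) → Nil[K] := by
  induction n using Nat.strong_induction_on with | _ n ih => ?_
  intro G _ _ K L hn hKL nK h
  have sub : ∀ M < L, ¬ M ≤ K → Nil[K ⊓ M] := fun M hM h1 => ih _ (hn ▸ card_lt_of_lt hM) G _ M rfl
    (inf_lt_right.2 h1) (le_norm_inf (hM.le.trans nK) le_normalizer) fun g hg h2 =>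
      h g (hM.le hg) fun e => h2 ⟨e, hg⟩
  have sub' : ∀ U y, U ≤ K → y ∈ L → y ∉ K → U ⊔ zpowers y < L → Nil[U] := fun U y h1 _ h3 h4 =>
    isNilpotent_of_le (sub _ h4 fun e => h3 (e (mem_sup_right (mem_zpowers y)))) (le_inf h1 le_sup_left)
  have quo : ∀ V, V ≠ ⊥ → V ≤ K → L ≤ N[V] → Nil[qt V K] := fun V h0 h1 h2 =>
    ih _ (hn ▸ card_qt_lt (by rwa [inf_eq_right.2 (h1.trans hKL.le)])) _ _ (qt V L) rfl
      ((qt_lt_qt (hKL.le.trans h2) h2 h1 (h1.trans hKL.le)).2 hKL) (qt_le_norm nK) fun g hg h3 => by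
        obtain ⟨x, hx, rfl⟩ := mem_qt.1 hg
        rw [← map_pow, show x ^ p = 1 from Subtype.ext (h x hx fun e => h3 (qmk_mem_qt x.2 e)), map_one]
  have hz : ∀ y ∈ L, y ∉ K → o[zpowers y] = p := fun y h1 h2 =>
    card_zpowers_eq hp.out (h y h1 h2) fun e => h2 (e ▸ one_mem K)
  have hzK : ∀ y ∈ L, y ∉ K → zpowers y ⊓ K = ⊥ := fun y h1 h2 =>
    inf_eq_bot_of_not_le (hz y h1 h2 ▸ hp.out) fun e => h2 (e (mem_zpowers y))
  have eqK : ∀ U y, U ≤ K → y ∈ N[U] → y ∈ L → y ∉ K → U ⊔ zpowers y = L → U = K := fun U y h1 h2 h3 h4 h5 => by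
    have := sup_inf_of_norm (.inr (zpowers_le.2 h2)) h1
    rwa [hzK y h3 h4, sup_bot_eq, h5, inf_eq_right.2 hKL.le, eq_comm] at this
  have fra : ∀ (q : ℕ) [Fact q.Prime] (Q U : Subgroup G), Syl q Q U → U ≤ K → L ≤ N[U] →
      ∃ y ∈ L, y ∈ N[Q] ∧ y ∉ K := fun q _ Q U h1 h2 h3 => by
    by_contra! h4
    exact hKL.not_ge ((h1.frattini_sup (h2.trans hKL.le) h3).ge.trans (sup_le h2 fun y hy => h4 y hy.1 hy.2))
  by_contra hK
  have gen : ∀ y ∈ L, y ∉ K → K ⊔ zpowers y = L := fun y h1 h2 => by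
    by_contra e
    exact hK (sub' K y le_rfl h1 h2 ((sup_le hKL.le (zpowers_le.2 h1)).lt_of_ne e))
  have hs : Sol[K] := by
    by_cases hs : ∀ V, V ≤ K → L ≤ N[V] → V = ⊥ ∨ V = K
    · refine sol_of_two_primes Nat.prime_two hp.out fun q hq hd => ?_
      by_contra h1
      haveI := Fact.mk hq
      obtain ⟨Q, hQ⟩ := exists_syl q K
      obtain ⟨y, h2, h3, h4⟩ := fra q Q K hQ le_rfl nK
      refine hK (nil_of_pg (pg_of_npc (zpowers_le.2 (nK h2)) (fun V h5 h6 h7 => hs V h5 (gen y h2 h4 ▸ sup_le h6 h7))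
        hQ (zpowers_le.2 h3) hd (fun e => h1 (.inl e)) fun W _ _ h5 _ h6 => .of_nilpotent ?_))
      exact isNilpotent_of_le (sub (L ⊓ N[W]) (inf_lt_left.2 fun e => inf_lt_left.1 h6 (hKL.le.trans e))
        fun e => h4 (e ⟨h2, h5 (mem_zpowers y)⟩)) (le_inf inf_le_left (inf_le_inf_right _ hKL.le))
    push Not at hs
    obtain ⟨V, h1, h2, h3, h4⟩ := hs
    obtain ⟨y, h5, h6⟩ := SetLike.exists_of_lt hKL
    exact isSolvable_of_qt (hKL.le.trans h2) (isSolvable_of_nilpotent (quo V h3 h1 h2))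
      (isSolvable_of_le (isSolvable_of_nilpotent (sub' V y h1 h5 h6 ((sup_le (h1.trans hKL.le)
        (zpowers_le.2 h5)).lt_of_ne fun e => h4 (eqK V y h1 (h2 h5) h5 h6 e)))) inf_le_right)
  obtain ⟨q, hq, V, hVK, hV0, nV, hV, hmin⟩ := exists_min_norm hs (by rintro rfl; exact hK nil_bot) nK
  have nKV := hKL.le.trans nV
  have hQ := quo V hV0 hVK nV
  refine hK (nil_of_syl fun r hr _ => ?_)
  obtain ⟨R, hR⟩ := exists_syl r K
  have h1 : L ≤ N[R ⊔ V] := by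
    rw [← qc_qt (hR.le.trans nKV)]
    exact le_norm_qc nV ((qt_le_norm nK).trans ((hR.qt nKV).norm_le_of_nil hQ))
  have hRV := hR.mono le_sup_left (sup_le hR.le hVK)
  refine ⟨R, hR, hKL.le.trans (h1.trans (hRV.norm_le_of_nil ?_))⟩
  by_cases hqr : q = r
  · subst hqr
    exact nil_of_pg (isPGroup_sup hR.pg (elem_pgroup hV) (.inl (hR.le.trans nKV)))
  obtain ⟨y, h2, h3, h4⟩ := fra r R _ hRV (sup_le hR.le hVK) h1
  by_contra h5
  have h6 : R ⊔ V ⊔ zpowers y = L := by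
    by_contra e
    exact h5 (sub' _ y (sup_le hR.le hVK) h2 h4 ((sup_le (sup_le (hR.le.trans hKL.le) (hVK.trans hKL.le))
      (zpowers_le.2 h2)).lt_of_ne e))
  have hc : ¬ R ≤ C[V] := fun e => h5 (nil_sup_of_cent (nil_of_pg hR.pg) (nil_of_pg (elem_pgroup hV)) e)
  have hco : o[R].Coprime o[V] := coprime_of_pgroup hR.pg fun e => hqr
    (isPGroup_iff_piN.1 (elem_pgroup hV) r hr.out e).symm
  have h7 : R ⊓ C[V] = ⊥ := by
    by_contra e
    have n1 : L ≤ N[R ⊓ C[V]] := h6 ▸ sup_le (sup_le (le_norm_inf le_normalizer (le_norm_cent (hR.le.trans nKV)))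
      (le_norm_of_le_cent (le_centralizer_iff.1 inf_le_right))) (zpowers_le.2 (mem_norm_inf h3 (le_norm_cent nV h2)))
    have := (qt_le_cent_iff (hR.le.trans (hKL.le.trans n1)) (hVK.trans (hKL.le.trans n1))).1
      (nil_le_cent (quo _ e (inf_le_left.trans hR.le) n1) (qt_mono hR.le) (qt_mono hVK) (coprime_qt hco))
    exact hc (comm_eq_bot_iff.1 (le_bot_iff.1 ((le_inf (this.trans inf_le_left)
      (comm_le_right (hR.le.trans nKV))).trans (inf_eq_bot_of_coprime' hco).le)))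
  by_cases hrp : r = p
  · subst hrp
    have p1 : PG[r, zpowers y] := isPGroup_of_card' (hz y h2 h4)
    obtain ⟨Z, z1, z2, z3⟩ := exists_central_card_p p1 (zpowers_le.2 h3) (dvd_card_of_pgroup hR.pg
      (by rintro rfl; exact hc bot_le))
    have ab : Ab[Z ⊔ zpowers y] := isMulComm_sup (isMulComm_of_cyclic (isCyclic_of_card_prime hr.out z3))
      inferInstance z2
    have := le_of_cent1 (M := C[Z]) ab (fun e => h4 (hR.le (z1 ((eq_of_card_eq_of_cyclic e le_sup_left le_sup_right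
      (z3.trans (hz y h2 h4).symm)).ge (mem_zpowers y))))) (sup_le (z1.trans (hR.le.trans nKV)) (zpowers_le.2 (nV h2)))
      (coprime_of_pgroup (isPGroup_sup (hR.pg.to_le z1) p1 (.inl (le_norm_of_le_cent z2))) fun e => hqr
        (isPGroup_iff_piN.1 (elem_pgroup hV) r hr.out e).symm) fun a ha h0 => by
      by_cases e : a ∈ K
      · have := sup_inf_of_norm (.inl (le_norm_of_le_cent z2)) (z1.trans hR.le)
        rw [hzK y h2 h4, sup_bot_eq] at this
        rw [← CfsgH1.cent1_eq_of_prime (z3 ▸ hr.out) (this.le ⟨ha, e⟩) h0]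
        exact inf_le_right
      · rw [split_fpf h hKL.le hr.out hVK (fun e => hqr (isPGroup_iff_piN.1 (elem_pgroup hV) r hr.out e).symm)
          (sup_le (z1.trans (hR.le.trans hKL.le)) (zpowers_le.2 h2) ha) e]
        exact bot_le
    exact ne_bot_of_card_prime (z3 ▸ hr.out) (le_bot_iff.1 (h7 ▸ le_inf z1 (le_centralizer_iff.1 this)))
  have hpR : ¬ p ∣ o[R] := fun e => hrp (isPGroup_iff_piN.1 hR.pg p hp.out e).symm
  by_cases hqp : q = p
  · subst hqp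
    haveI := hV.1
    have h8 : V ⊓ C[R] = ⊥ := (hmin _ inf_le_left (h6 ▸ sup_le (sup_le (le_norm_inf (hR.le.trans nKV)
      (le_norm_cent le_normalizer)) (le_norm_of_le_cent (le_cent_of_comm hV.1 inf_le_left)))
      (zpowers_le.2 (mem_norm_inf (nV h2) (norm_le_norm_cent _ h3))))).resolve_right
      fun e => hc (le_centralizer_iff.1 (e.ge.trans inf_le_right))
    refine hV0 ((eq_bot_iff_forall _).2 fun v hv => orderOf_eq_one_iff.1 (Nat.eq_one_of_dvd_coprimes hco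
      (orderOf_dvd_of_pow_eq_one (pow_card_eq_one_of_norm hp.out (nV h2) (hR.le.trans nKV) h3 h8
        (fun i hi => split_fpf h hKL.le hp.out hR.le hpR (pow_mem h2 i) fun e => h4
          (mem_of_pow_mem_coprime e ?_)) (fun s hs w hw => h _ (mul_mem (hKL.le (hVK hw)) (mul_mem (mul_mem
            (hKL.le (hR.le hs)) h2) (inv_mem (hKL.le (hR.le hs))))) fun e => h4 ?_) hv)) (orderOf_dvd_of_mem hv)))
    · rw [← Nat.card_zpowers, hz y h2 h4]; exact (Nat.Prime.coprime_iff_not_dvd hp.out).2 hi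
    · rwa [K.mul_mem_cancel_left (hVK hw), K.mul_mem_cancel_right (inv_mem (hR.le hs)),
        K.mul_mem_cancel_left (hR.le hs)] at e
  · refine h5 (CfsgH1.nil_of_prime_fpf (hz y h2 h4 ▸ hp.out) (zpowers_le.2 (h1 h2)) ?_)
    rw [cent_zpowers]
    exact split_fpf h hKL.le hp.out (sup_le hR.le hVK) (fun e => ((Nat.Prime.dvd_mul hp.out).1
      (e.trans (card_sup_dvd (.inl (hR.le.trans nKV))))).elim hpR
      fun e => hqp (isPGroup_iff_piN.1 (elem_pgroup hV) p hp.out e).symm) h2 h4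

end CfsgL0
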