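import Cfsg.Agent.H2.BG6
import Cfsg.Agent.H1.Frob
import Cfsg.Prelude.Def_IsolatedElements

/-! Isolated `p`-elements. -/

namespace CfsgL0
open Subgroup Function Cfsg CfsgH2
open scoped commutatorElement

universe u

section
variable {G : Type*} [Group G] [Finite G] {H K M N P Q R : Subgroup G} {p : ℕ} [hp : Fact p.Prime] {x : G}

omit [Finite G] hp in
theorem mem_cent1 {a b : G} : a ∈ C1[b] ↔ a * b * a⁻¹ = b := by
  rw [mem_centralizer_singleton_iff, mul_inv_eq_iff_eq_mul]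

theorem iso_le_cent (hiso : IsIsolated x) (hR : PG[p, R]) (hx : x ∈ R) : R ≤ C1[x] := by
  by_contra hn
  have hlt : R ⊓ C1[x] < R := lt_of_le_of_ne inf_le_left fun e => hn (e.ge.trans inf_le_right)
  obtain ⟨g, hg, hg'⟩ := SetLike.exists_of_lt (lt_inf_norm (nil_of_pg hR) hlt)
  have h1 : g * x * g⁻¹ ∈ R ⊓ C1[x] := conj_mem_of_norm hg.2 ⟨hx, self_mem_cent1 x⟩
  exact hg' ⟨hg.1, mem_cent1.2 (hiso g (mem_centralizer_singleton_iff.1 h1.2).symm)⟩

theorem iso_eq (hiso : IsIsolated x) (hR : PG[p, R]) (hx : x ∈ R) {g : G} (h : g * x * g⁻¹ ∈ R) :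
    g * x * g⁻¹ = x :=
  hiso g (mem_centralizer_singleton_iff.1 (iso_le_cent hiso hR hx h)).symm

theorem iso_norm_le (hiso : IsIsolated x) (hR : PG[p, R]) (hx : x ∈ R) : N[R] ≤ C1[x] := fun _ hg =>
  mem_cent1.2 (iso_eq hiso hR hx (conj_mem_of_norm hg hx))

omit [Finite G] hp in
theorem pg_zpowers_of_order {k : ℕ} (h : orderOf x = p ^ k) : PG[p, zpowers x] :=
  isPGroup_zpowers (k := k) (h ▸ pow_orderOf_eq_one x)

omit [Finite G] hp in
theorem pg_zpowers_conj (h : PG[p, zpowers x]) (g : G) : PG[p, zpowers (g * x * g⁻¹)] := by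
  obtain ⟨k, hk⟩ := pgroup_pow_eq_one h (mem_zpowers x)
  exact isPGroup_zpowers (k := k) (by rw [conj_pow, hk]; group)

theorem iso_conj_in (hiso : IsIsolated x) (hp' : PG[p, zpowers x]) (hx : x ∈ K) {g : G} (h : g * x * g⁻¹ ∈ K) :
    ∃ k ∈ K, k * g ∈ C1[x] := by
  obtain ⟨S, hS, h1⟩ := exists_syl_ge hp' (zpowers_le.2 hx)
  obtain ⟨k, hk, h2⟩ := hS.exists_conj_le (pg_zpowers_conj hp' g) (zpowers_le.2 h)
  refine ⟨k, hk, mem_cent1.2 (iso_eq hiso hS.pg (h1 (mem_zpowers x)) ?_)⟩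
  have := h2 (conj_mem_map_cj (g := k) (mem_zpowers _))
  convert this using 1; group

theorem iso_frattini (hiso : IsIsolated x) (hp' : PG[p, zpowers x]) (hN : N ≤ H) (hn : H ≤ N[N]) (hx : x ∈ N) :
    N ⊔ (H ⊓ C1[x]) = H := by
  refine le_antisymm (sup_le hN inf_le_left) fun g hg => ?_
  obtain ⟨k, hk, h⟩ := iso_conj_in hiso hp' hx (conj_mem_of_norm (hn hg) hx)
  have : g = k⁻¹ * (k * g) := by group
  rw [this]
  exact Subgroup.mul_mem _ (mem_sup_left (N.inv_mem hk)) (mem_sup_right ⟨H.mul_mem (hN hk) hg, h⟩)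

theorem iso_map {G' : Type*} [Group G'] (hiso : IsIsolated x) (hp' : PG[p, zpowers x]) {f : G →* G'}
    (hf : Surjective f) : IsIsolated (f x) := by
  intro g hg
  obtain ⟨g, rfl⟩ := hf g
  obtain ⟨k, hk, h⟩ := iso_conj_in (K := C1[f x].comap f) hiso hp' (self_mem_cent1 (f x)) (g := g) (by
    rw [mem_comap, mem_centralizer_singleton_iff]
    simpa using hg.symm.eq)
  have h1 : f k * f x * (f k)⁻¹ = f x := mem_cent1.1 hk
  have h2 := congrArg f (mem_cent1.1 h)
  simp only [map_mul, map_inv] at h2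
  calc f g * f x * (f g)⁻¹ = (f k)⁻¹ * (f k * f g * f x * (f k * f g)⁻¹) * f k := by group
    _ = (f k)⁻¹ * (f k * f x * (f k)⁻¹) * f k := by rw [h2, h1]
    _ = f x := by group

omit [Finite G] hp in
theorem iso_subtype (hiso : IsIsolated x) (hx : x ∈ K) : IsIsolated (⟨x, hx⟩ : K) := fun g hg =>
  Subtype.ext (hiso g (congrArg Subtype.val hg.eq))

theorem iso_of_syl (hP : Syl p P ⊤) (hx : x ∈ P) (h : ∀ g : G, g * x * g⁻¹ ∈ P → g * x * g⁻¹ = x) :
    IsIsolated x := by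
  intro g hg
  have h1 : PG[p, zpowers x] := hP.pg.to_le (zpowers_le.2 hx)
  have h2 : PG[p, zpowers x ⊔ zpowers (g * x * g⁻¹)] := isPGroup_sup h1 (pg_zpowers_conj h1 g) (Or.inl
    (le_norm_of_le_cent (zpowers_le.2 (by rw [cent_zpowers]; exact mem_centralizer_singleton_iff.2 hg.eq))))
  obtain ⟨k, -, hk⟩ := hP.exists_conj_le h2 le_top
  have a := h k (hk (conj_mem_map_cj (mem_sup_left (mem_zpowers x))))
  have b := h (k * g) (by
    have := hk (conj_mem_map_cj (g := k) (mem_sup_right (mem_zpowers _)))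
    convert this using 1; group)
  calc g * x * g⁻¹ = k⁻¹ * (k * g * x * (k * g)⁻¹) * k := by group
    _ = k⁻¹ * (k * x * k⁻¹) * k := by rw [a, b]
    _ = x := by group

theorem iso_npc (hiso : IsIsolated x) (h1 : x ≠ 1) (hP : Syl p P ⊤) (hx : x ∈ P) (hC : Cyc[P]) :
    NPC p (⊤ : Subgroup G) := by
  refine hP.npc_of_norm_le_cent fun g hg => ?_
  obtain ⟨a, ha, b, hb, rfl, h2, h3⟩ := exists_pi_parts {p} g
  have ha' : a ∈ N[P] := zpowers_le.2 hg.2 ha
  have hb' : b ∈ N[P] := zpowers_le.2 hg.2 hb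
  refine Subgroup.mul_mem _ ?_ ?_
  · refine le_cent_of_comm inferInstance le_rfl (hP.le_of_norm' (Q := zpowers a) ?_ le_top (zpowers_le.2 ha')
      (mem_zpowers a))
    exact isPGroup_iff_piN.2 (piN_card_zpowers h2)
  · rcases cyc_coprime_cent_or hC hP.pg (zpowers_le.2 hb') ((piN_compl_singleton hp.out).1 (piN_card_zpowers h3))
      with h | h
    · exact h (mem_zpowers b)
    · refine absurd (mem_bot.1 (h.2 ▸ (⟨hx, ?_⟩ : x ∈ P ⊓ C[zpowers b]))) h1
      rw [cent_zpowers]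
      exact mem_centralizer_singleton_iff.2 (mem_centralizer_singleton_iff.1 (iso_norm_le hiso hP.pg hx hb')).symm

theorem inZStar_subtype (hx : x ∈ H) : InZStar p (⟨x, hx⟩ : H) ↔ ∀ g ∈ H, g * x * g⁻¹ * x⁻¹ ∈ O[{p}ᶜ, H] := by
  rw [← map_pPrimeCore_subtype]
  constructor
  · intro h g hg
    exact ⟨_, h ⟨g, hg⟩, rfl⟩
  · intro h g
    obtain ⟨y, hy, e⟩ := h g g.2
    have : y = g * ⟨x, hx⟩ * g⁻¹ * (⟨x, hx⟩ : H)⁻¹ := Subtype.ext e
    exact this ▸ hy

theorem zstar_fac (hiso : IsIsolated x) (hp' : PG[p, zpowers x]) (hx : x ∈ H) (hK : K ≤ H) (hn : H ≤ N[K])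
    (h : ∀ g ∈ H, g * x * g⁻¹ * x⁻¹ ∈ K) : K ⊔ (H ⊓ C1[x]) = H := by
  have h1 : H ≤ N[(K ⊔ zpowers x : Subgroup G)] := fun g hg => mem_norm_sup_zpowers (hn hg) (by
    have := Subgroup.mul_mem _ (mem_sup_left (T := zpowers x) (h g hg)) (mem_sup_right (mem_zpowers x))
    simpa using this)
  have := iso_frattini hiso hp' (sup_le hK (zpowers_le.2 hx)) h1 (mem_sup_right (mem_zpowers x))
  rwa [sup_assoc, sup_eq_right.2 (zpowers_le.2 (⟨hx, self_mem_cent1 x⟩ : x ∈ H ⊓ C1[x]))] at this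

/-- a minimal counterexample to the `Z*_p` statement -/
structure MinZ (p : ℕ) (x : G) : Prop where
  ord : orderOf x = p
  iso : IsIsolated x
  nz : ¬ InZStar p x
  sub : ∀ (H : Subgroup G) (hxH : x ∈ H), H ≠ ⊤ → InZStar p (⟨x, hxH⟩ : H)
  quot : ∀ (N : Subgroup G) [N.Normal], N ≠ ⊥ → InZStar p (QuotientGroup.mk x : G ⧸ N)

namespace MinZ

omit [Finite G] hp in
theorem pg (h : MinZ p x) : PG[p, zpowers x] := pg_zpowers_of_order (k := 1) (by rw [h.ord, pow_one])

theorem core (h : MinZ p x) : O[{p}ᶜ, (⊤ : Subgroup G)] = ⊥ := by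
  by_contra hne
  refine h.nz fun g => ?_
  have := h.quot _ hne (QuotientGroup.mk g)
  rw [pPrimeCore_eq', ← map_top_of_surjective _ (QuotientGroup.mk'_surjective _), piCoreOf_map_mk_self,
    mem_bot] at this
  rw [pPrimeCore_eq', ← QuotientGroup.eq_one_iff]
  simpa using this

theorem core_normal (h : MinZ p x) (N : Subgroup G) [N.Normal] : O[{p}ᶜ, N] = ⊥ :=
  le_bot_iff.1 (h.core ▸ piCoreOf_le_of_norm le_top (top_le_norm_iff.2 inferInstance))

omit [Finite G] hp in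
theorem not_cent (h : MinZ p x) : ¬ ∀ g, g * x * g⁻¹ = x := fun hc => h.nz fun g => by
  rw [hc g, mul_inv_cancel]; exact one_mem _

theorem eq_top (h : MinZ p x) (N : Subgroup G) [hN : N.Normal] (hx : x ∈ N) : N = ⊤ := by
  by_contra hne
  refine h.not_cent fun g => h.iso g ?_
  have := (inZStar_subtype hx).1 (h.sub N hx hne) _ (hN.conj_mem x hx g)
  rw [h.core_normal, mem_bot, mul_inv_eq_one, mul_inv_eq_iff_eq_mul] at this
  exact this.symm

theorem sup_eq (h : MinZ p x) (N : Subgroup G) [hN : N.Normal] (hc : ¬ N ≤ center G) : N ⊔ zpowers x = ⊤ := by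
  by_contra hne
  have hx : x ∈ N ⊔ zpowers x := mem_sup_right (mem_zpowers x)
  have h1 := (inZStar_subtype hx).1 (h.sub _ hx hne)
  have h2 : x ∈ C[N] := mem_cent_iff.2 fun n hn => by
    have : n * x * n⁻¹ * x⁻¹ ∈ O[{p}ᶜ, N] := inf_piCoreOf_le le_sup_left ⟨h1 n (mem_sup_left hn), by
      have := N.mul_mem hn (hN.conj_mem _ (N.inv_mem hn) x)
      rw [← mul_assoc, ← mul_assoc] at this
      exact this⟩
    rwa [h.core_normal, mem_bot, mul_inv_eq_one, mul_inv_eq_iff_eq_mul] at this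
  refine hc fun n hn => mem_center_iff.2 fun g => ?_
  exact (mem_cent_iff.1 ((h.eq_top C[N] h2).ge (mem_top g)) n hn).symm

theorem center_eq (h : MinZ p x) : center G = ⊥ := by
  by_contra hne
  obtain ⟨X, hX, hq⟩ := exists_prime_le hne
  have hXn : X.Normal := ⟨fun n hn g => by rw [mem_center_iff.1 (hX hn) g]; simpa using hn⟩
  by_cases e : p ∣ o[X]
  · have hXp : o[X] = p := ((Nat.prime_dvd_prime_iff_eq hp.out hq).1 e).symm
    refine h.not_cent fun g => h.iso g ?_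
    have h1 := h.quot X (ne_bot_of_card_prime hq) (QuotientGroup.mk g)
    set K := (pPrimeCore p (G ⧸ X)).comap (QuotientGroup.mk' X)
    have hXK : X ≤ K := fun y hy => by
      rw [mem_comap, QuotientGroup.mk'_apply, (QuotientGroup.eq_one_iff y).2 hy]; exact one_mem _
    have hS : Syl p X K := ⟨hXK, isPGroup_of_card' hXp, by
      have := card_map_mul_card_inf_ker (QuotientGroup.mk' X) K
      rw [map_comap_eq_self_of_surjective (QuotientGroup.mk'_surjective X), QuotientGroup.ker_mk',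
        inf_eq_right.2 hXK, ← card_mul_relIndex hXK, mul_comm] at this
      rw [← Nat.eq_of_mul_eq_mul_left (card_pos' X) this]
      exact not_dvd_pPrimeCore⟩
    have hc : K ⊓ N[X] ≤ C[X] := fun y _ => mem_cent_iff.2 fun a ha => (mem_center_iff.1 (hX ha) y).symm
    have := (hS.npc_of_norm_le_cent hc).sup_eq hS
    rw [h.core_normal, bot_sup_eq] at this
    have h2 : g * x * g⁻¹ * x⁻¹ ∈ X := by rw [this]; exact h1
    have h3 := mem_center_iff.1 (hX h2) x
    show x * (g * x * g⁻¹) = g * x * g⁻¹ * x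
    calc x * (g * x * g⁻¹) = x * (g * x * g⁻¹ * x⁻¹) * x := by group
      _ = _ := by rw [h3]; group
  · exact ne_bot_of_card_prime hq (le_bot_iff.1 (h.core ▸ le_pPrimeCoreOf le_top (top_le_norm_iff.2 hXn) e))

theorem der_le (h : MinZ p x) (N : Subgroup G) [N.Normal] (h0 : N ≠ ⊥) : commutator G ≤ N := by
  have h1 := h.sup_eq N (by rw [h.center_eq]; exact fun e => h0 (le_bot_iff.1 e))
  have := commutator_le_of_sup (M := ⊤) (top_le_norm_iff.2 inferInstance) h1
  rwa [comm_self_eq_bot_iff.2 (inferInstance : Ab[zpowers x]), sup_bot_eq] at this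

end MinZ
end

end CfsgL0
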