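import Cfsg.Agent.H2.BG0

/-! Miscellaneous lemmas, part 1. -/

namespace CfsgL0
open Subgroup Function Cfsg CfsgH2
open scoped commutatorElement

variable {G : Type*} [Group G] [Finite G] {A B H K L M N P Q : Subgroup G}

/-- the abelian case of Wielandt's generalization of Frobenius' theorem -/
theorem exists_normal_of_ti (hH : H ≤ M) (hc : ⁅M, M⁆ ≤ H) (h : ∀ g ∉ M, M ⊓ M.map (cj g) ≤ H) :
    ∃ K : Subgroup G, K.Normal ∧ commutator G ≤ K ∧ K ⊓ M = H := by
  classical
  have hn : (H.subgroupOf M).Normal := (normal_subgroupOf_iff' hH).2 (le_norm_of_commutator_le hc hH)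
  letI : CommGroup (M ⧸ H.subgroupOf M) := { (inferInstance : Group (M ⧸ H.subgroupOf M)) with
    mul_comm := fun a b => by
      obtain ⟨a, rfl⟩ := QuotientGroup.mk_surjective a
      obtain ⟨b, rfl⟩ := QuotientGroup.mk_surjective b
      rw [← QuotientGroup.mk_mul, ← QuotientGroup.mk_mul, QuotientGroup.eq]
      have := hc (commutator_mem_commutator (M.inv_mem b.2) (M.inv_mem a.2))
      rw [mem_subgroupOf]
      simpa [commutatorElement_def, mul_assoc] using this }
  let φ : M →* M ⧸ H.subgroupOf M := QuotientGroup.mk' _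
  have key : ∀ x (hx : x ∈ M), φ.transfer x = φ ⟨x, hx⟩ := by
    intro x hx
    haveI := Fintype.ofFinite (Quotient (MulAction.orbitRel (zpowers x) (G ⧸ M)))
    rw [MonoidHom.transfer_eq_prod_quotient_orbitRel_zpowers_quot,
      Finset.prod_eq_single (Quotient.mk'' ((1 : G) : G ⧸ M))]
    · set q := (Quotient.mk'' ((1 : G) : G ⧸ M) : Quotient (MulAction.orbitRel (zpowers x) (G ⧸ M))).out with hq
      have h1 : q = ((1 : G) : G ⧸ M) := by
        obtain ⟨⟨y, hy⟩, e⟩ : q ∈ MulAction.orbit (zpowers x) ((1 : G) : G ⧸ M) :=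
          MulAction.orbitRel_apply.1 (Quotient.exact (Quotient.out_eq _))
        rw [← e]
        show ((y * 1 : G) : G ⧸ M) = _
        rw [eq_comm, QuotientGroup.eq]
        simpa using zpowers_le.2 hx hy
      have h2 : q.out ∈ M := by
        have := QuotientGroup.eq.1 (h1.symm.trans (Quotient.out_eq q).symm)
        simpa using this
      have h3 : Function.minimalPeriod (x • ·) q = 1 := by
        rw [Function.minimalPeriod_eq_one_iff_isFixedPt, h1]
        show ((x * 1 : G) : G ⧸ M) = _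
        rw [eq_comm, QuotientGroup.eq]
        simpa using hx
      have : (⟨q.out⁻¹ * x ^ Function.minimalPeriod (x • ·) q * q.out,
          QuotientGroup.out_conj_pow_minimalPeriod_mem M x q⟩ : M) = (⟨_, h2⟩ : M)⁻¹ * ⟨x, hx⟩ * ⟨_, h2⟩ :=
        Subtype.ext (by simp [h3])
      rw [this, map_mul, map_mul, map_inv, mul_comm, ← mul_assoc, mul_inv_cancel, one_mul]
    · intro q _ hq
      refine (QuotientGroup.eq_one_iff _).2 (h q.out.out⁻¹ (fun hm => hq ?_)
        ⟨QuotientGroup.out_conj_pow_minimalPeriod_mem M x q.out, ?_⟩)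
      · rw [← Quotient.out_eq q]
        refine congrArg _ ?_
        rw [← Quotient.out_eq q.out]
        exact QuotientGroup.eq.2 (by simpa using hm)
      · have := conj_mem_map_cj (g := q.out.out⁻¹) (M.pow_mem hx (Function.minimalPeriod (x • ·) q.out))
        rwa [inv_inv] at this
    · exact fun h => absurd (Finset.mem_univ _) h
  refine ⟨φ.transfer.ker, inferInstance, Abelianization.commutator_subset_ker _, ?_⟩
  ext x
  exact ⟨fun hx => (QuotientGroup.eq_one_iff (⟨x, hx.2⟩ : M)).1 ((key x hx.2).symm.trans hx.1),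
    fun hx => ⟨(key x (hH hx)).trans ((QuotientGroup.eq_one_iff (⟨x, hH hx⟩ : M)).2 hx), hH hx⟩⟩

omit [Finite G] in
theorem eq_of_coatom_sub (h : IsCoatom (H.subgroupOf M)) (h1 : H ≤ K) (h2 : K ≤ M) : K = H ∨ K = M := by
  rcases (comap_mono h1 : H.subgroupOf M ≤ K.subgroupOf M).eq_or_lt with e | e
  · left
    replace e : H.subgroupOf M = K.subgroupOf M := e
    rw [← inf_eq_left.2 h2, ← subgroupOf_map_subtype, ← e, subgroupOf_map_subtype, inf_eq_left.2 (h1.trans h2)]
  · exact Or.inr (le_antisymm h2 (subgroupOf_eq_top.1 (h.2 _ e)))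

theorem gamma_triple (hH : H ≤ M) (hcl : ∀ g : G, (H ⊔ H.map (cj g)) ⊓ M = H) (hne : H ≠ M)
    (hm : ∀ K, H ≤ K → K ≤ M → K = H ∨ K = M) (hM : IsCoatom M) :
    ∃ K : Subgroup G, K.Normal ∧ K ⊓ M = H ∧ (H = ⊥ → M.Normal ∨ commutator G ≤ K ∨ K = ⊥ ∧ ∃ g ∉ M, M ⊓ M.map (cj g) ≠ ⊥) := by
  have hn : M ≤ N[H] := fun g hg => mem_norm_of_map_le
    ((le_inf le_sup_right (map_cj_le_of_mem hH hg)).trans (hcl g).le)
  by_cases h : ∀ g ∉ M, M ⊓ M.map (cj g) ≤ H
  · obtain ⟨x, hx, hx'⟩ := SetLike.exists_of_lt (lt_of_le_of_ne hH hne)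
    have e := (hm (H ⊔ zpowers x) le_sup_left (sup_le hH (zpowers_le.2 hx))).resolve_left
      fun e => hx' (e.le (mem_sup_right (mem_zpowers x)))
    have := commutator_le_of_sup hn e
    rw [comm_self_eq_bot_iff.2 (inferInstance : Ab[zpowers x]), sup_bot_eq] at this
    obtain ⟨K, h1, h2, h3⟩ := exists_normal_of_ti hH this h
    exact ⟨K, h1, h3, fun _ => Or.inr (Or.inl h2)⟩
  push Not at h
  obtain ⟨g, hg, h1⟩ := h
  obtain ⟨x, hx, hx'⟩ := SetLike.not_le_iff_exists.1 h1
  by_cases hN : H.Normal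
  · exact ⟨H, hN, inf_eq_left.2 hH, fun e => Or.inr (Or.inr ⟨e, g, hg, fun e2 => h1 (e2 ▸ bot_le)⟩)⟩
  have hNM : N[H] = M := ((hM.le_iff.1 hn).resolve_left fun e => hN (normal_of_top_le_norm e.ge))
  have e := (hm (H ⊔ zpowers x) le_sup_left (sup_le hH (zpowers_le.2 hx.1))).resolve_left
    fun e => hx' (e.le (mem_sup_right (mem_zpowers x)))
  have n1 : x ∈ N[(H ⊔ H.map (cj g) : Subgroup G)] := mem_norm_sup (hn hx.1) (by
    rw [normalizer_map_cj, hNM]; exact hx.2)
  have n2 : M ≤ N[(H ⊔ H.map (cj g) : Subgroup G)] :=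
    e ▸ sup_le (le_sup_left.trans le_normalizer) (zpowers_le.2 n1)
  refine ⟨H ⊔ H.map (cj g), normal_of_top_le_norm ((hM.le_iff.1 n2).resolve_right fun e2 => hg ?_).ge, hcl g,
    fun e => absurd (e ▸ inferInstance) hN⟩
  rw [← hNM]
  exact mem_norm_of_map_le ((le_inf le_sup_right (le_sup_right.trans (le_normalizer.trans e2.le))).trans (hcl g).le)

end CfsgL0
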