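import Cfsg.Agent.H8.P2a
import Cfsg.Agent.H2.PG1
import Cfsg.Agent.H2.BG0
import Cfsg.Agent.H2.Inj

/-! Groups whose non-cyclic subgroups are self-centralizing: the examples. -/

namespace CfsgL0
open Function Subgroup Cfsg CfsgH2 CfsgH8

theorem mem_of_cyc_two {G : Type*} [Group G] [Finite G] {T D H : Subgroup G} {g : G} (c : Cyc[T]) (p : PG[2, T])
    (hg : g ∈ T) (o : orderOf g = 2) (l : H ≤ D) (i : T.relIndex D = 2) (n : ¬ Cyc[H]) : g ∈ H := by
  by_cases e : T ⊓ H = ⊥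
  · have h1 := relIndex_le_of_le_right (H := T) l (by omega)
    rw [← inf_relIndex_right, e, relIndex_bot_left, i] at h1
    have := Nat.card_pos (α := H)
    rcases (by omega : o[H] = 1 ∨ o[H] = 2) with k | k
    · exact (n (by rw [card_eq_one.1 k]; infer_instance)).elim
    · exact (n (isCyclic_of_prime_card k)).elim
  obtain ⟨k, hk⟩ := IsPGroup.iff_card.1 (p.to_le (inf_le_left : T ⊓ H ≤ T))
  obtain ⟨x, hx, ox⟩ := exists_prime_order_mem (H := T ⊓ H) Nat.prime_two
    (hk ▸ dvd_pow_self 2 (by rintro rfl; exact e (card_eq_one.1 hk)))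
  exact eq_of_orderOf_two c hx.1 hg ox o ▸ hx.2

theorem two_pow_of_four {q c k : ℕ} (h : q = 2 ^ k + 1 ∨ q = 2 ^ k - 1) (hc : c = q + 1 ∨ c = q - 1) (h4 : 4 ∣ c)
    (q1 : 1 < q) : ∃ j, c = 2 ^ j := by
  rcases k with _ | _ | k
  · omega
  · exact ⟨2, by omega⟩
  have : 0 < 2 ^ k := by positivity
  refine ⟨k + 2, ?_⟩
  rw [pow_add] at *
  omega

theorem ncs_psl {F : Type*} [Field F] [Fintype F] (hF : Fintype.card F = 4 ∨ Fintype.card F = 9 ∨
    ((Fintype.card F).Prime ∧ ∃ k : ℕ, Fintype.card F = 2 ^ k + 1 ∨ Fintype.card F = 2 ^ k - 1))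
    (H : Subgroup (Matrix.ProjectiveSpecialLinearGroup (Fin 2) F)) (n : ¬ Cyc[H]) : C[H] ≤ H := by
  intro g hg
  by_cases g1 : g = 1
  · exact g1 ▸ one_mem H
  have l : H ≤ C1[g] := le_cent1_iff.2 hg
  obtain ⟨z, rfl, s, hz⟩ := exists_lift_trace g1
  have mc (K : Subgroup (Matrix.ProjectiveSpecialLinearGroup (Fin 2) F)) := map_comap_eq_self_of_surjective πS_surj K
  rcases hz with r | t
  · by_cases k : Fintype.card F % 2 = 0 ∨ z.1.trace ≠ 0
    · rw [← mc C1[_], comap_cent k] at l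
      exact (n (CfsgH2.isCyclic_of_le (isCyclic_map _ (isTor_centralizer r).isCyclic) l)).elim
    push Not at k
    have hq : Fintype.card F % 2 = 1 := by omega
    obtain ⟨C, N, h, hz, -⟩ := exists_torN_of_reg r
    obtain ⟨j, hj⟩ : ∃ j, o[C] = 2 ^ j := by
      obtain ⟨i, hk⟩ : ∃ k : ℕ, Fintype.card F = 2 ^ k + 1 ∨ Fintype.card F = 2 ^ k - 1 := by
        rcases hF with e | e | ⟨-, e⟩
        · omega
        · exact ⟨3, .inl e⟩
        · exact e
      exact two_pow_of_four hk h.tor.card (orderOf_of_trace_zero hq k.2 ▸ C.orderOf_dvd_natCard hz) Fintype.one_lt_card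
    refine mem_of_cyc_two (isCyclic_map πS h.tor.isCyclic) ((IsPGroup.of_card hj).map _) (mem_map_of_mem _ hz)
      (orderOf_eq_prime (πS_sq_iff.2 (.inr k.2)) g1) l ?_ n
    rw [← mc C1[_], h.comap_cent hq hz k.2, ← relIndex_comap, comap_map_πS h.tor.neg_one_mem, h.relIndex]
  have e := ci_unip s t
  have q1 : 1 < Fintype.card F := Fintype.one_lt_card
  rw [← ci_mul (πS z), card_comap_πS, Nat.mul_right_inj index_ne_zero_of_finite,
    Nat.mul_right_inj (Nat.gcd_pos_of_pos_left _ two_pos).ne'] at e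
  have d := card_dvd_of_le l
  have k (p : ℕ) (hp : p.Prime) (h : Fintype.card F = p ∨ Fintype.card F = p ^ 2) : πS z ∈ H := by
    have := Fact.mk hp
    obtain ⟨i, hi, k⟩ := (Nat.dvd_prime_pow (m := 2) hp).1 (d.trans (e ▸ h.elim (· ▸ dvd_pow_self p two_ne_zero) (·.dvd)))
    rcases i with _ | _ | i
    · exact (n (by rw [card_eq_one.1 k]; infer_instance)).elim
    · exact (n (isCyclic_of_prime_card (k.trans (pow_one p)))).elim
    refine (eq_of_le_of_card_ge l ?_).ge (mem_centralizer_singleton_iff.2 rfl)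
    rw [← e, k, (by omega : i + 1 + 1 = 2)]
    exact h.elim (· ▸ Nat.le_self_pow two_ne_zero p) (·.le)
  rcases hF with e | e | ⟨e, -⟩
  exacts [k 2 Nat.prime_two (.inr e), k 3 Nat.prime_three (.inr e), k _ e (.inl rfl)]

theorem odd_geom {x : ℤ} {m n : ℕ} (hx : Odd x) (hm : Odd m) (h : x ^ m - 1 ∣ 2 ^ n) :
    x ^ m - 1 = x - 1 ∨ x ^ m - 1 = 1 - x := by
  obtain ⟨j, rfl⟩ := hm
  have o : Odd (∑ i ∈ Finset.range (2 * j + 1), x ^ i) := by
    clear h
    induction j with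
    | zero => simp
    | succ j ih =>
      rw [(by ring : 2 * (j + 1) + 1 = 2 * j + 1 + 1 + 1), Finset.sum_range_succ, Finset.sum_range_succ, add_assoc]
      exact ih.add_even (hx.pow.add_odd hx.pow)
  rw [← geom_sum_mul] at h ⊢
  rcases Int.isUnit_iff.1 (((Int.isCoprime_two_right.2 o).pow_right (n := n)).isUnit_of_dvd ((dvd_mul_right _ _).trans h)) with e | e <;>
    simp [e]

theorem pp_two_pow {p m k : ℕ} (hp : p.Prime) (hm : m ≠ 0) (h : p ^ m = 2 * 2 ^ k + 1 ∨ p ^ m + 1 = 2 * 2 ^ k) :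
    m = 1 ∨ p ^ m = 9 := by
  have po : Odd p := (Nat.odd_pow_iff hm).1 (Nat.odd_iff.2 (by omega))
  have p1 := Nat.one_lt_pow hm hp.one_lt
  have p2 := hp.two_le
  rcases m.even_or_odd with ⟨j, rfl⟩ | o
  · obtain ⟨y, hy⟩ := po.pow (n := j)
    rw [pow_add, hy, (by ring : (2 * y + 1) * (2 * y + 1) = 4 * (y * (y + 1)) + 1)] at h p1 ⊢
    rcases k with _ | k
    · omega
    rw [pow_succ] at h
    have e : y * (y + 1) = 2 ^ k := by omega
    obtain ⟨a, -, ha⟩ := (Nat.dvd_prime_pow Nat.prime_two).1 (Dvd.intro _ e)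
    obtain ⟨b, -, hb⟩ := (Nat.dvd_prime_pow Nat.prime_two).1 (Dvd.intro_left _ e)
    rcases a with _ | a
    · simp [ha]
    have := Nat.two_pow_pos a
    rcases b with _ | b <;> simp only [pow_succ, pow_zero] at ha hb <;> omega
  refine .inl (Nat.pow_right_injective p2 (?_ : p ^ m = p ^ 1))
  rw [pow_one]
  rcases h with h | h
  · have := odd_geom (n := k + 1) po.natCast o (by rw [← Nat.cast_pow, h]; push_cast; exact Dvd.intro 1 (by ring))
    rw [← Nat.cast_pow] at this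
    omega
  · have := odd_geom (n := k + 1) po.natCast.neg o (by
      rw [o.neg_pow, ← Nat.cast_pow, ← neg_add', ← Nat.cast_add_one, h]; push_cast; exact Dvd.intro (-1) (by ring))
    rw [o.neg_pow, ← Nat.cast_pow] at this
    omega

end CfsgL0
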