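import Cfsg.Agent.L0.NCS1
import Cfsg.Agent.L0.BW5
import Cfsg.Agent.L0.MC2
import Cfsg.Agent.L0.Isolated
import Cfsg.Agent.H1.TT2
import Cfsg.Agent.H4.ZS
import Cfsg.Agent.H2.FT
import Cfsg.Agent.S3224

/-! Simple groups whose non-cyclic subgroups are self-centralizing. -/

namespace CfsgL0
open Function Subgroup Cfsg CfsgH2 CfsgH8

variable {G : Type*} [Group G] [Finite G] {S : Subgroup G} {a b t u z : G} {m : ℕ}

theorem invol_mem_pCore (ht : t * t = 1) (h0 : ∀ y, ¬ 2 ∣ orderOf y → t * y * t⁻¹ = y⁻¹ → y = 1) : t ∈ pCore 2 G := by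
  refine CfsgH1.mem_pCore_of_baer fun g => ?_
  have h1 := conj_mul_self ht g
  obtain ⟨a, -, _, ⟨j, rfl⟩, hx, h2, h3⟩ := exists_pi_parts {2} (t * (g * t * g⁻¹))
  obtain ⟨k, hk⟩ := (piN_singleton Nat.prime_two (orderOf_pos a).ne').1 h2
  beta_reduce at hx h3
  rw [h0 _ ((piN_compl_singleton Nat.prime_two).1 h3) (by rw [← conj_zpow, left_inverts_mul ht h1, inv_zpow]), mul_one] at hx
  exact ⟨_, isPGroup_closure_pair ht h1 (k := k) (by rw [hx, ← hk, pow_orderOf_eq_one]),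
    subset_closure (by simp [CfsgH1.cn]), le_normalizer (subset_closure (by simp))⟩

theorem ncs_invol (h : ∀ H : Subgroup G, ¬ Cyc[H] → C[H] ≤ H) (hS : Syl 2 S ⊤) (l : S ≤ C1[z]) (hz : orderOf z = 2)
    (hu : u ∈ C1[z]) (u2 : u * u = 1) : u ∈ S := by
  have s := hS.mono l le_top
  by_cases e : u = z
  · exact s.le_of_norm (isPGroup_zpowers (k := 1) (by simpa [pow_two] using u2)) (zpowers_le.2 hu)
      (l.trans (e ▸ (cent_zpowers z).ge.trans (CfsgH2.cent_le_norm _))) (mem_zpowers u)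
  refine s.le_of_norm isPGroup_piCoreOf piCoreOf_le (l.trans le_norm_piCoreOf) (map_pCore_subtype.le ⟨⟨u, hu⟩,
    invol_mem_pCore (Subtype.ext u2) fun y o e1 => Subtype.ext (by_contra fun y1 => ?_), rfl⟩)
  obtain ⟨y, hy⟩ := y
  rw [orderOf_mk] at o
  replace e1 : u * y * u⁻¹ = y⁻¹ := congrArg Subtype.val e1
  have k {w : G} (c : w * y * w⁻¹ = y⁻¹) (c' : w * y = y * w) : False :=
    o (ord2 y1 (by rw [c', mul_inv_cancel_right] at c; exact mul_eq_one_iff_eq_inv.2 c) ▸ dvd_rfl)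
  obtain ⟨_, ⟨i, rfl⟩, w, hw, e2⟩ := (mem_sup_of_norm' (zpowers_le.2 (mem_norm_zpowers (e1 ▸ inv_mem (mem_zpowers y))))).1
    (h (zpowers y ⊔ zpowers u) (fun c => k e1 (comm_of_isMulComm inferInstance (mem_sup_right (mem_zpowers u))
      (mem_sup_left (mem_zpowers y)))) (le_cent1_iff.1 (sup_le (zpowers_le.2 hy) (zpowers_le.2 hu))))
  beta_reduce at e2
  rcases zpowers_two u2 hw with rfl | rfl
  · exact o (hz ▸ orderOf_dvd_of_mem_zpowers ⟨i, (mul_one _).symm.trans e2⟩)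
  · exact k (by rw [← e2, mul_inv_rev, ← mul_assoc, mul_assoc (y ^ i), mul_assoc (y ^ i), e1]; group)
      (mem_centralizer_singleton_iff.1 hy).symm

theorem ncs_sd (h : ∀ H : Subgroup G, ¬ Cyc[H] → C[H] ≤ H) (hS : Syl 2 S ⊤) (s : SD S a b m) : ¬ Fz a (a * b) := by
  rintro ⟨g, hg⟩
  have M := s.toMC
  have c {g : G} (h : g * a ^ 2 ^ m * g⁻¹ ∈ zpowers a) : g ∈ C1[a ^ 2 ^ m] := mem_centralizer_singleton_iff.2
    (mul_inv_eq_iff_eq_mul.1 (mc_eq_z M h ((orderOf_conj g _).trans (mc_ord_z M))))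
  have l : S ≤ C1[a ^ 2 ^ m] := fun x hx => c ((mem_normalizer_iff.1 (M.le_norm hx) _).1 (pow_mem (mem_zpowers a) _))
  have gC := c (by rw [← s.ab2, ← conj_mul]; exact mul_mem hg hg)
  have e1 : g * (a * b) * g⁻¹ * b * (g * (a * b) * g⁻¹ * b) = 1 := (mc_sq_congr M M.bmem M.nmem (by
    rw [mul_inv_cancel_right]
    refine mc_mem_sq M hg (orderOf_dvd_iff_pow_eq_one.1 ?_)
    rw [orderOf_conj, s.ord_ab]
    exact pow_dvd_pow 2 s.two)).trans s.b2
  have k {x : G} (hx : x ∈ S) (x2 : x * x = 1) : g⁻¹ * x * g⁻¹⁻¹ ∈ S ∧ g⁻¹ * x * g⁻¹⁻¹ * (g⁻¹ * x * g⁻¹⁻¹) = 1 :=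
    ⟨ncs_invol h hS l (mc_ord_z M) (mul_mem (mul_mem (inv_mem gC) (l hx)) (inv_mem (inv_mem gC))) (conj_mul_self x2 _),
      conj_mul_self x2 _⟩
  obtain ⟨u1, u2⟩ := k (mul_mem (M.ale hg) M.bmem) e1
  obtain ⟨v1, v2⟩ := k M.bmem s.b2
  have e2 : g⁻¹ * (g * (a * b) * g⁻¹ * b) * g⁻¹⁻¹ * (g⁻¹ * b * g⁻¹⁻¹) = a * b := by
    rw [conj_mul, mul_assoc _ b, s.b2]; group
  generalize g⁻¹ * (g * (a * b) * g⁻¹ * b) * g⁻¹⁻¹ = u, g⁻¹ * b * g⁻¹⁻¹ = v at *
  have k2 {x y : G} (hx : x ∈ zpowers a) (x2 : x * x = 1) (hy : y ∈ S) : Commute x y := by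
    rcases eq_half_of_sq M.ord hx x2 with rfl | rfl
    exacts [Commute.one_left y, (mem_centralizer_singleton_iff.1 (l hy)).symm]
  have k3 (c : Commute u v) : False := half_ne_one M.ord (by
    rw [← s.ab2, ← e2, ← pow_two, c.mul_pow, pow_two, pow_two, u2, v2, one_mul])
  refine (mc_ab M).2 (e2 ▸ ?_)
  simpa using mul_mem ((M.mem_iff.1 u1).resolve_left fun e => k3 (k2 e u2 v1))
    (inv_mem ((M.mem_iff.1 (inv_mem v1)).resolve_left fun e => k3 (k2 (inv_mem_iff.1 e) v2 u1).symm))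

theorem ncs_dih [IsSimpleGroup G] (hna : ¬ IsMulCommutative G) (h : ∀ H : Subgroup G, ¬ Cyc[H] → C[H] ≤ H) :
    ∃ (s t : G) (R : Subgroup G), PG[2, R] ∧ BW t s R := by
  have ev : 2 ∣ Nat.card G := by_contra fun e =>
    hna ⟨⟨IsSimpleGroup.comm_iff_isSolvable.2 (ft (Nat.odd_iff.2 (Nat.two_dvd_ne_zero.1 e)))⟩⟩
  have top {H : Subgroup G} (n : H.Normal) (o : ¬ 2 ∣ o[H]) : H = ⊥ :=
    n.eq_bot_or_eq_top.resolve_right fun e => o (by rwa [e, card_top])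
  obtain ⟨x, y, ox, oy, c, xy⟩ : ∃ x y : G, orderOf x = 2 ∧ orderOf y = 2 ∧ Commute x y ∧ x ≠ y := by
    by_contra! k
    obtain ⟨t, ht⟩ := exists_prime_orderOf_dvd_card' 2 ev
    exact hna ⟨⟨fun a b => (mem_center_iff.1 (((inferInstance : (center G).Normal).eq_bot_or_eq_top.resolve_left
      fun e => inv_ne_one ht (mem_bot.1 (e ▸ CfsgH4.brauer_suzuki k (top inferInstance (CfsgH1.not_dvd_card_pPrimeCore 2)) ht))).ge
        (mem_top b)) a)⟩⟩
  have V := k4_of (inv_mul_self ox) (inv_ne_one ox) (inv_mul_self oy)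
    (fun e => (zpowers_two (inv_mul_self ox) e).elim (inv_ne_one oy) xy.symm) c.symm
  generalize zpowers x ⊔ zpowers y = V' at V
  clear ox oy c xy x y
  obtain ⟨S, hS, l⟩ := exists_syl_ge V.pg le_top
  obtain ⟨S, rfl⟩ := hS.exists_top
  have c4 : 4 ≤ o[(S : Subgroup G)] := V.1 ▸ card_le_of_le l
  obtain ⟨-, i2, ns⟩ := simple_even_facts (even_iff_two_dvd.2 ev)
    (lt_of_lt_of_le (by omega) (card_le_card_group (S : Subgroup G)))
  obtain ⟨z, zS, oz⟩ : ∃ z ∈ Z[(S : Subgroup G)], orderOf z = 2 := exists_prime_order_mem Nat.prime_two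
    (dvd_card_of_pgroup (S.isPGroup'.to_le inf_le_left) (center_ne_bot S.isPGroup' (S.ne_bot_of_dvd_card ev)))
  have zV := h _ V.not_cyc (centralizer_le l zS.2)
  obtain ⟨x, xV, xz⟩ : ∃ x ∈ V', x ∉ zpowers z := by
    by_contra! k
    have := card_le_of_le (show V' ≤ zpowers z from k)
    rw [V.1, Nat.card_zpowers, oz] at this
    omega
  have eV := V.eq_sup zV (inv_ne_one oz) xV xz
  have cV {g : G} (h1 : g ∈ C1[z]) (h2 : g ∈ C1[x]) : g ∈ V' :=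
    h _ V.not_cyc (le_cent1_iff.1 (eV ▸ sup_le (zpowers_le.2 (mem_centralizer_singleton_iff.2
      (mem_centralizer_singleton_iff.1 h1).symm)) (zpowers_le.2 (mem_centralizer_singleton_iff.2
      (mem_centralizer_singleton_iff.1 h2).symm))))
  have lz : (S : Subgroup G) ≤ C1[z] := le_cent1_iff.2 zS.2
  obtain ⟨n, hn, ⟨e⟩⟩ : ∃ n, 2 ≤ n ∧ Nonempty ((S : Subgroup G) ≃* DihedralGroup n) := by
    have e : C1[(⟨x, l xV⟩ : S)] = V'.subgroupOf S := by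
      ext g
      rw [mem_centralizer_singleton_iff, mem_subgroupOf, Subtype.ext_iff]
      exact ⟨fun e => cV (lz g.2) (mem_centralizer_singleton_iff.2 e), fun e => comm_of_isMulComm V.ab e xV⟩
    rcases Cfsg.Agent.S3224.result S.isPGroup' ⟨x, l xV⟩ ((orderOf_mk ..).trans (ord2 (fun e => xz (e ▸ one_mem _)) (V.2 x xV)))
      (by rw [e, Nat.card_congr (subgroupOfEquivOfLe l).toEquiv, V.1]) with ⟨n, ⟨e⟩⟩ | e | e
    · exact ⟨n, by rw [Nat.card_congr e.toEquiv, DihedralGroup.nat_card] at c4; omega, ⟨e⟩⟩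
    · obtain ⟨a, b, m, s⟩ := sd_of' e
      by_cases f : Fz a b
      · exact (i2 _ (mc_foc_one s.toMC s.nq hS s.bmem s.nmem (mc_ab s.toMC).1 (mc_ab s.toMC).2
          (fun v => mc_out_cases s.toMC) f (ncs_sd h hS s)).2).elim
      obtain ⟨K, n, k⟩ := (exists_compl_iff_npc S).2 (mc_foc_none s.toMC s.nq hS f (ncs_sd h hS s))
      rw [top n (k.index_eq_card ▸ S.not_dvd_index), isComplement'_bot_left] at k
      have := ((k ▸ S.isPGroup' : PG[2, (⊤ : Subgroup G)]).of_equiv topEquiv).isNilpotent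
      exact (ns inferInstance).elim
    have := k4_iff.2 (eq_of_le_of_card_ge l (by rw [e, V.1]) ▸ V)
    exact ⟨2, le_rfl, IsKleinFour.nonempty_mulEquiv⟩
  have hO : ⊥ = O[{2}ᶜ, C1[z]] := by
    have d := (inf_eq_bot_of_coprime' (coprime_of_pgroup S.isPGroup' (not_dvd_piCoreOf (M := C1[z])))).le
    refine (eq_bot_iff.2 fun y hy => d ⟨l (cV (piCoreOf_le hy) (mem_centralizer_singleton_iff.2 ?_)), hy⟩).symm
    have xC : x ∈ C1[z] := lz (l xV)
    have yC : y ∈ C1[z] := piCoreOf_le hy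
    have := d (mem_inf.2 ⟨mul_mem (ncs_invol h hS lz oz (mul_mem (mul_mem yC xC) (inv_mem yC))
      (conj_mul_self (V.2 x xV) y)) (inv_mem (l xV)), by
        rw [mul_assoc, mul_assoc, ← mul_assoc x]
        exact mul_mem hy ((mem_normalizer_iff.1 (le_norm_piCoreOf xC) _).1 (inv_mem hy))⟩)
    rwa [mem_bot, mul_inv_eq_one, mul_inv_eq_iff_eq_mul] at this
  obtain ⟨s, R, lR, -, w⟩ := bw_dih S hn e oz zS.1 (fun s hs => mem_centralizer_iff.1 zS.2 s hs) hO (fun e => (e rfl).elim)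
    (by simp) fun Y hY e => (e (le_bot_iff.1 hY)).elim
  exact ⟨s, z, R, S.isPGroup'.to_le lR, bot_sup_eq R ▸ w⟩

theorem ncs_main [IsSimpleGroup G] (hna : ¬ IsMulCommutative G) (h : ∀ H : Subgroup G, ¬ Cyc[H] → C[H] ≤ H) :
    ∃ (F : Type) (_ : Field F) (_ : Fintype F), (Fintype.card F = 4 ∨ Fintype.card F = 9 ∨
      ((Fintype.card F).Prime ∧ ∃ k : ℕ, Fintype.card F = 2 ^ k + 1 ∨ Fintype.card F = 2 ^ k - 1)) ∧
      Nonempty (G ≃* Matrix.ProjectiveSpecialLinearGroup (Fin 2) F) := by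
  obtain ⟨s, t, R, pR, w⟩ := ncs_dih hna h
  obtain ⟨F, _, _, h1, h2⟩ := w.psl
  refine ⟨F, inferInstance, inferInstance, .inr ?_, h2⟩
  obtain ⟨j, hj⟩ := IsPGroup.iff_card.1 pR
  obtain ⟨p, -, m, hp, hm⟩ := FiniteField.card' F
  rw [hj, hm] at h1
  rw [hm]
  refine (pp_two_pow hp m.ne_zero h1).symm.imp_right fun e => ⟨by rwa [e, pow_one], j + 1, ?_⟩
  rw [pow_succ 2 j]
  omega

end CfsgL0
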