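import Cfsg.Agent.H8.FC5
import Cfsg.Agent.H2.Pq4
import Cfsg.Agent.L0.G3

/-! Non-cyclic abelian groups of odd order acting on 2-groups with fixed points of rank one. -/

namespace CfsgL0
open Subgroup Cfsg CfsgH2 CfsgH4

variable {G : Type*} [Group G] [Finite G] {p : ℕ} [hp : Fact p.Prime] {K A B Q R : Subgroup G} {a b : G}

theorem cent_or_two (hp2 : p ≠ 2) (hB : PG[p, B]) (n : B ≤ N[R]) (c : o[R] ∣ 8) {z : G} (oz : orderOf z = 2) (hz : z ∈ R ⊓ C[B]) :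
    R ≤ C[B] ∨ (p = 3 ∧ o[R] = 8 ∧ R ⊓ C[B] = zpowers z) := by
  have m := card_modEq_inf_cent hB n
  have d := card_dvd_of_le (inf_le_left (a := R) (b := C[B]))
  have d2 := card_dvd_of_le (zpowers_le.2 hz)
  rw [Nat.card_zpowers, oz] at d2
  obtain ⟨i, hi, e⟩ := (Nat.dvd_prime_pow Nat.prime_two (m := 3)).1 c
  obtain ⟨j, hj, e'⟩ := (Nat.dvd_prime_pow Nat.prime_two).1 (e ▸ d)
  by_cases k : j = i
  · exact .inl (inf_eq_left.1 (eq_of_le_of_card_le inf_le_left (by rw [e, e', k])))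
  rw [e, e'] at m
  rw [e'] at d2
  have q {n : ℕ} (k : p ∣ 2 ^ n) : False := hp2 ((Nat.prime_dvd_prime_iff_eq hp.out Nat.prime_two).1 (hp.out.dvd_of_dvd_pow k))
  have m' := (Nat.modEq_iff_dvd' (Nat.pow_le_pow_right two_pos hj)).1 m.symm
  interval_cases i <;> interval_cases j <;> try omega
  · exact (q (n := 1) m').elim
  · refine .inr ⟨((Nat.Prime.dvd_mul hp.out (m := 2) (n := 3)).1 m').elim (fun k => (q (n := 1) k).elim)
      (Nat.prime_dvd_prime_iff_eq hp.out Nat.prime_three).1, e, (eq_of_le_of_card_le (zpowers_le.2 hz) ?_).symm⟩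
    rw [e', Nat.card_zpowers, oz]; rfl
  · exact (q (n := 2) m').elim

theorem q33 (hp2 : p ≠ 2) (hK : PG[2, K]) (hA : PG[p, A]) (ab : Ab[A]) (nc : ¬ Cyc[A]) (n : A ≤ N[K]) (f : A ⊓ C[K] = ⊥)
    (h : ∀ e ∈ A, e ≠ 1 → ∀ x ∈ K ⊓ C1[e], ∀ y ∈ K ⊓ C1[e], orderOf x = 2 → orderOf y = 2 → x = y) :
    o[A] = 9 ∧ IsExtraspecial 2 K ∧ (o[K] = 2 ^ 5 ∨ o[K] = 2 ^ 7 ∨ o[K] = 2 ^ 9) ∧ K ⊓ C[A] = Z[K] := by
  have : Fact (Nat.Prime 2) := ⟨Nat.prime_two⟩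
  obtain ⟨k, hk⟩ := IsPGroup.iff_card.1 hA
  obtain ⟨t, ht⟩ := IsPGroup.iff_card.1 hK
  have odd : Odd o[A] := hk ▸ (hp.out.odd_of_ne_two hp2).pow
  have cop {R : Subgroup G} (l : R ≤ K) : o[A].Coprime o[R] :=
    .coprime_dvd_right (card_dvd_of_le l) (ht ▸ (Nat.coprime_two_right.2 odd).pow_right t)
  have n1 {e} (he : e ∈ A) : A ≤ N[C1[e]] := le_normalizer.trans' fun x hx => mem_centralizer_singleton_iff.2 (setLike_mul_comm hx he)
  have nQ {e} (he : e ∈ A) : A ≤ N[K ⊓ C1[e]] := le_norm_inf n (n1 he)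
  have cA {e} (he : e ∈ A) : C[A] ≤ C1[e] := fun x hx => mem_centralizer_singleton_iff.2 (hx e he).symm
  have ty {e} (he : e ∈ A) (e1 : e ≠ 1) : K ⊓ C1[e] ≤ C[A] ∨ ∃ a b, GQ (K ⊓ C1[e]) a b 1 := by
    rcases cyc_or_gq (hK.to_le inf_le_left) fun x hx y hy ox oy _ => h e he e1 x hx y hy ox oy with k | ⟨a, b, m, q⟩
    · exact .inl (le_centralizer_iff.1 (cent_of_cyc (hK.to_le inf_le_left) odd (nQ he) k))
    refine or_iff_not_imp_left.2 fun k => ?_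
    obtain ⟨g, hg, k⟩ := SetLike.not_le_iff_exists.1 (mt le_centralizer_iff.1 k)
    obtain rfl := CfsgH8.FC.GQ_one q (odd.of_dvd_nat (orderOf_dvd_of_mem hg)) (nQ he hg) k
    exact ⟨a, b, q⟩
  obtain ⟨e₁, he₁, e₁1, k₁⟩ : ∃ e ∈ A, e ≠ 1 ∧ ¬ K ⊓ C1[e] ≤ C[A] := by
    by_contra! k
    exact nc (by rw [← inf_eq_left.2 (le_centralizer_iff.1 (le_of_cent1 ab nc n (cop le_rfl) k)), f]; infer_instance)
  obtain ⟨a₁, b₁, q₁⟩ := (ty he₁ e₁1).resolve_left k₁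
  obtain ⟨z, hz⟩ : ∃ z, z = a₁ ^ 2 ^ 1 := ⟨_, rfl⟩
  have oz : orderOf z = 2 := hz ▸ q₁.ord_t
  have zQ : z ∈ K ⊓ C1[e₁] := hz ▸ q₁.tmem
  have zA : z ∈ C[A] := fun g hg => mul_inv_eq_iff_eq_mul.1 (h e₁ he₁ e₁1 _ (conj_mem_of_norm (nQ he₁ hg) zQ) z zQ
    (((MulAut.conj g).orderOf_eq z).trans oz) oz)
  obtain ⟨rfl, -, c₁⟩ := (cent_or_two hp2 hA (nQ he₁) q₁.card.dvd oz ⟨zQ, zA⟩).resolve_left k₁
  have cK : K ⊓ C[A] = zpowers z := c₁ ▸ le_antisymm (le_inf (inf_le_inf_left _ (cA he₁)) inf_le_right) (inf_le_inf_right _ inf_le_left)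
  have ze {e} (he : e ∈ A) : z ∈ K ⊓ C1[e] := ⟨zQ.1, cA he zA⟩
  have ty' {e} (he : e ∈ A) (e1 : e ≠ 1) : K ⊓ C1[e] ≤ zpowers z ∨ ∃ a b, GQ (K ⊓ C1[e]) a b 1 ∧ z = a ^ 2 ^ 1 :=
    (ty he e1).imp (fun k => cK ▸ le_inf inf_le_left k) fun ⟨a, b, q⟩ => ⟨a, b, q, q.eq_of_two (ze he) oz⟩
  have gen {R J : Subgroup G} (l : R ≤ K) (nR : A ≤ N[R])
      (k : ∀ e ∈ A, ∀ a b, GQ (K ⊓ C1[e]) a b 1 → z = a ^ 2 ^ 1 → R ⊓ C1[e] ≤ J) (zJ : z ∈ J) : R ≤ J :=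
    le_of_cent1 ab nc nR (cop l) fun e he e1 => (ty' he e1).elim
      (fun k => (inf_le_inf_right _ l).trans (k.trans (zpowers_le.2 zJ))) fun ⟨a, b, q, e'⟩ => k e he a b q e'
  have kz : K ≤ C1[z] := gen le_rfl n (fun e he a b q e' x hx => mem_centralizer_singleton_iff.2 (mul_inv_eq_iff_eq_mul.1
    ((q.eq_of_two (conj_mem_of_norm (le_normalizer hx) (ze he)) (((MulAut.conj x).orderOf_eq z).trans oz)).trans e'.symm)))
    (mem_centralizer_singleton_iff.2 rfl)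
  have zc : zpowers z ≤ C[K] := zpowers_le.2 fun x hx => mem_centralizer_singleton_iff.1 (kz hx)
  have na {e a b} (q : GQ (K ⊓ C1[e]) a b 1) (k : a ∈ C[K ⊓ C1[e]]) : False := q.sq_a_ne (q.sq_of_cent q.amem k)
  have der : ⁅K, K⁆ ≤ zpowers z := by
    by_contra k
    obtain ⟨R, l, ⟨h1, h2, h3⟩, hm⟩ := exists_minimal_le (fun R => K ≤ N[R] ∧ A ≤ N[R] ∧ ¬ R ≤ zpowers z)
      ⟨le_norm_comm_left, le_norm_commutator n n, k⟩
    have lK := l.trans (commutator_le_self K)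
    have h4 : ⁅R, K⁆ ≤ zpowers z := by_contra fun k =>
      have lt := commutator_lt_of_nilpotent hK.isNilpotent lK h1 fun e => h3 (e ▸ bot_le)
      lt.ne (hm _ ⟨le_norm_comm_right, le_norm_commutator h2 n, k⟩ lt.le)
    have h5 := commutator_eq_bot_iff_le_centralizer.2 (h4.trans zc)
    have h6 := commutator_eq_bot_iff_le_centralizer.1 (commutator_commutator_eq_bot_of_rotate (commutator_comm R K ▸ h5) h5)
    refine h3 (gen lK h2 (fun e he a b q e' => by_contra fun k => ?_) (mem_zpowers z))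
    have l1 : R ⊓ C1[e] ≤ K ⊓ C1[e] := inf_le_inf_right _ lK
    obtain ⟨x, hx, k'⟩ := SetLike.not_le_iff_exists.1 k
    have zR : z ∈ R ⊓ C1[e] := by
      have x1 : x * x ≠ 1 := fun e1 => k' ((q.eq_of_sq (l1 hx) e1).elim (fun e => e ▸ one_mem _) fun e => e ▸ e' ▸ mem_zpowers _)
      by_cases xa : x ∈ zpowers a
      · have : x * x * (x * x) = 1 := by
          obtain ⟨i, rfl⟩ := xa
          have := pow_orderOf_eq_one a
          rw [q.ord] at this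
          simp only [← zpow_add, (by ring : i + i + (i + i) = ((2 ^ (1 + 1) : ℕ) : ℤ) * i), zpow_mul, zpow_natCast, this, one_zpow]
        exact e' ▸ (q.eq_of_sq (l1 (mul_mem hx hx)) this).resolve_left x1 ▸ mul_mem hx hx
      · exact e' ▸ q.sq_eq (l1 hx) xa ▸ mul_mem hx hx
    rcases cent_or_two hp2 hA (le_norm_inf h2 (n1 he)) ((card_dvd_of_le l1).trans q.card.dvd) oz ⟨zR, zA⟩ with k1 | ⟨-, k1, -⟩
    · exact k (cK ▸ le_inf (inf_le_left.trans lK) k1)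
    have := eq_of_le_of_card_le l1 (q.card.trans k1.symm).le
    exact na q fun y hy => h6 (l (this.ge q.amem).1) y (this.ge hy).1
  have cZ : Z[K] = zpowers z := le_antisymm (gen inf_le_left (n.trans norm_le_norm_center) (fun e he a b q e' x hx =>
    (q.eq_of_sq ⟨hx.1.1, hx.2⟩ (q.sq_of_cent ⟨hx.1.1, hx.2⟩ fun y hy => hx.1.2 y hy.1)).elim (fun e => e ▸ one_mem _)
      fun e => e ▸ e' ▸ mem_zpowers _) (mem_zpowers z)) (le_inf (zpowers_le.2 zQ.1) zc)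
  have ne {e} (he : e ∈ A) (e1 : e ≠ 1) (k : K ≤ K ⊓ C1[e]) : False :=
    e1 (f.le ⟨he, fun x hx => mem_centralizer_singleton_iff.1 (k hx).2⟩)
  obtain ⟨e₂, he₂, e₂1, k₂⟩ : ∃ e ∈ A, e ≠ 1 ∧ ¬ K ⊓ C1[e] ≤ K ⊓ C1[e₁] := by
    by_contra! k
    exact ne he₁ e₁1 (le_of_cent1 ab nc n (cop le_rfl) k)
  obtain ⟨a₂, b₂, q₂, -⟩ := (ty' he₂ e₂1).resolve_left fun k => k₂ (k.trans (zpowers_le.2 zQ))
  have ix {e a b} (he : e ∈ A) (q : GQ (K ⊓ C1[e]) a b 1) : C[K ⊓ C1[e]].relIndex A ≤ 3 := by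
    obtain ⟨φ, hφ⟩ := CfsgH8.FC.q8_hom q
    have : (φ.comp (inclusion (nQ he))).ker = C[K ⊓ C1[e]].subgroupOf A := Subgroup.ext fun g => hφ _
    have d := card_subgroup_dvd_card (φ.comp (inclusion (nQ he))).range
    rw [← index_ker, this, Nat.card_perm, Nat.card_fin] at d
    obtain ⟨j, -, hj⟩ := (Nat.dvd_prime_pow hp.out).1 (hk ▸ relIndex_dvd_card C[K ⊓ C1[e]] A)
    rw [← relIndex, hj] at d
    rw [hj]
    rcases j with _ | _ | j
    exacts [by norm_num, le_rfl, absurd ((Dvd.intro_left _ (pow_add 3 j 2).symm).trans d) (by decide)]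
  have eq {e a b g} (q : GQ (K ⊓ C1[e]) a b 1) (hg : g ∈ A) (g1 : g ≠ 1) (k : g ∈ C[K ⊓ C1[e]]) : K ⊓ C1[e] = K ⊓ C1[g] := by
    have l : K ⊓ C1[e] ≤ K ⊓ C1[g] := fun x hx => ⟨hx.1, mem_centralizer_singleton_iff.2 (k x hx)⟩
    rcases ty' hg g1 with k | ⟨a', b', q', -⟩
    · exact (na q (centralizer_le (SetLike.coe_subset_coe.2 inf_le_left) (zc (k (l q.amem))))).elim
    · exact eq_of_le_of_card_le l (q'.card.trans q.card.symm).le
  have h9 : o[A] = 9 := by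
    have b : (C[K ⊓ C1[e₁]] ⊓ C[K ⊓ C1[e₂]]) ⊓ A = ⊥ := eq_bot_iff.2 fun g hg => by_contra fun g1 =>
      k₂ ((eq q₂ hg.2 g1 hg.1.2).trans (eq q₁ hg.2 g1 hg.1.1).symm).le
    have := (relIndex_inf_le (L := A)).trans (Nat.mul_le_mul (ix he₁ q₁) (ix he₂ q₂))
    rw [← inf_relIndex_right, b, relIndex_bot_left, hk] at this
    rcases k with _ | _ | _ | k
    · exact (nc (by rw [card_eq_one.1 hk]; infer_instance)).elim
    · exact (nc (isCyclic_of_prime_card hk)).elim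
    · exact hk
    · have := Nat.one_le_pow k 3 three_pos
      omega
  refine ⟨h9, extraspecial_iff.2 ⟨⟨hK, by rw [cZ, Nat.card_zpowers, oz], cZ ▸ der⟩, fun k => na q₁ fun y hy =>
    setLike_mul_comm hy.1 q₁.amem.1⟩, ?_, cK.trans cZ.symm⟩
  have ex (x) (hx : x ∈ A) : x ^ 3 = 1 := by
    obtain ⟨j, hj, e⟩ := (Nat.dvd_prime_pow hp.out (m := 2)).1 (h9 ▸ orderOf_dvd_of_mem hx)
    interval_cases j
    · rw [orderOf_eq_one_iff.1 e, one_pow]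
    · exact orderOf_dvd_iff_pow_eq_one.1 e.dvd
    · exact (nc (eq_of_le_of_card_le (zpowers_le.2 hx) (by rw [Nat.card_zpowers, e, h9]; rfl) ▸ inferInstance)).elim
  obtain ⟨u, hu, nu⟩ := SetLike.not_le_iff_exists.1 fun k : A ≤ zpowers e₁ => nc (le_antisymm k (zpowers_le.2 he₁) ▸ inferInstance)
  have o3 {x} (hx : x ∈ A) (x1 : x ≠ 1) := orderOf_eq_prime (ex x hx) x1
  have u1 : u ≠ 1 := fun e => nu (e ▸ one_mem _)
  have nm : u ∈ N[zpowers e₁] := mem_norm_zpowers (by rw [setLike_mul_comm hu he₁, mul_inv_cancel_right]; exact mem_zpowers _)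
  have sA : zpowers e₁ ⊔ zpowers u = A := eq_of_le_of_card_le (sup_le (zpowers_le.2 he₁) (zpowers_le.2 hu)) (by
    rw [card_sup_zpowers_prime hp.out nm (ex u hu ▸ one_mem _) nu, h9, Nat.card_zpowers, o3 he₁ e₁1])
  have st {H : Subgroup G} (l : H ≤ K) (zH : z ∈ H) {e} (he : e ∈ A) (e1 : e ≠ 1) : o[H ⊔ K ⊓ C1[e]] ≤ o[H] * 4 := by
    have c := card_sup_mul_card_inf' (H := H) (K := K ⊓ C1[e]) (inf_le_left.trans (le_norm_of_commutator_le (der.trans (zpowers_le.2 zH)) l))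
    have c2 := card_le_of_le (zpowers_le.2 (show z ∈ H ⊓ (K ⊓ C1[e]) from ⟨zH, ze he⟩))
    have c3 : o[K ⊓ C1[e]] ≤ 8 := (ty' he e1).elim (fun k => (card_le_of_le k).trans (by rw [Nat.card_zpowers, oz]; norm_num))
      fun ⟨_, _, q, _⟩ => q.card.le
    rw [Nat.card_zpowers, oz] at c2
    nlinarith
  have w1 : e₁ * u ≠ 1 := fun e => nu (by rw [eq_inv_of_mul_eq_one_right e]; exact inv_mem (mem_zpowers _))
  have w2 : e₁ * u ^ 2 ≠ 1 := fun e => nu (by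
    rw [pow_two, ← mul_assoc] at e
    have := ex u hu
    rw [pow_succ, pow_two] at this
    rw [← mul_right_cancel (mul_right_cancel (e.trans this.symm))]; exact mem_zpowers _)
  have s1 := st inf_le_left zQ hu u1
  have s2 := st (sup_le inf_le_left inf_le_left) (mem_sup_left zQ : z ∈ _ ⊔ K ⊓ C1[u]) (mul_mem he₁ hu) w1
  have s3 := st (sup_le (sup_le inf_le_left inf_le_left) inf_le_left) (mem_sup_left (mem_sup_left zQ) : z ∈ _ ⊔ K ⊓ C1[u] ⊔ K ⊓ C1[e₁ * u])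
    (mul_mem he₁ (pow_mem hu 2)) w2
  have s4 := card_le_of_le (le_of_cent1 (M := K ⊓ C1[e₁] ⊔ K ⊓ C1[u] ⊔ K ⊓ C1[e₁ * u] ⊔ K ⊓ C1[e₁ * u ^ 2]) ab nc n (cop le_rfl)
    fun e he e1 => by
      obtain ⟨_, ⟨i, rfl⟩, j, rfl⟩ := (mem_sup_zpowers nm).1 (sA.ge he)
      have r {x} (hx : x ∈ A) (i : ℤ) : ∃ m < 3, x ^ i = x ^ m := ⟨(i % 3).toNat, by omega, by
        rw [← zpow_natCast, Int.toNat_of_nonneg (by omega)]; exact zpow_eq_zpow_emod' i (ex x hx)⟩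
      obtain ⟨i, hi, h1⟩ := r he₁ i
      obtain ⟨j, hj, h2⟩ := r hu j
      simp only [h1, h2] at e1 ⊢
      have s : K ⊓ C1[e₁ ^ i * u ^ j] ≤ K ⊓ C1[e₁ ^ (i * 2 % 3) * u ^ (j * 2 % 3)] := inf_le_inf_left _ (by
        rw [← pow_eq_pow_mod _ (ex _ he₁), ← pow_eq_pow_mod _ (ex _ hu), pow_mul, pow_mul, ← Commute.mul_pow
          (setLike_mul_comm (pow_mem he₁ i) (pow_mem hu j))]
        exact c1_le_pow _ _)
      interval_cases i <;> interval_cases j <;> simp only [pow_zero, pow_one, one_mul, mul_one, Nat.reduceMul, Nat.reduceMod] at e1 s ⊢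
      exacts [(e1 rfl).elim, le_sup_of_le_left (le_sup_of_le_left le_sup_right), s.trans (le_sup_of_le_left (le_sup_of_le_left le_sup_right)),
        le_sup_of_le_left (le_sup_of_le_left le_sup_left), le_sup_of_le_left le_sup_right, le_sup_right,
        s.trans (le_sup_of_le_left (le_sup_of_le_left le_sup_left)), s.trans le_sup_right, s.trans (le_sup_of_le_left le_sup_right)])
  have s5 : 8 < o[K] := lt_of_not_ge fun k => ne he₁ e₁1 (eq_of_le_of_card_le inf_le_left (k.trans q₁.card.ge)).ge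
  have m := card_modEq_inf_cent hA n
  rw [cK, Nat.card_zpowers, oz, ht] at m
  have s6 : 2 ^ t ≤ 2 ^ 9 := ht ▸ s4.trans (s3.trans (Nat.mul_le_mul_right 4 (s2.trans (Nat.mul_le_mul_right 4 (s1.trans
    (Nat.mul_le_mul_right 4 q₁.card.le))))))
  have := (Nat.pow_le_pow_iff_right one_lt_two).1 s6
  rw [ht] at s5 ⊢
  exact (by decide : ∀ t ≤ 9, 8 < 2 ^ t → 2 ^ t % 3 = 2 % 3 → 2 ^ t = 2 ^ 5 ∨ 2 ^ t = 2 ^ 7 ∨ 2 ^ t = 2 ^ 9) t this s5 m

end CfsgL0
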