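import Cfsg.Agent.S2791
import Cfsg.Agent.H1.Misc1
import Cfsg.Agent.H2.PG3
import Cfsg.Agent.H1.HH
import Cfsg.Agent.H2.FT
import Cfsg.Agent.S3861
import Cfsg.Agent.S0215

/-! Strongly closed abelian subgroups; Camina's theorem on `p`-central elements; real elements of `2`-groups. -/

namespace CfsgL0
open Function Subgroup Cfsg CfsgH2
open scoped commutatorElement

universe u
variable {G : Type u} [Group G] [Finite G] {p : ℕ} [hp : Fact p.Prime] {A Q S : Subgroup G} {g x : G}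

theorem sca_fusion (hS : Syl p S ⊤) (hA : Ab[A]) (hsc : IsStronglyClosed A S) (hx : x ∈ S) (hg : g * x * g⁻¹ ∈ S) :
    ∃ n ∈ N[A], n * x * n⁻¹ = g * x * g⁻¹ := by
  obtain ⟨P, rfl⟩ := hS.exists_top
  obtain ⟨T, h1, h2⟩ := Cfsg.Agent.S2791.result P A hA hsc
  obtain ⟨h, -, e⟩ := (syl_top T).conj hS
  have hn : h ∈ N[A] := mem_norm_of_conj fun a ha => hsc.2 a ha h (e ▸ conj_mem_map_cj (h1 ha))
  rw [← e, mem_map_cj] at hx hg
  obtain ⟨n, n1, n2⟩ := (h2 {h⁻¹ * x * h} (Set.singleton_subset_iff.2 hx)).2 (h⁻¹ * g * h) (by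
    rintro _ ⟨_, rfl, rfl⟩
    have e : h⁻¹ * g * h * (h⁻¹ * x * h) * (h⁻¹ * g * h)⁻¹ = h⁻¹ * (g * x * g⁻¹) * h := by group
    exact (congrArg (· ∈ (T : Subgroup G)) e).mpr hg)
  refine ⟨h * n * h⁻¹, mul_mem (mul_mem hn n1) (inv_mem hn), ?_⟩
  calc _ = h * (n * (h⁻¹ * x * h) * n⁻¹) * h⁻¹ := by group
    _ = _ := by rw [← n2 _ rfl]; group

/-- every element of `S` is conjugate into the centre of `S` -/
def CCen (S : Subgroup G) : Prop := ∀ x ∈ S, ∃ g, g * x * g⁻¹ ∈ S ⊓ C[S]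

theorem ccen_of (hS : Syl p S ⊤) (h : ∀ x : G, (∃ k, orderOf x = p ^ k) → ¬ p ∣ C1[x].index) : CCen S := fun x hx => by
  obtain ⟨T, h1, h2⟩ := exists_syl_ge (M := C1[x]) (hS.pg.to_le (zpowers_le.2 hx)) (zpowers_le.2 (self_mem_cent1 x))
  obtain ⟨g, -, rfl⟩ := (h1.trans le_top (by rw [relIndex_top_right]; exact h x (pgroup_mem_order hS.pg hx))).conj hS
  refine ⟨g, conj_mem_map_cj (h2 (mem_zpowers x)), ?_⟩
  rw [centralizer_map_cj]
  exact conj_mem_map_cj (le_cent1_iff.1 h1.le)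

theorem CCen.norm (h : CCen S) (hS : Syl p S ⊤) (hA : Ab[A]) (hsc : IsStronglyClosed A S) :
    (∀ x ∈ S, ∃ n ∈ N[A], n * x * n⁻¹ ∈ S ⊓ C[S]) ∧ A ≤ C[S] := by
  have k : ∀ x ∈ S, ∃ n ∈ N[A], n * x * n⁻¹ ∈ S ⊓ C[S] := fun x hx => by
    obtain ⟨g, hg⟩ := h x hx
    obtain ⟨n, n1, n2⟩ := sca_fusion hS hA hsc hx hg.1
    exact ⟨n, n1, n2 ▸ hg⟩
  refine ⟨k, le_centralizer_iff.1 fun x hx => ?_⟩
  obtain ⟨n, n1, n2⟩ := k x hx
  simpa [mul_assoc] using conj_mem_of_norm' (norm_le_norm_cent _ n1) (cent_anti hsc.1 n2.2)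

theorem CCen.ab (h : CCen S) (hS : Syl p S ⊤) (hA : Ab[A]) (hsc : IsStronglyClosed A S) (hc : ⁅S, S⁆ ≤ A) : Ab[S] := by
  obtain ⟨h1, h2⟩ := h.norm hS hA hsc
  refine isMulComm_iff.2 fun y hy x hx => mem_cent_iff.1 ?_ y hy
  obtain ⟨n, n1, n2⟩ := h1 x hx
  have k : ∀ z ∈ S, S ≤ N[(A ⊔ zpowers z : Subgroup G)] := fun z hz =>
    le_norm_of_comm_le ((commutator_mono (sup_le hsc.1 (zpowers_le.2 hz)) le_rfl).trans hc) le_sup_left
  obtain ⟨c, c1, c2⟩ := ((hS.map_cj_mem (mem_top n)).mono (K := N[(A ⊔ zpowers (n * x * n⁻¹) : Subgroup G)]) (by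
    have := map_le_norm_map (CfsgH2.cj n) (k x hx)
    rwa [Subgroup.map_sup, map_cj_eq n1, MonoidHom.map_zpowers] at this) le_top).conj (hS.mono (k _ n2.1) le_top)
  rw [map_cj_cj, map_cj_eq_iff] at c2
  have := conj_mem_of_norm' (norm_le_norm_cent _ c2) (sup_le h2 (zpowers_le.2 n2.2)
    (conj_mem_of_norm c1 (mem_sup_right (mem_zpowers _))))
  simpa [mul_assoc] using this

/-- Camina: if every `2`-element is `2`-central then the Sylow `2`-subgroups are abelian. -/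
theorem ccen_two (n : ℕ) : ∀ (G : Type u) [Group G] [Finite G], Nat.card G = n → ∀ S : Subgroup G, Syl 2 S ⊤ → CCen S → Ab[S] := by
  induction n using Nat.strong_induction_on with
  | _ n ih =>
  intro G _ _ hn S hS h
  have k : ∀ a ∈ S, ∀ b ∈ S, a * a = 1 → b * b = 1 → a * b = b * a := fun a ha b hb a2 b2 => by
    obtain ⟨g, hg⟩ := h _ (mul_mem ha hb)
    have a1 : a⁻¹ = a := inv_eq_of_mul_eq_one_right a2
    have b1 : b⁻¹ = b := inv_eq_of_mul_eq_one_right b2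
    have := CfsgH1.sq_eq_one_of_real (x := g * (a * b) * g⁻¹) (y := g * a * g⁻¹) (by
      calc _ = g * (a * a * b * a⁻¹) * g⁻¹ := by group
        _ = g * (b⁻¹ * a⁻¹) * g⁻¹ := by rw [a2, b1, one_mul]
        _ = _ := by group) (mem_top _) (hS.not_dvd_of_le (le_cent1_iff.2 hg.2))
    rw [conj_pow, conj_eq_one_iff, sq] at this
    rw [← inv_eq_of_mul_eq_one_right this, mul_inv_rev, a1, b1]
  let A : Subgroup G :=
    { carrier := {x | x ∈ S ∧ x * x = 1}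
      mul_mem' := fun {a b} ha hb => ⟨mul_mem ha.1 hb.1, by
        calc _ = a * (b * a) * b := by group
          _ = (a * a) * (b * b) := by rw [← k a ha.1 b hb.1 ha.2 hb.2]; group
          _ = 1 := by rw [ha.2, hb.2, one_mul]⟩
      one_mem' := ⟨one_mem _, one_mul _⟩
      inv_mem' := fun {a} ha => ⟨inv_mem ha.1, by rw [← mul_inv_rev, ha.2, inv_one]⟩ }
  have hA : Ab[A] := isMulComm_iff.2 fun a ha b hb => k a ha.1 b hb.1 ha.2 hb.2
  have hsc : IsStronglyClosed A S := ⟨fun _ h => h.1, fun a ha g hg => ⟨hg, by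
    calc _ = g * (a * a) * g⁻¹ := by group
      _ = 1 := by rw [ha.2]; group⟩⟩
  by_cases h0 : S = ⊥
  · exact h0 ▸ inferInstance
  obtain ⟨t, t1, t2⟩ := exists_prime_order_mem Nat.prime_two (dvd_card_of_pgroup hS.pg h0)
  have A0 : A ≠ ⊥ := fun e => by
    have : t ∈ A := ⟨t1, by rw [← sq, ← t2, pow_orderOf_eq_one]⟩
    rw [e, mem_bot] at this
    simp [this] at t2
  obtain ⟨h1, h2⟩ := h.norm hS hA hsc
  have l : S ≤ N[A] := le_norm_of_le_cent (le_centralizer_iff.1 h2)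
  refine h.ab hS hA hsc ((isMulComm_qt_iff l).1 (ih _ (hn ▸ card_Qt_lt A0) _ rfl _
    (qt_norm_self (K := A) ▸ (hS.mono l le_top).qt le_rfl) fun y hy => ?_))
  obtain ⟨x, hx, rfl⟩ := mem_qt.1 hy
  obtain ⟨m, m1, m2⟩ := h1 x hx
  refine ⟨qmk A ⟨m, m1⟩, ?_⟩
  rw [← map_inv, ← map_mul, ← map_mul]
  exact ⟨qmk_mem_qt _ m2.1, qmk_mem_cent _ m2.2⟩

/-- an odd automorphism of a `2`-group fixing all real elements is trivial -/
theorem cent_of_real (hg : Odd (orderOf g)) (n : ℕ) : ∀ Q : Subgroup G, Nat.card Q = n → PG[2, Q] → g ∈ N[Q] →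
    (∀ x ∈ Q, ∀ y ∈ Q, y * x * y⁻¹ = x⁻¹ → x ∈ C1[g]) → g ∈ C[Q] := by
  induction n using Nat.strong_induction_on with
  | _ n ih =>
  intro Q hn hQ h1 h
  by_contra hc
  have z1 := zpowers_le.2 h1
  obtain ⟨-, e1, -, e2, -⟩ := CfsgH1.hh_reduction hQ z1 le_rfl le_normalizer (by
    rw [Nat.card_zpowers]; exact Nat.two_dvd_ne_zero.2 (Nat.odd_iff.1 hg)) (mt zpowers_le.1 hc) fun R l h2 =>
      zpowers_le.2 (ih _ (hn ▸ card_lt_of_lt l) R rfl (hQ.to_le l.le) (zpowers_le.1 h2)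
        fun x hx y hy => h x (l.le hx) y (l.le hy))
  obtain ⟨x, hx, x1⟩ := SetLike.not_le_iff_exists.1 (mt le_cent1_iff.1 hc)
  rcases e2 with e2 | ⟨e2, e3⟩
  · exact x1 (h x hx 1 (one_mem _) (by simpa [sq, eq_inv_iff_mul_eq_one] using e2.2 x hx))
  have c : ∀ y ∈ Q, ⁅x, y⁆ ∈ Z[Q] := fun y hy => e3 ▸ commutator_mem_commutator hx hy
  let W : Subgroup G :=
    { carrier := {w | ∃ y ∈ Q, ⁅x, y⁆ = w}
      mul_mem' := by
        rintro _ _ ⟨a, ha, rfl⟩ ⟨b, hb, rfl⟩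
        refine ⟨a * b, mul_mem ha hb, ?_⟩
        calc _ = ⁅x, a⁆ * (a * ⁅x, b⁆) * a⁻¹ := by group
          _ = _ := by rw [mem_cent_iff.1 (c b hb).2 a ha]; group
      one_mem' := ⟨1, one_mem _, by group⟩
      inv_mem' := by
        rintro _ ⟨a, ha, rfl⟩
        refine ⟨a⁻¹, inv_mem ha, ?_⟩
        calc _ = (a⁻¹ * ⁅x, a⁆⁻¹) * a := by group
          _ = _ := by rw [mem_cent_iff.1 (inv_mem (c a ha).2) _ (inv_mem ha)]; group }
  have w1 : W ≤ Z[Q] := by rintro _ ⟨a, ha, rfl⟩; exact c a ha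
  have w2 : Q ≤ N[W] := le_norm_of_le_cent (le_centralizer_iff.1 (w1.trans inf_le_right))
  have w3 : zpowers g ≤ N[W] := le_norm_of_le_cent (le_centralizer_iff.1 (w1.trans (e2.ge.trans (e1.ge.trans inf_le_right))))
  have y1 : x ∈ Q ⊓ qc W C[qt W Q] := ⟨hx, (mem_qc' (w2 hx)).2 (mem_cent_iff.2 fun y hy => by
    obtain ⟨y, hy', rfl⟩ := mem_qt.1 hy
    rw [← map_mul, ← map_mul, qmk_eq_iff']
    convert inv_mem (show ⁅x, (y : G)⁆ ∈ W from ⟨y, hy', rfl⟩) using 1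
    simp [commutatorElement_def, mul_assoc])⟩
  by_cases y2 : Q ⊓ qc W C[qt W Q] = Q
  · obtain ⟨y, hy, e⟩ : x ^ 2 ∈ W := (qt_le_cent_iff w2 w2).1 ((qt_le_iff w2).2 (inf_eq_left.1 y2))
      (e3.ge (e2.le (pow_mem_phi hQ hx)))
    refine x1 (h x hx y hy (inv_injective ?_))
    calc _ = x⁻¹ * ⁅x, y⁆ := by group
      _ = _ := by rw [e]; group
  · have l := lt_of_le_of_ne inf_le_left y2
    exact x1 (le_cent1_iff.2 (ih _ (hn ▸ card_lt_of_lt l) _ rfl (hQ.to_le l.le) (zpowers_le.1 (le_norm_inf z1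
      (le_norm_qc w3 (le_norm_cent (qt_le_norm z1))))) fun x hx y hy => h x (l.le hx) y (l.le hy)) y1)

omit [Finite G] in
theorem index_cent_sub {H : Subgroup G} (y : H) : C1[y].index = C1[(y : G)].relIndex H := by
  rw [relIndex]
  congr 1
  ext z
  simp [mem_centralizer_singleton_iff, mem_subgroupOf, Subtype.ext_iff]

theorem sol_of_npc (h : NPC 2 Q) : Sol[Q] := by
  obtain ⟨S, hS⟩ := exists_syl 2 Q
  rw [← h.sup_eq hS, sup_comm]
  exact isSolvable_sup (isSolvable_of_pgroup hS.pg) (ft_of_not_dvd ((piN_compl_singleton Nat.prime_two).1 piN_piCoreOf))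
    (hS.le.trans le_norm_piCoreOf)

theorem sol_of_syl_norm (hS : Syl 2 S Q) (h : Q ≤ N[S]) : Sol[Q] :=
  isSolvable_of_qt h (ft_of_not_dvd (card_qt h ▸ hS.nd)) (isSolvable_of_pgroup (hS.pg.to_le inf_le_right))

theorem normal_of_real (hS : Syl 2 S ⊤) (h : ∀ x y : G, y * x * y⁻¹ = x⁻¹ → Odd (orderOf x) → x ^ 2 = 1) : S.Normal := by
  obtain ⟨P, rfl⟩ := hS.exists_top
  refine (Cfsg.Agent.S3861.result P).1 fun x x1 ho hc => ?_
  obtain ⟨y, hy⟩ := isConj_iff.1 hc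
  exact x1 (orderOf_eq_one_iff.1 (Nat.eq_one_of_dvd_coprimes ho.coprime_two_left
    (orderOf_dvd_of_pow_eq_one (h x y hy ho)) dvd_rfl))

/-- the `Z*`-theorem inside a subgroup -/
theorem zstar {M : Subgroup G} (hS : Syl 2 S M) (hx : x ∈ S) (h2 : orderOf x = 2)
    (h : ∀ g ∈ M, g * x * g⁻¹ ∈ S → g * x * g⁻¹ = x) : ⁅zpowers x, M⁆ ≤ O[{2}ᶜ, M] := by
  obtain ⟨P, rfl⟩ := hS.exists_sub
  obtain ⟨u, hu, rfl⟩ := hx
  obtain ⟨N, n1, n2, n3⟩ := Cfsg.Agent.S0215.result P u (by simpa using h2) hu fun g hg =>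
    Subtype.ext (h g g.2 ⟨_, hg, rfl⟩)
  have e : ⁅zpowers u, (⊤ : Subgroup M)⁆ ≤ N := by
    rw [← map_mk_eq_bot, map_commutator, comm_eq_bot_iff, MonoidHom.map_zpowers, zpowers_le, mem_cent_iff]
    rintro _ ⟨g, -, rfl⟩
    have := (QuotientGroup.eq_one_iff _).2 (n3 g)
    rw [mul_assoc, ← mul_inv_rev, QuotientGroup.mk_mul, QuotientGroup.mk_inv, mul_inv_eq_one] at this
    exact this.symm
  have := map_mono (f := M.subtype) e
  rw [map_commutator, MonoidHom.map_zpowers, map_subtype_top] at this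
  refine this.trans (le_piCoreOf (map_subtype_le _) ?_ (piN_map _ ((piN_compl_singleton Nat.prime_two).2
    (Nat.two_dvd_ne_zero.2 (Nat.odd_iff.1 n2)))))
  simpa [map_subtype_top] using map_le_norm_map M.subtype (top_le_norm_iff.2 n1)

end CfsgL0
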