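import Cfsg.Agent.H3.Bf4
import Cfsg.Agent.H3.Sm1
import Cfsg.Agent.H3.PF4
import Cfsg.Agent.H8.CC
import Cfsg.Agent.L0.S360
import Cfsg.Agent.S0985

/-! Simple groups with a strongly self-centralizing Sylow 3-subgroup of order 9. -/

namespace CfsgL0
open Cfsg Subgroup CfsgH2 CfsgBf CfsgH8
open CfsgH4 hiding cent_le_norm cent_sup
open CfsgH3 hiding cj cj_cj
open scoped ComplexConjugate

variable {G : Type*} [Group G] {u v : G}

theorem tri_comm (hu : u ^ 3 = 1) (hv : v ^ 3 = 1) (h : (u * v) ^ 3 = 1) :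
    Commute (u * v⁻¹) (v⁻¹ * u) ∧ u⁻¹ * (v⁻¹ * u) * u = (u * v⁻¹ * (v⁻¹ * u))⁻¹ := by
  have e {x : G} (h : x ^ 3 = 1) : x⁻¹ = x * x := inv_eq_of_mul_eq_one_right (by rw [← h, pow_three])
  have e1 : v⁻¹ * v⁻¹ = v := by rw [← mul_inv_rev, ← e hv, inv_inv]
  have e2 : u * v⁻¹ * (v⁻¹ * u) = u * v * u := by rw [mul_assoc, ← mul_assoc v⁻¹, e1, mul_assoc]
  refine ⟨?_, ?_⟩
  · rw [Commute, SemiconjBy, e2, mul_assoc v⁻¹, ← mul_assoc u u, ← e hu, ← mul_inv_rev, ← mul_inv_rev,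
      eq_inv_iff_mul_eq_one, ← h, pow_three]
    group
  · rw [e2, mul_assoc, mul_assoc, ← e hu]; group

theorem tri_conj [Finite G] (hu : u ^ 3 = 1) (hv : v ^ 3 = 1) (h : (u * v) ^ 3 = 1) (o : ¬ 3 ∣ orderOf (u * v⁻¹)) :
    IsConj u v := by
  obtain ⟨c, e⟩ := tri_comm hu hv h
  have e0 : u⁻¹ * (u * v⁻¹) * u = v⁻¹ * u := by group
  obtain ⟨k, hk⟩ := exists_pow_eq_self_of_coprime ((Nat.Prime.coprime_iff_not_dvd Nat.prime_three).2
    (show ¬ 3 ∣ orderOf (v⁻¹ * u) by rwa [← e0, ← inv_inv u, inv_inv u⁻¹, orderOf_conj, inv_inv]))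
  have e1 : u⁻¹ * (u * v⁻¹) ^ k * u = (v⁻¹ * u) ^ k := by simpa using (conj_pow (a := u⁻¹) (b := u * v⁻¹) (i := k)).symm
  have e2 : u⁻¹ * (v⁻¹ * u) ^ k * u = ((u * v⁻¹) ^ k * (v⁻¹ * u) ^ k)⁻¹ := by
    rw [← c.mul_pow, ← inv_pow, ← e]; simpa using (conj_pow (a := u⁻¹) (b := v⁻¹ * u) (i := k)).symm
  have c' := c.pow_pow k k
  rw [← pow_mul, mul_comm, pow_mul] at hk
  generalize (u * v⁻¹) ^ k = X, (v⁻¹ * u) ^ k = Y at *
  refine isConj_iff.2 ⟨Y * X⁻¹, ?_⟩
  calc Y * X⁻¹ * u * (Y * X⁻¹)⁻¹ = u * (u⁻¹ * Y * u * (u⁻¹ * X * u)⁻¹) * X * Y⁻¹ := by group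
    _ = u * (Y ^ 3)⁻¹ := by
      rw [e1, e2, mul_inv_rev, mul_assoc Y⁻¹, ← mul_inv_rev, ← c'.eq]; group
    _ = v := by rw [hk]; group

variable [Finite G] {P : Subgroup G} {M : Ideal AlgInt} {m : ℕ} {X : Finset (IrrCharacter G)}
  {ζ : (P →* ℂˣ) → IrrCharacter G} {a : IrrCharacter G → ℤ} {d δ : ℤ} {p : ℕ}

theorem cc_af (c : CC P) (s : Syl p P ⊤) : AF p P :=
  ⟨s, c.isMulComm, fun y hy y1 x hx => mem_centralizer_iff.2 fun _ hz => c.comm hz ((c y hy y1).le hx.1)⟩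

theorem tri_mem (c : CC P) (s : Syl 3 P ⊤) (hu : u ^ 3 = 1) (hv : v ^ 3 = 1) (h : (u * v) ^ 3 = 1) (n : ¬ IsConj u v)
    (h1 : u * v ∈ P) (h2 : u * v ≠ 1) : u ∈ P ∧ v ∈ P := by
  have o : 3 ∣ orderOf (u * v⁻¹) := by_contra fun o => n (tri_conj hu hv h o)
  obtain ⟨x1, g, hg⟩ := c.mem_cls_of_prime Nat.prime_three
    (dvd_card_of_pgroup s.pg fun e => h2 (mem_bot.1 (e ▸ h1))) o
  have c' := c.map_cj g⁻¹
  have k1 : u * v⁻¹ ∈ P.map (CfsgH2.cj g⁻¹) := ⟨_, hg, by simp [CfsgH2.cj, mul_assoc]⟩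
  have k2 : u ∈ P.map (CfsgH2.cj g⁻¹) := (s.map_cj_mem (mem_top g⁻¹)).le_of_norm' (isPGroup_zpowers (k := 1) hu) le_top
    (zpowers_le.2 (inv_mem_iff.1 (c'.mem_norm k1 x1 (by
      simpa [mul_assoc] using c'.mem_of_comm k1 x1 (tri_comm hu hv h).1.symm)))) (mem_zpowers u)
  have k3 := inv_mem_iff.1 ((mul_mem_cancel_left k2).1 k1)
  exact c'.eq_of_mem c (mul_mem k2 k3) h1 h2 ▸ ⟨k2, k3⟩

theorem cc_out [Fact p.Prime] [PMod p M] (c : CC P) (s : Syl p P ⊤) {χ : IrrCharacter G} (hχ : χ ∉ principalBlock M G)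
    {y : P} (hy : y ≠ 1) : χ.1 y = 0 := by
  classical
  have := Fintype.ofFinite (E P)
  have h1 := (cc_af c s).colB_eq (M := M) (y := y) hy
  rw [Finset.sum_eq_single 1 (fun e _ n => if_neg fun k => n ((cc_af c s).free e hy k)) (by simp), if_pos (by simp), colB,
    Finset.sum_apply] at h1
  have h2 := column_orthogonality_self (y : G)
  rw [c y y.2 (by simpa using hy)] at h2
  have h3 : ∑ ψ : IrrCharacter G, (if ψ ∈ principalBlock M G then ‖ψ.1 y‖ ^ 2 else 0) = Nat.card P := by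
    refine Complex.ofReal_injective ?_
    push_cast
    rw [← h1]
    refine Finset.sum_congr rfl fun ψ _ => ?_
    split_ifs <;> simp [Complex.conj_mul']
  rw [← h2, eq_comm, ← sub_eq_zero, ← Finset.sum_sub_distrib, Finset.sum_eq_zero_iff_of_nonneg
    fun ψ _ => by split_ifs <;> simp] at h3
  simpa [hχ] using h3 χ (Finset.mem_univ χ)

open Classical in
theorem cc3_count [Fintype P] (c : CC P) (s : Syl 3 P ⊤) (ex : ∀ x ∈ P, x ^ 3 = 1) (hm : o[N[P]] = m * o[P]) {x y : P}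
    (x1 : x ≠ 1) (y1 : y ≠ 1) (n1 : ¬ IsConj (x : G) y) (n2 : ¬ IsConj (x : G) y⁻¹) :
    ∑ z ∈ Finset.univ.erase (1 : P), Nat.card {p : G × G // IsConj x.1 p.1 ∧ IsConj y.1 p.2 ∧ p.1 * p.2 = z} = m ^ 2 := by
  have := Fintype.ofFinite G
  have k {x : P} (x1 : x ≠ 1) : (Finset.univ.filter fun b => b ∈ P ∧ IsConj x.1 b).card = m := by
    have := c.ncard_conj x.2 (by simpa using x1)
    rw [hm, Set.ncard_eq_toFinset_card', Set.toFinset_setOf] at this
    exact Nat.eq_of_mul_eq_mul_right Nat.card_pos this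
  have e {x : P} {u : G} (h : IsConj x.1 u) : u ^ 3 = 1 := by
    obtain ⟨g, rfl⟩ := isConj_iff.1 h
    rw [conj_pow, ex x x.2, mul_one, mul_inv_cancel]
  rw [pow_two, ← congrArg₂ (· * ·) (k x1) (k y1), ← Finset.card_product, Finset.card_eq_sum_card_fiberwise
    (f := fun p : G × G => if h : p.1 * p.2 ∈ P then (⟨_, h⟩ : P) else 1) (t := Finset.univ.erase 1)]
  · refine Finset.sum_congr rfl fun z hz => ?_
    have z1 := (Finset.mem_erase.1 hz).1
    rw [Nat.card_eq_fintype_card, Fintype.card_subtype]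
    refine congrArg _ (Finset.ext fun p => ?_)
    simp only [Finset.mem_filter, Finset.mem_univ, true_and, Finset.mem_product]
    refine ⟨fun ⟨h1, h2, h3⟩ => ?_, fun ⟨⟨h1, h2⟩, h3⟩ => ⟨h1.2, h2.2, ?_⟩⟩
    · obtain ⟨h4, h5⟩ := tri_mem c s (e h1) (e h2) (h3 ▸ ex z z.2) (fun k => n1 (h1.trans (k.trans h2.symm)))
        (h3 ▸ z.2) (by simpa [h3] using z1)
      exact ⟨⟨⟨h4, h1⟩, h5, h2⟩, by rw [dif_pos (mul_mem h4 h5)]; exact Subtype.ext h3⟩
    · rw [dif_pos (mul_mem h1.1 h2.1)] at h3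
      exact congrArg Subtype.val h3
  · intro p hp
    simp only [Finset.coe_product, Finset.coe_filter, Finset.mem_univ, true_and, Set.mem_prod, Set.mem_setOf_eq] at hp
    simp only [dif_pos (mul_mem hp.1.1 hp.2.1), Finset.coe_erase, Finset.coe_univ, Set.mem_diff, Set.mem_univ,
      true_and, Set.mem_singleton_iff, Subtype.ext_iff, coe_one, mul_eq_one_iff_eq_inv]
    obtain ⟨g, hg⟩ := isConj_iff.1 hp.2.2
    exact fun k => n2 (hp.1.2.trans (IsConj.symm (isConj_iff.2 ⟨g, by rw [k, ← hg]; simp [mul_assoc]⟩)))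

theorem cc3_eq [PMod 3 M] (c : CC P) (s : Syl 3 P ⊤) (ex : ∀ x ∈ P, x ^ 3 = 1) (hm : o[N[P]] = m * o[P])
    (h : BD M 3 P m X ζ a 0 δ) {x y : P} (x1 : x ≠ 1) (y1 : y ≠ 1) (n1 : ¬ IsConj (x : G) y) (n2 : ¬ IsConj (x : G) y⁻¹)
    {ψ : IrrCharacter G} (hψ : ψ ∈ exc ζ) : (o[P] ^ 2 * m ^ 2 : ℚ) = Nat.card G *
      ((o[P] - 1) * ∑ χ ∈ X, (a χ : ℚ) ^ 3 / charDegree χ.1 + δ * m * (∑ χ ∈ X, a χ ^ 2 : ℤ) / charDegree ψ.1) := by
  classical
  have := Fintype.ofFinite G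
  have := Fintype.ofFinite P
  have pp (z : P) : ppart 3 (z : G) = z := ppart_of_pelt (pelt_of_mem s.pg z.2)
  have all (f : IrrCharacter G → ℂ) : ∑ χ, χ.1 x * f χ = ∑ χ ∈ X, a χ * f χ + ∑ χ ∈ exc ζ, χ.1 x * f χ := by
    rw [← Finset.sum_congr (s₁ := X) (f := fun χ => χ.1 x * f χ) rfl fun χ hχ => by rw [h.valX χ hχ x x (pp x) x1],
      ← h.sum_block]
    exact Finset.sum_congr rfl fun χ _ => by split_ifs with k; exacts [rfl, by rw [cc_out c s k x1, zero_mul]]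
  have e1 := column_orthogonality_of_not_isConj n2
  rw [Finset.sum_congr rfl (g := fun χ => χ.1 x * χ.1 y) fun χ _ => by
    rw [χ.2.isCharacter.apply_inv, Complex.conj_conj], all, Finset.sum_congr rfl (g := fun χ => (a χ : ℂ) ^ 2)
    fun χ hχ => by rw [h.valX χ hχ y y (pp y) y1, pow_two]] at e1
  have e2 := congrArg (fun n : ℕ => (n : ℂ) * Nat.card G) (cc3_count c s ex hm x1 y1 n1 n2)
  have i (z : P) (z1 : z ≠ 1) : (C1[(z : G)].index : ℂ) = Nat.card G / o[P] := by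
    rw [c z z.2 (by simpa using z1), eq_div_iff (natCard_ne_zero P), ← Nat.cast_mul, index_mul_card]
  simp only [Nat.cast_sum, Finset.sum_mul, card_class_pairs, i x x1, i y y1] at e2
  rw [← Finset.mul_sum, Finset.sum_comm, Finset.sum_congr rfl (g := fun χ => χ.1 x * (χ.1 y / χ.1 1 *
    ∑ z ∈ Finset.univ.erase (1 : P), conj (χ.1 z))) fun χ _ => by
      rw [Finset.mul_sum, Finset.mul_sum]; exact Finset.sum_congr rfl fun _ _ => by ring, all,
    Finset.sum_congr rfl (g := fun χ => (o[P] - 1 : ℂ) * (a χ ^ 3 / charDegree χ.1)) fun χ hχ => by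
      rw [h.valX χ hχ y y (pp y) y1, Finset.sum_congr rfl (g := fun _ => (a χ : ℂ)) fun z hz => by
        rw [h.valX χ hχ z z (pp z) (Finset.mem_erase.1 hz).1, map_intCast], Finset.sum_const,
        Finset.card_erase_of_mem (Finset.mem_univ _), Finset.card_univ, ← Nat.card_eq_fintype_card, nsmul_eq_mul,
        Nat.cast_pred Nat.card_pos, irr_one_eq]
      push_cast; ring,
    Finset.sum_congr rfl (s₁ := exc ζ) (g := fun χ => -δ * m / charDegree ψ.1 * (χ.1 x * χ.1 y)) fun χ hχ => by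
      rw [← map_sum, Finset.sum_congr rfl fun (z : P) hz => h.valY χ hχ z z (pp z) (Finset.mem_erase.1 hz).1,
        h.reg χ hχ ψ hψ 1 (by simp), irr_one_eq]
      simp only [Int.cast_zero, zero_add]
      rw [← Finset.mul_sum, Finset.sum_erase_eq_sub (Finset.mem_univ _), sum_eta_self, eta_one, h.cardF χ hχ]
      simp; ring,
    ← Finset.mul_sum, ← Finset.mul_sum, eq_neg_of_add_eq_zero_right e1] at e2
  have := natCard_ne_zero G
  have := natCard_ne_zero P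
  refine Rat.cast_injective (α := ℂ) ?_
  push_cast at e2 ⊢
  field_simp at e2 ⊢
  linear_combination -e2

theorem cc_index [hp : Fact p.Prime] (c : CC P) (s : Syl p P ⊤) : N[P].index ≡ 1 [MOD o[P]] := by
  obtain ⟨P, rfl⟩ := s.exists_top
  obtain ⟨k, hk⟩ := IsPGroup.iff_card.1 P.isPGroup'
  rw [hk, Sylow.coe_coe, ← P.card_eq_index_normalizer]
  by_contra n
  obtain ⟨Q, R, n1, h⟩ := Cfsg.Agent.S0985.result p k n
  have k' (Q : Sylow p G) : CC (Q : Subgroup G) := by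
    obtain ⟨g, -, e⟩ := s.conj (syl_top Q)
    exact e ▸ c.map_cj g
  rw [subgroupOf_eq_bot.2 (disjoint_def.2 fun h1 h2 => by_contra fun e =>
    n1 (Sylow.ext ((k' Q).eq_of_mem (k' R) h2 h1 e))), index_bot, (syl_top Q).card_eq_card s, hk,
    Nat.pow_le_pow_iff_right hp.out.one_lt] at h
  obtain rfl : k = 0 := by omega
  exact n Nat.modEq_one

theorem af_inv [Fact p.Prime] (h : AF p P) (ev : 2 ∣ C[P].relIndex N[P]) (y : P) : IsConj (y : G) y⁻¹ := by
  obtain ⟨e, he⟩ := exists_prime_orderOf_dvd_card' (G := E P) 2 (card_E (P := P) ▸ ev)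
  refine (h.isConj_iff_E (y' := y⁻¹)).2 ⟨e, eq_inv_of_mul_eq_one_left (by_contra fun n => inv_ne_one he (h.free e n ?_))⟩
  rw [map_mul, h.comm, ← MulAut.mul_apply, ← coe_mul, inv_mul_self he]; simp

theorem cc9 [IsSimpleGroup G] (c : CC P) (s : Syl 3 P ⊤) (ex : ∀ x ∈ P, x ^ 3 = 1) (h9 : o[P] = 9) {x y : P} (x1 : x ≠ 1)
    (y1 : y ≠ 1) (n1 : ¬ IsConj (x : G) y) : Nat.card G = 360 := by
  classical
  have hG := CfsgSm.nc (G := G) fun hp => by
    rcases hp.eq_one_or_self_of_dvd 9 (h9 ▸ P.card_subgroup_dvd_card) with e | e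
    · omega
    · exact absurd (e ▸ hp) (by norm_num)
  have hA := cc_af c s
  have CP : C[P] = P := le_antisymm (fun g hg => c.mem_of_comm x.2 (fun e => x1 (Subtype.ext e))
    (mem_centralizer_iff.1 hg x.1 x.2).symm) hA.le_cent
  obtain ⟨m, hm⟩ : ∃ m, C[P].relIndex N[P] = m := ⟨_, rfl⟩
  have hN : o[N[P]] = m * o[P] := by rw [← hm, CP, mul_comm, card_mul_relIndex le_normalizer]
  have m7 : m + 1 < o[P] := by
    have h1 := c.ncard_conj x.2 (by simpa using x1)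
    have h2 : {b | b ∈ P ∧ IsConj x.1 b} ⊆ (P : Set G) \ {1, y.1} := fun b hb => ⟨hb.1, by
      rintro (rfl | rfl)
      exacts [x1 (Subtype.ext (isConj_one_left.1 hb.2)), n1 hb.2]⟩
    have h3 := Set.ncard_le_ncard h2
    rw [Set.ncard_diff (by rintro _ (rfl | rfl); exacts [one_mem P, y.2]), Set.ncard_pair (a := (1 : G)) fun e => y1 (Subtype.ext e.symm),
      ← Nat.card_coe_set_eq (P : Set G), SetLike.coe_sort_coe] at h3
    rw [hN, h9] at h1
    omega
  obtain ⟨M, _⟩ := exists_pmod 3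
  have one {X : Finset (IrrCharacter G)} {a : IrrCharacter G → ℤ} (h : irrOne G ∈ X) (a1 : a (irrOne G) = 1) :
      ∑ χ ∈ X, a χ ^ 2 = 1 + ∑ χ ∈ X.erase (irrOne G), a χ ^ 2 := by rw [← Finset.add_sum_erase _ _ h, a1, one_pow]
  obtain ⟨X, ζ, a, δ, h⟩ : ∃ X ζ a δ, BD M 3 P m X ζ a 0 δ := by
    obtain ⟨X, ζ, a, d, δ, h⟩ := hA.exists_bd (M := M) hm m7
    by_cases e : d = 0
    · exact ⟨X, ζ, a, δ, e ▸ h⟩
    have h1 := h.norm
    have h2 := h.cardY
    have h3 := Finset.sum_nonneg (s := X.erase (irrOne G)) fun χ _ => sq_nonneg (a χ)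
    have h4 := sq_pos_of_ne_zero e
    have h5 := sq_nonneg (d - δ)
    rw [one h.one (h.a_one hA)] at h1
    have r2 : (exc ζ).card = 2 ∧ m = 4 := by
      rw [h9] at h2 m7
      generalize (exc ζ).card = r at *
      have : m < 8 := by omega
      have : r = 8 ∧ m = 1 ∨ r = 4 ∧ m = 2 ∨ r = 2 ∧ m = 4 := by interval_cases m <;> omega
      rcases this with ⟨rfl, rfl⟩ | ⟨rfl, rfl⟩ | ⟨rfl, rfl⟩ <;> push_cast at h1 <;> omega
    obtain ⟨ζ', h'⟩ := h.swap hA r2.1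
    refine ⟨X, ζ', a, -δ, (show d - δ = 0 from ?_) ▸ h'⟩
    rw [r2.1, r2.2] at h1
    have : d ≤ 2 := by push_cast at h1; nlinarith
    have : -2 ≤ d := by push_cast at h1; nlinarith
    rcases h.sgn with rfl | rfl <;> interval_cases d <;> omega
  have h2 := h.cardY
  have hA2 : ∑ χ ∈ X, a χ ^ 2 = m := by
    have := h.norm
    rcases h.sgn with e | e <;> rw [e] at this <;> push_cast at this <;> linarith
  obtain ⟨ψ, hψ⟩ := Finset.card_pos.1 (two_pos.trans_le h.two)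
  have pp (z : P) : ppart 3 (z : G) = z := ppart_of_pelt (pelt_of_mem s.pg z.2)
  have D1 := CfsgSm.one_lt_deg hG (χ := ψ) fun e => Finset.disjoint_left.1 h.disj h.one (e ▸ hψ)
  have m4 : m = 1 ∨ m = 2 ∨ m = 4 := by
    rw [h9] at h2 m7
    have : m < 8 := by omega
    interval_cases m <;> omega
  have le {χ : IrrCharacter G} (hχ : χ ∈ X) (n : χ ≠ irrOne G) : a χ ^ 2 + 1 ≤ m := by
    have := Finset.single_le_sum (f := fun χ => a χ ^ 2) (fun _ _ => sq_nonneg _) (Finset.mem_erase.2 ⟨n, hχ⟩)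
    rw [one h.one (h.a_one hA)] at hA2
    omega
  have ev : 2 ∣ m := by
    by_contra k
    have hX : X = {irrOne G} := Finset.eq_singleton_iff_unique_mem.2 ⟨h.one, fun χ hχ => by_contra fun n => by
      have := le hχ n
      have := sq_pos_of_ne_zero (h.aX χ hχ)
      omega⟩
    have := h.regX ψ hψ 1 (by simp)
    rw [hX, Finset.sum_singleton, h.a_one hA, irr_one_eq ψ, (show (irrOne G).1 1 = 1 from rfl)] at this
    have h5 : ((exc ζ).card * 0 - δ) * (charDegree ψ.1 : ℤ) + 1 * 1 = 0 := by exact_mod_cast this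
    rcases h.sgn with e | e <;> rw [e] at h5 <;> omega
  have e1 := cc3_eq c s ex hN h x1 y1 n1 (fun k => n1 (k.trans (af_inv hA (hm ▸ ev) y).symm)) hψ
  have e2 : 9 / 8 ≤ ∑ χ ∈ X, ((a χ : ℚ) ^ 3 / charDegree χ.1 + (a χ ^ 2 : ℤ) / 8) := by
    refine le_of_eq_of_le ?_ (Finset.single_le_sum (fun χ hχ => ?_) h.one)
    · rw [h.a_one hA, (show charDegree (irrOne G).1 = 1 from by
        have : (1 : ℂ) = _ := irr_one_eq (irrOne G)
        exact_mod_cast this.symm)]; norm_num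
    by_cases k : 0 ≤ a χ
    · positivity
    have h1 := le hχ fun e => k (by rw [e, h.a_one hA]; norm_num)
    have h3 : a χ = -1 := by
      have : a χ ^ 2 < 4 := by omega
      have : -2 < a χ := by nlinarith
      omega
    obtain ⟨n, hn⟩ := ((χ.2.isGen.restrict P).add isGen_one).exists_eq_mul_card fun z z1 => by
      simp [h.valX χ hχ z z (pp z) z1, h3]
    have h4 : (charDegree χ.1 : ℤ) + 1 = n * 9 := by
      rw [h9, Pi.add_apply, coe_one, irr_one_eq] at hn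
      exact_mod_cast hn
    have h5 : (8 : ℚ) ≤ charDegree χ.1 := by exact_mod_cast (by omega)
    have := one_div_le_one_div_of_le (by norm_num) h5
    rw [h3]; push_cast; linarith [neg_div (charDegree χ.1 : ℚ) 1]
  rw [Finset.sum_add_distrib, ← Finset.sum_div, ← Int.cast_sum, hA2] at e2
  have i1 := cc_index c s
  have i2 := N[P].card_mul_index
  have i3 : N[P].index ≠ 1 := fun e => by
    rcases (normalizer_eq_top_iff.1 (index_eq_one.1 e)).eq_bot_or_eq_top with e | e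
    · rw [e, card_bot] at h9; omega
    · exact hG fun a b => c.comm (e.ge (mem_top a)) (e.ge (mem_top b))
  rw [hA2, h9] at e1
  rw [hN, h9] at i2
  rw [h9, Nat.ModEq] at i1
  have D2 : δ = 1 ∨ δ = -1 ∧ 9 ≤ charDegree ψ.1 + m := h.sgn.imp_right fun e => ⟨e, by
    obtain ⟨n, hn⟩ := ((ψ.2.isGen.restrict P).add (isCharacter_eta ζ ψ).isGen).exists_eq_mul_card fun z z1 => by
      simp [h.valY ψ hψ z z (pp z) z1, e]
    have h4 : (charDegree ψ.1 : ℤ) + m = n * 9 := by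
      rw [h9, Pi.add_apply, coe_one, irr_one_eq, eta_one, h.cardF ψ hψ] at hn
      exact_mod_cast hn
    omega⟩
  have g1 : Nat.card G ≠ 684 := fun e => by
    have := Fact.mk (by norm_num : Nat.Prime 19)
    obtain ⟨-, -, -, e, -, -, -, -, n, c, -, -, -, h3, h4, -, -, h7⟩ := CfsgSm.setup (p := 19) hG (m := 36) e (by norm_num)
    have d : n ∣ 36 := Dvd.intro_left (e * c) (by rw [← h3]; ring)
    have := Nat.le_of_dvd (by norm_num) d
    obtain rfl : n = 20 := by omega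
    omega
  generalize ∑ χ ∈ X, (a χ : ℚ) ^ 3 / charDegree χ.1 = T at *
  generalize charDegree ψ.1 = D at *
  have g2 : (0 : ℚ) < Nat.card G := by exact_mod_cast Nat.card_pos
  have g3 : Nat.card G ≤ 180 * m ∧ (m = 2 → Nat.card G < 180) := by
    have k : -(m * m / (9 - m) : ℚ) ≤ δ * m * (m : ℤ) / D := by
      rcases D2 with rfl | ⟨rfl, k⟩
      · exact le_trans (neg_nonpos.2 (by rcases m4 with rfl | rfl | rfl <;> norm_num)) (by positivity)
      · have : (9 - m : ℚ) ≤ D := by rw [sub_le_iff_le_add]; exact_mod_cast k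
        have := div_le_div_of_nonneg_left (by positivity : (0 : ℚ) ≤ m * m)
          (by rcases m4 with rfl | rfl | rfl <;> norm_num) this
        push_cast; linarith [neg_div (D : ℚ) (m * m), (by ring : (-1 * m * m : ℚ) / D = -(m * m) / D)]
    generalize (δ * m * (m : ℤ) / D : ℚ) = W at *
    rcases m4 with rfl | rfl | rfl
    · omega
    · have : (Nat.card G : ℚ) < 180 := by push_cast at *; nlinarith
      have : Nat.card G < 180 := by exact_mod_cast this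
      omega
    · have : (Nat.card G : ℚ) ≤ 720 := by push_cast at *; nlinarith
      have : Nat.card G ≤ 720 := by exact_mod_cast this
      omega
  rcases m4 with rfl | rfl | rfl <;> omega

end CfsgL0
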