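import Cfsg.Agent.L0.M1

/-! Extremal transfer lemmas; a counting lemma for groups of class two. -/

namespace CfsgL0
open Subgroup Function Cfsg CfsgH2
open scoped commutatorElement

theorem prod_eq_one_of_pgroup {T Ω B : Type*} [Group T] [Finite T] [MulAction T Ω] [Fintype Ω] [CommGroup B]
    {p : ℕ} [Fact p.Prime] (hT : IsPGroup p T) (f : Ω → B) (h1 : ∀ q, f q ^ p = 1)
    (h2 : ∀ (t : T) q, f (t • q) = f q) (h3 : ∀ q, (∀ t : T, t • q = q) → f q = 1) : ∏ q, f q = 1 := by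
  classical
  haveI := Fintype.ofFinite (MulAction.orbitRel.Quotient T Ω)
  rw [← Finset.prod_fiberwise Finset.univ (fun q : Ω => (Quotient.mk'' q : MulAction.orbitRel.Quotient T Ω))]
  refine Finset.prod_eq_one fun ω _ => ?_
  obtain ⟨a, rfl⟩ := Quotient.exists_rep ω
  have e : ∀ q, (Quotient.mk'' q : MulAction.orbitRel.Quotient T Ω) = ⟦a⟧ ↔ q ∈ MulAction.orbit T a :=
    fun q => Quotient.eq''.trans MulAction.orbitRel_apply
  rw [Finset.prod_congr rfl (g := fun _ => f a) (fun q hq => by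
    obtain ⟨t, rfl⟩ := (e q).1 (Finset.mem_filter.1 hq).2
    exact h2 t a), Finset.prod_const]
  obtain ⟨n, hn⟩ := hT.card_orbit a
  have : (Finset.univ.filter fun q : Ω => (Quotient.mk'' q : MulAction.orbitRel.Quotient T Ω) = ⟦a⟧).card = p ^ n := by
    rw [← hn, ← Nat.card_eq_finsetCard]
    exact Nat.card_congr (Equiv.subtypeEquivRight fun q => by simp only [Finset.mem_filter, Finset.mem_univ, true_and, e])
  rw [this]
  rcases n with _ | n
  · rw [h3 a, one_pow]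
    intro t
    have : Subsingleton (MulAction.orbit T a) := (Nat.card_eq_one_iff_unique.1 (by simpa using hn)).1
    exact congrArg Subtype.val (Subsingleton.elim (⟨t • a, MulAction.mem_orbit a t⟩ : MulAction.orbit T a)
      ⟨a, MulAction.mem_orbit_self a⟩)
  · rw [pow_succ', pow_mul, h1, one_pow]

variable {G : Type*} [Group G] [Finite G] {A B C H K L M N P Q S T : Subgroup G}

omit [Finite G] in
theorem smul_coset_eq_iff {x : G} {q : G ⧸ H} : x • q = q ↔ q.out⁻¹ * x * q.out ∈ H := by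
  conv_lhs => rw [← Quotient.out_eq q]
  show ((x * q.out : G) : G ⧸ H) = (q.out : G) ↔ _
  rw [eq_comm, QuotientGroup.eq, mul_assoc]

open Classical in
theorem transfer_eq_prod_fixed {B : Type*} [CommGroup B] (ϕ : H →* B) (x : G) [Fintype (G ⧸ H)]
    (h1 : ∀ (k : ℕ) (g : G) (h : g⁻¹ * x ^ k * g ∈ H), 1 < k → k ∣ orderOf x → ϕ ⟨_, h⟩ = 1) :
    ϕ.transfer x = ∏ q : G ⧸ H, if h : q.out⁻¹ * x * q.out ∈ H then ϕ ⟨_, h⟩ else 1 := by
  haveI := Fintype.ofFinite (Quotient (MulAction.orbitRel (zpowers x) (G ⧸ H)))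
  rw [MonoidHom.transfer_eq_prod_quotient_orbitRel_zpowers_quot, ← Finset.prod_fiberwise Finset.univ
    (fun q : G ⧸ H => (Quotient.mk'' q : Quotient (MulAction.orbitRel (zpowers x) (G ⧸ H))))]
  refine Finset.prod_congr rfl fun ω _ => ?_
  have e : ∀ q : G ⧸ H, Quotient.mk'' q = ω → x • q = q ∨ x • ω.out = ω.out → q = ω.out := by
    intro q hq h
    have key : ∀ a b : G ⧸ H, x • a = a → b ∈ MulAction.orbit (zpowers x) a → b = a := by
      rintro a _ ha ⟨⟨y, hy⟩, rfl⟩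
      exact (zpowers_le.2 (show x ∈ MulAction.stabilizer G a from ha) hy :)
    have r : (MulAction.orbitRel (zpowers x) (G ⧸ H)) q ω.out :=
      Quotient.eq''.1 (hq.trans (Quotient.out_eq' ω).symm)
    rcases h with h | h
    · exact (key _ _ h (MulAction.orbitRel_apply.1 ((MulAction.orbitRel (zpowers x) (G ⧸ H)).iseqv.symm r))).symm
    · exact key _ _ h (MulAction.orbitRel_apply.1 r)
  by_cases h : x • ω.out = ω.out
  · rw [Finset.prod_eq_single ω.out (fun q hq hne => absurd (e q (Finset.mem_filter.1 hq).2 (Or.inr h)) hne)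
      (fun hh => (hh (Finset.mem_filter.2 ⟨Finset.mem_univ _, Quotient.out_eq' ω⟩)).elim),
      dif_pos (smul_coset_eq_iff.1 h)]
    congr 2
    rw [Function.minimalPeriod_eq_one_iff_isFixedPt.2 h, pow_one]
  · rw [Finset.prod_eq_one (fun q hq => dif_neg fun hh => h (by
      have := smul_coset_eq_iff.2 hh
      rwa [e q (Finset.mem_filter.1 hq).2 (Or.inl this)] at this))]
    refine h1 _ _ _ ?_ (MulAction.period_dvd_orderOf x ω.out)
    have h2 : 0 < Function.minimalPeriod (x • ·) ω.out := MulAction.period_pos_of_orderOf_pos (orderOf_pos x) _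
    have h3 : Function.minimalPeriod (x • ·) ω.out ≠ 1 := fun e => h (Function.minimalPeriod_eq_one_iff_isFixedPt.1 e)
    omega

theorem transfer_ext {B : Type*} [CommGroup B] {p : ℕ} [Fact p.Prime] (ϕ : H →* B) (hB : ∀ y : B, y ^ p = 1)
    {x : G} (hT : PG[p, T]) (hc : T ≤ C1[x]) (hx : x ∈ T) (b : B)
    (h1 : ∀ (k : ℕ) (g : G) (h : g⁻¹ * x ^ k * g ∈ H), 1 < k → k ∣ orderOf x → ϕ ⟨_, h⟩ = 1)
    (h2 : ∀ g : G, (∀ t ∈ T, g⁻¹ * t * g ∈ H) → ∀ h : g⁻¹ * x * g ∈ H, ϕ ⟨_, h⟩ = b) :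
    ϕ.transfer x = b ^ H.index := by
  classical
  haveI := Fintype.ofFinite (G ⧸ H)
  rw [transfer_eq_prod_fixed ϕ x h1, index, Nat.card_eq_fintype_card, ← Finset.card_univ, ← Finset.prod_const,
    ← mul_inv_eq_one, ← Finset.prod_inv_distrib, ← Finset.prod_mul_distrib]
  refine prod_eq_one_of_pgroup hT _ (fun q => hB _) (fun t q => ?_) (fun q hq => ?_)
  · congr 1
    obtain ⟨s, hs⟩ := QuotientGroup.mk_out_eq_mul H ((t : G) * q.out)
    have e : (t • q).out = t * q.out * s := by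
      rw [← hs]; congr 1
      conv_lhs => rw [← Quotient.out_eq q]
      rfl
    have e2 : (t • q).out⁻¹ * x * (t • q).out = (s : G)⁻¹ * (q.out⁻¹ * x * q.out) * s := by
      have := mem_centralizer_singleton_iff.1 (hc t.2)
      rw [e]
      calc (t * q.out * s)⁻¹ * x * (t * q.out * s) = (s : G)⁻¹ * q.out⁻¹ * (t : G)⁻¹ * (x * t) * q.out * s := by group
        _ = _ := by rw [← this]; group
    by_cases h : q.out⁻¹ * x * q.out ∈ H
    · have h' : (t • q).out⁻¹ * x * (t • q).out ∈ H := e2 ▸ H.mul_mem (H.mul_mem (H.inv_mem s.2) h) s.2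
      rw [dif_pos h, dif_pos h', show (⟨_, h'⟩ : H) = s⁻¹ * ⟨_, h⟩ * s from Subtype.ext e2, map_mul, map_mul,
        map_inv, mul_comm, ← mul_assoc, mul_inv_cancel, one_mul]
    · rw [dif_neg h, dif_neg]
      rw [e2]
      intro h'
      exact h (by simpa [mul_assoc] using H.mul_mem (H.mul_mem s.2 h') (H.inv_mem s.2))
  · have k : ∀ t ∈ T, q.out⁻¹ * t * q.out ∈ H := fun t ht => smul_coset_eq_iff.1 (hq ⟨t, ht⟩)
    rw [dif_pos (k x hx), h2 _ k, mul_inv_cancel]

/-- Thompson's transfer lemma, extremal form -/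
theorem tt_ext (hS : Odd S.index) (hi : M.relIndex S = 2) {x : G} (hT : PG[2, T]) (hc : T ≤ C1[x]) (hx : x ∈ T)
    (h1 : ∀ (k : ℕ) (g : G), g⁻¹ * x ^ k * g ∈ S → 1 < k → k ∣ orderOf x → g⁻¹ * x ^ k * g ∈ M)
    (h2 : ∀ g : G, (∀ t ∈ T, g⁻¹ * t * g ∈ S) → g⁻¹ * x * g ∉ M) :
    ∃ K : Subgroup G, K.Normal ∧ K.index = 2 ∧ x ∉ K := by
  haveI := normal_of_index_eq_two hi
  have hcard : Nat.card (S ⧸ M.subgroupOf S) = 2 := hi
  haveI : IsCyclic (S ⧸ M.subgroupOf S) := isCyclic_of_prime_card hcard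
  letI : CommGroup (S ⧸ M.subgroupOf S) := IsCyclic.commGroup
  let ϕ : S →* S ⧸ M.subgroupOf S := QuotientGroup.mk' _
  obtain ⟨b, hb, hb'⟩ := (Nat.card_eq_two_iff' 1).1 hcard
  have hb2 : ∀ y : S ⧸ M.subgroupOf S, y ^ 2 = 1 := fun y => by rw [← hcard]; exact pow_card_eq_one'
  have h3 := transfer_ext ϕ hb2 hT hc hx b
    (fun k g h a c => (QuotientGroup.eq_one_iff _).2 (h1 k g h a c))
    (fun g hg h => hb' _ fun e => h2 g hg ((QuotientGroup.eq_one_iff (⟨_, h⟩ : S)).1 e))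
  obtain ⟨m, hm⟩ := hS
  rw [hm, pow_succ b, pow_mul b, hb2, one_pow, one_mul] at h3
  have h4 : x ∉ ϕ.transfer.ker := by rw [MonoidHom.mem_ker, h3]; exact hb
  refine ⟨_, inferInstance, ?_, h4⟩
  have h5 : ϕ.transfer.ker.index ∣ 2 := by
    rw [index_ker, ← hcard]; exact card_subgroup_dvd_card _
  exact ((Nat.dvd_prime Nat.prime_two).1 h5).resolve_left fun e => h4 (index_eq_one.1 e ▸ mem_top x)

/-- the version for involutions -/
theorem tt_inv (hS : Odd S.index) (hi : M.relIndex S = 2) {x : G} (h0 : x ^ 2 = 1) (hT : PG[2, T]) (hc : T ≤ C1[x])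
    (hx : x ∈ T) (h2 : ∀ g : G, (∀ t ∈ T, g⁻¹ * t * g ∈ S) → g⁻¹ * x * g ∉ M) :
    ∃ K : Subgroup G, K.Normal ∧ K.index = 2 ∧ x ∉ K :=
  tt_ext hS hi hT hc hx (fun k g _ a c => by
    have : k = 2 := by have := Nat.le_of_dvd two_pos (c.trans (orderOf_dvd_of_pow_eq_one h0)); omega
    rw [this, h0]; simp) h2

theorem Syl.odd_index (h : Syl 2 S ⊤) : Odd S.index := by
  have := h.nd
  rw [relIndex_top_right] at this
  exact Nat.odd_iff.2 (Nat.two_dvd_ne_zero.1 this)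

theorem card_cent_mul_le {p : ℕ} [hp : Fact p.Prime] (hP : PG[p, P]) (hK : ⁅P, P⁆ ≤ K) (hc : o[K] ≤ p) :
    ∀ C ≤ P, o[P ⊓ C[C]] * o[C] ≤ o[Z[P]] * o[P] := by
  intro C
  induction C using WellFoundedGT.induction with
  | ind C ih =>
  intro hC
  rcases hC.eq_or_lt with rfl | hlt
  · exact le_rfl
  obtain ⟨L, h1, h2, h3, h4, -⟩ := exists_step (P := ⊥) IsPGroup.of_bot hP hlt bot_le bot_le
  have hlt2 : C < L := lt_of_le_of_ne h1 (by rintro rfl; rw [relIndex_self] at h4; exact hp.out.one_lt.ne h4)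
  obtain ⟨x, hx, hx'⟩ := SetLike.exists_of_lt hlt2
  have e : C ⊔ zpowers x = L := (eq_or_eq_of_relIndex_prime (h4 ▸ hp.out) le_sup_left
    (sup_le h1 (zpowers_le.2 hx))).resolve_left fun e => hx' (e.le (mem_sup_right (mem_zpowers x)))
  refine le_trans ?_ (ih L hlt2 h2)
  have k := relIndex_cent1_le (H := P ⊓ C[C]) (K := K) (a := x) fun y hy => hK (commutator_mem_commutator hy.1 (h2 hx))
  rw [← card_mul_relIndex h1, h4, ← card_inf_mul_relIndex C1[x] (P ⊓ C[C]), ← e, cent_sup, cent_zpowers,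
    inf_comm C1[x], inf_assoc]
  calc _ ≤ o[P ⊓ (C[C] ⊓ C1[x])] * p * o[C] := Nat.mul_le_mul_right _ (Nat.mul_le_mul_left _ (k.trans hc))
    _ = _ := by ring

end CfsgL0
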