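import Cfsg.Agent.L0.T3
import Cfsg.Agent.L0.BW2

/-! Strongly 3-embedded normalizers of elementary abelian Sylow 3-subgroups with a four-group as automizer. -/

namespace CfsgL0
open Cfsg Subgroup CfsgH2 CfsgBf CfsgH8
open CfsgH4 hiding cent_le_norm cent_sup
open CfsgH3 hiding cj cj_cj
open scoped ComplexConjugate

variable {G : Type*} [Group G] {u v g t : G} {T : Subgroup G}

/-- the number of ways to write `c` as a product of conjugates of `a` and `b` -/
noncomputable def np2 (a b c : G) : ℕ := Nat.card {p : G × G // IsConj a p.1 ∧ IsConj b p.2 ∧ p.1 * p.2 = c}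

theorem np2_eq [Fintype G] (a b : G) : (fun x => (np2 a b x : ℂ)) = ∑ ψ : IrrCharacter G,
    conj (C1[a].index * C1[b].index * (ψ.1 a * ψ.1 b / ψ.1 1) / Nat.card G) • ψ.1 := by
  funext x
  rw [← Complex.conj_natCast, np2, (eq_div_iff (natCard_ne_zero G)).2 (card_class_pairs a b x), Finset.mul_sum,
    Finset.sum_div, map_sum, Finset.sum_apply]
  refine Finset.sum_congr rfl fun ψ _ => ?_
  rw [Pi.smul_apply, smul_eq_mul, ← Complex.conj_conj (ψ.1 x), ← map_mul, Complex.conj_conj]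
  congr 1; ring

theorem np2_class [Fintype G] (a b : G) : IsClassFunction G fun x => (np2 a b x : ℂ) := fun x g => by
  simp only [congrFun (np2_eq a b), Finset.sum_apply, Pi.smul_apply]
  exact Finset.sum_congr rfl fun ψ _ => by rw [ψ.2.isClassFunction]

theorem inner_np2 [Fintype G] (a b : G) (χ : IrrCharacter G) :
    ⟪χ.1, fun x => np2 a b x⟫ = C1[a].index * C1[b].index * (χ.1 a * χ.1 b / χ.1 1) / Nat.card G := by
  classical
  rw [np2_eq, classInner_sum_right, Finset.sum_eq_single χ (fun ψ _ n => by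
    rw [classInner_smul_right, χ.2.classInner_of_ne ψ.2 fun e => n (Subtype.ext e.symm), mul_zero]) (by simp),
    classInner_smul_right, χ.2.classInner_self, Complex.conj_conj, mul_one]

open Classical in
theorem ind_np2 [Fintype G] [Fintype T] (f : T → ℂ) (a b : G) : ⟪indFun T f, fun x => np2 a b x⟫ = (o[T] : ℂ)⁻¹ *
    ∑ p : G × G with IsConj a p.1 ∧ IsConj b p.2, extendByZero T f (p.1 * p.2) := by
  rw [classInner_indFun_left _ (np2_class a b), classInner, ← Finset.sum_fiberwise (g := fun p : G × G => p.1 * p.2),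
    ← Finset.sum_subset (Finset.subset_univ (Finset.univ.filter (· ∈ T))) fun x _ hx => Finset.sum_eq_zero fun p hp => by
      rw [(Finset.mem_filter.1 hp).2, extendByZero_of_not_mem _ (by simpa using hx)], ← sum_subgroup_eq]
  refine congrArg _ (Finset.sum_congr rfl fun x _ => ?_)
  rw [Finset.sum_congr rfl (g := fun _ => f x) fun p hp => by rw [(Finset.mem_filter.1 hp).2, extendByZero_coe],
    Finset.sum_const, Finset.filter_filter, np2, Nat.card_eq_fintype_card, Fintype.card_subtype]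
  simp [mul_comm, and_assoc]

theorem tri_arith {a b c d1 d2 d3 v1 v2 v3 w1 w2 w3 : ℂ} (ha : a ≠ 0) (hb : b ≠ 0) (h1 : d1 ≠ 0) (h2 : d2 ≠ 0) (h3 : d3 ≠ 0)
    (e1 : a * d1 + b * d2 + c * d3 = 0) (e2 : a * v1 + b * v2 + c * v3 = 0)
    (e3 : a * (v1 * v1 / d1) + b * (v2 * v2 / d2) + c * (v3 * v3 / d3) = 0) :
    a * (v1 * w1 / d1) + b * (v2 * w2 / d2) + c * (v3 * w3 / d3) = v1 / d1 * (a * w1 + b * w2 + c * w3) := by
  have k : c * v3 = -(a * v1 + b * v2) := by linear_combination e2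
  have k' : c * d3 = -(a * d1 + b * d2) := by linear_combination e1
  have e4 : v2 * d1 = v1 * d2 := by
    field_simp at e3
    refine sub_eq_zero.1 (pow_eq_zero_iff two_ne_zero |>.1 (mul_left_cancel₀ (mul_ne_zero ha hb) ?_))
    linear_combination -c * e3 + (a * v1 ^ 2 * d2 + b * v2 ^ 2 * d1) * k' + d1 * d2 * (c * v3 - (a * v1 + b * v2)) * k
  have e5 : c * (v3 * d1) = c * (v1 * d3) := by linear_combination d1 * k - v1 * k' - b * e4
  field_simp
  linear_combination b * w2 * d3 * e4 + w3 * d2 * e5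

structure TI3 (T : Subgroup G) : Prop where
  syl : Syl 3 T ⊤
  ex : ∀ x ∈ T, x ^ 3 = 1
  cen : C[T] = T
  ti : ∀ t ∈ T, t ≠ 1 → C1[t] ≤ N[T]

namespace TI3
variable [Fintype G] (h : TI3 T)
include h

omit [Fintype G] in
theorem comm (hu : u ∈ T) (hv : v ∈ T) : u * v = v * u := mem_centralizer_iff.1 (h.cen.ge hv) u hu

theorem mem (hu : u ∈ N[T]) (u3 : u ^ 3 = 1) : u ∈ T :=
  (h.syl.mono le_normalizer le_top).mem_of_norm le_rfl hu (k := 1) u3

theorem norm (ht : t ∈ T) (t1 : t ≠ 1) (hg : g * t * g⁻¹ ∈ T) : g ∈ N[T] := by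
  refine inv_mem_iff.1 (mem_normalizer_fintype fun x hx => h.mem (h.ti t ht t1 (mem_centralizer_singleton_iff.2 ?_)) ?_)
  · simpa [mul_assoc] using congrArg (fun y => g⁻¹ * y * g) (h.comm hx hg)
  · rw [conj_pow, h.ex x hx, mul_one, mul_inv_cancel]

theorem tri (hu : u ^ 3 = 1) (hv : v ^ 3 = 1) (e : (u * v) ^ 3 = 1) (n : ¬ IsConj u v) :
    ∃ g, g * u * g⁻¹ ∈ T ∧ g * v * g⁻¹ ∈ T := by
  have o : 3 ∣ orderOf (u * v⁻¹) := by_contra fun o => n (tri_conj hu hv e o)
  obtain ⟨_, ⟨j, rfl⟩, w3⟩ := exists_prime_order_mem (H := zpowers (u * v⁻¹)) Nat.prime_three (by rwa [Nat.card_zpowers])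
  obtain ⟨g, -, hg⟩ := h.syl.exists_conj_le (isPGroup_zpowers (x := (u * v⁻¹) ^ j) (k := 1)
    (orderOf_dvd_iff_pow_eq_one.1 w3.dvd)) le_top
  have k1 : g * (u * v⁻¹) ^ j * g⁻¹ ∈ T := hg ⟨_, mem_zpowers _, rfl⟩
  have k2 : g * (u * v⁻¹) ^ j * g⁻¹ ≠ 1 := conj_ne_one g fun e => by simp [e] at w3
  have c {x : G} (c : Commute x (u * v⁻¹)) : g * x * g⁻¹ ∈ N[T] := h.ti _ k1 k2 (mem_centralizer_singleton_iff.2 (by
    rw [conj_mul, conj_mul, (c.zpow_right j).eq]))
  have p {x : G} (hx : x ^ 3 = 1) : (g * x * g⁻¹) ^ 3 = 1 := by rw [conj_pow, hx, mul_one, mul_inv_cancel]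
  have e0 : u⁻¹ * (u * v⁻¹) ^ j * u = (v⁻¹ * u) ^ j := by simpa using (conj_zpow (a := u⁻¹) (b := u * v⁻¹) (i := j)).symm
  have k3 := h.mem (c ((tri_comm hu hv e).1.symm.zpow_left j)) (p (by
    simpa [← e0, orderOf_dvd_iff_pow_eq_one.1 w3.dvd] using conj_pow (a := u⁻¹) (b := (u * v⁻¹) ^ j) (i := 3)))
  have k4 : g * u * g⁻¹ ∈ N[T] := inv_mem_iff.1 (h.norm k1 k2 (by convert k3 using 1; rw [← e0]; group))
  refine ⟨g, h.mem k4 (p hu), h.mem ?_ (p hv)⟩
  convert mul_mem (inv_mem (c (Commute.refl _))) k4 using 1; group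

theorem ind [Fintype (E T)] (f : T → ℂ) {y : T} (hy : y ≠ 1) : indFun T f y = ∑ e : E T, f (e.1 y) := by
  classical
  let φ := T.normalizerMonoidHom.rangeRestrict
  rw [indFun_apply', ← Finset.sum_subset (Finset.subset_univ (Finset.univ.filter (· ∈ N[T]))) fun x _ hx =>
    extendByZero_of_not_mem _ fun e => hx (by simpa using h.norm y.2 (by simpa using hy) e), ← sum_subgroup_eq,
    ← Finset.sum_fiberwise (g := φ), Finset.mul_sum]
  refine Finset.sum_congr rfl fun e _ => ?_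
  rw [Finset.sum_congr rfl (g := fun _ => f (e.1 y)) fun n hn => by
    rw [← (Finset.mem_filter.1 hn).2]; exact extendByZero_coe f ((φ n).1 y), Finset.sum_const,
    MonoidHom.card_fiber_eq_of_mem_range φ (y := 1) (T.normalizerMonoidHom.rangeRestrict_surjective e) ⟨1, map_one φ⟩,
    ← Fintype.card_subtype, ← Nat.card_eq_fintype_card, (show Nat.card {x // φ x = 1} = o[T] from ?_), nsmul_eq_mul,
    inv_mul_cancel_left₀ (natCard_ne_zero T)]
  change o[φ.ker] = _
  rw [MonoidHom.ker_rangeRestrict, normalizerMonoidHom_ker, h.cen, Nat.card_congr (subgroupOfEquivOfLe le_normalizer).toEquiv]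

theorem index : N[T].index ≡ 1 [MOD o[T]] := by
  obtain ⟨P, rfl⟩ := h.syl.exists_top
  obtain ⟨k, hk⟩ := IsPGroup.iff_card.1 P.isPGroup'
  rw [hk, Sylow.coe_coe, ← P.card_eq_index_normalizer]
  by_contra n
  obtain ⟨Q, R, n1, e⟩ := Cfsg.Agent.S0985.result 3 k n
  obtain ⟨g, -, hg⟩ := (syl_top Q).conj h.syl
  obtain ⟨w, -, hw⟩ := (syl_top R).conj h.syl
  rw [subgroupOf_eq_bot.2 (disjoint_def.2 fun {x} h1 h2 => by_contra fun e => n1 (Sylow.ext ?_)), index_bot,
    (syl_top Q).card_eq_card h.syl, hk, Nat.pow_le_pow_iff_right (by norm_num)] at e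
  · obtain rfl : k = 0 := by omega
    exact n Nat.modEq_one
  have := h.norm (g := w * g⁻¹) (hg.le ⟨x, h2, rfl⟩) (conj_ne_one g e) (by
    convert hw.le ⟨x, h1, rfl⟩ using 1; simp [CfsgH2.cj, mul_assoc])
  rw [← map_cj_inj (g := w), hw, ← map_cj_eq this, ← hg, map_cj_cj, inv_mul_cancel_right]

theorem four (h4 : C[T].relIndex N[T] = 4) {a b : T} {s r : E T} (a1 : a ≠ 1) (b1 : b ≠ 1) (sa : s.1 a = a⁻¹)
    (ra : r.1 a = a) (sb : s.1 b = b) (rb : r.1 b = b⁻¹) : N[T] = ⊤ := by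
  classical
  have := Fintype.ofFinite T
  have := Fintype.ofFinite (E T)
  letI : CommGroup T := { (inferInstance : Group T) with mul_comm x y := Subtype.ext (h.comm x.2 y.2) }
  have ex (x : T) : x ^ 3 = 1 := Subtype.ext (h.ex x x.2)
  have ni {x : T} (x1 : x ≠ 1) : x⁻¹ ≠ x := fun e => x1 (by
    rw [← ex x, pow_succ, pow_two, inv_eq_iff_mul_eq_one.1 e, one_mul])
  have n1 := ni a1
  have n2 := ni b1
  have d (e e' : E T) (k : e.1 a ≠ e'.1 a ∨ e.1 b ≠ e'.1 b) : e ≠ e' := by rintro rfl; simp at k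
  have U : (Finset.univ : Finset (E T)) = {1, s, r, s * r} := (Finset.eq_univ_of_card _ (by
    rw [← Nat.card_eq_fintype_card, card_E, h4, Finset.card_eq_four]
    exact ⟨_, _, _, _, d _ _ (by simp [sa, n1.symm]), d _ _ (by simp [rb, n2.symm]), d _ _ (by simp [sa, ra, n1.symm]),
      d _ _ (by simp [sa, ra, n1]), d _ _ (by simp [sb, rb, n2.symm]), d _ _ (by simp [sa, ra, n1.symm]), rfl⟩)).symm
  have cs (e : E T) : e = 1 ∨ e = s ∨ e = r ∨ e = s * r := by simpa [U] using Finset.mem_univ e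
  have sm (f : E T → ℂ) : ∑ e, f e = f 1 + f s + f r + f (s * r) := by
    rw [U, Finset.sum_insert, Finset.sum_insert, Finset.sum_pair (d _ _ (by simp [sa, ra, n1.symm])), add_assoc, add_assoc]
    · simp [d s r (by simp [sa, ra, n1]), d s (s * r) (by simp [sb, rb, n2.symm])]
    · simp [d 1 s (by simp [sa, n1.symm]), d 1 r (by simp [rb, n2.symm]), d 1 (s * r) (by simp [sa, ra, n1.symm])]
  have eq (e e' : E T) (k1 : e.1 a = e'.1 a) (k2 : e.1 b = e'.1 b) : e = e' := by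
    rcases cs e with e | e | e | e <;> rcases cs e' with e' | e' | e' | e' <;> rw [e, e'] at k1 k2 ⊢ <;>
      simp [sa, ra, sb, rb, n1, n2, n1.symm, n2.symm] at k1 k2
  have ss (x : T) : s.1 (s.1 x) = x := congrArg (fun e : E T => e.1 x) (eq (s * s) 1 (by simp [sa]) (by simp [sb]))
  have rr (x : T) : r.1 (r.1 x) = x := congrArg (fun e : E T => e.1 x) (eq (r * r) 1 (by simp [ra]) (by simp [rb]))
  have rs (x : T) : r.1 (s.1 x) = s.1 (r.1 x) :=
    congrArg (fun e : E T => e.1 x) (eq (r * s) (s * r) (by simp [sa, ra]) (by simp [sb, rb]))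
  have ch {a : T} {s r : E T} (a1 : a ≠ 1) (sa : s.1 a = a⁻¹) (ra : r.1 a = a) (ss : ∀ x, s.1 (s.1 x) = x)
      (rr : ∀ x, r.1 (r.1 x) = x) (rs : ∀ x, r.1 (s.1 x) = s.1 (r.1 x)) :
      ∃ l : T →* ℂˣ, l a ≠ 1 ∧ (∀ x, l (s.1 x) = (l x)⁻¹) ∧ ∀ x, l (r.1 x) = l x := by
    obtain ⟨ψ, -, hψ⟩ := exists_unitsHom_of_not_mem (N := (⊥ : Subgroup T)) (v := a)
      (fun a b => mem_bot.2 (by rw [mul_comm a b]; group)) (by simpa using a1)
    refine ⟨ψ.comp ((MonoidHom.id T * r.1.toMonoidHom) / (s.1.toMonoidHom * (s * r).1.toMonoidHom)), fun e => hψ ?_,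
      fun x => ?_, fun x => ?_⟩
    · rw [← e]
      refine congrArg ψ ?_
      simp only [MonoidHom.div_apply, MonoidHom.mul_apply, MonoidHom.id_apply, MulEquiv.coe_toMonoidHom, coe_mul,
        MulAut.mul_apply, sa, ra]
      rw [div_eq_mul_inv, mul_inv, inv_inv, ← mul_assoc, ← pow_three', ex, one_mul]
    · simp [ss, rs]
    · simp [rr, mul_comm]
  obtain ⟨l, la, ls, lr⟩ := ch a1 sa ra ss rr rs
  obtain ⟨m, mb, mr, ms⟩ := ch b1 rb sb rr ss fun x => (rs x).symm
  have z {l : T →* ℂˣ} {x : T} (k : l x⁻¹ = l x) : l x = 1 := by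
    rw [map_inv, inv_eq_iff_mul_eq_one] at k
    rw [← map_one l, ← ex x, map_pow, pow_succ, pow_two, k, one_mul]
  have lb : l b = 1 := z (rb ▸ lr b)
  have ma : m a = 1 := z (sa ▸ ms a)
  have w {l : T →* ℂˣ} {x : T} (k : l x ≠ 1) : (l x : ℂ) + (l x : ℂ)⁻¹ = -1 := by
    have h1 : (l x : ℂ) ^ 3 = 1 := by rw [← Units.val_pow_eq_pow_val, ← map_pow, ex, map_one, Units.val_one]
    have h2 : (l x : ℂ) - 1 ≠ 0 := fun e => k (Units.ext (sub_eq_zero.1 e))
    have h3 := (l x).ne_zero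
    field_simp
    exact mul_left_cancel₀ h2 (by linear_combination h1)
  let f : T → ℂ := (fun x => ((l * m) x : ℂ)) - fun x => (l x : ℂ)
  have f1 : f 1 = 0 := by simp [f]
  have gΘ : IsGeneralizedCharacter G (indFun T f) := ((isIrr_of_unitsHom _).isGen.sub (isIrr_of_unitsHom l).isGen).ind
  have vΘ (x : T) : indFun T f x = (l x + (l x : ℂ)⁻¹) * (m x + (m x : ℂ)⁻¹ - 2) := by
    by_cases x1 : x = 1
    · simp [x1, indFun_apply_one, f1]; norm_num
    · rw [h.ind f x1, sm]; simp [f, ls, lr, mr, ms]; ring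
  have nΘ : ⟪indFun T f, indFun T f⟫ = (3 : ℕ) := by
    have e : (fun x : T => indFun T f x) = (fun x => ((l * m) x : ℂ)) + (fun x => ((l * m⁻¹) x : ℂ)) +
        (fun x => ((l⁻¹ * m) x : ℂ)) + (fun x => ((l⁻¹ * m⁻¹) x : ℂ)) - (fun x => (l x : ℂ)) - (fun x => (l x : ℂ)) -
        (fun x => (l⁻¹ x : ℂ)) - fun x => (l⁻¹ x : ℂ) := funext fun x => by simp [vΘ]; ring
    have k {l m : T →* ℂˣ} (k : (l a : ℂ) ≠ m a ∨ (l b : ℂ) ≠ m b) : l ≠ m := by rintro rfl; simp at k
    have i {l : T →* ℂˣ} {x : T} (k : l x ≠ 1) : (l x : ℂ) ≠ (l x : ℂ)⁻¹ := fun e => k (z (Units.ext (by simp [← e])))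
    have i1 := i la
    have i2 := i mb
    have i3 : (m b : ℂ) ≠ 1 := fun e => mb (Units.ext e)
    rw [classInner_indFun_left _ gΘ.isClassFunction, e]
    simp only [f, classInner_sub_left, classInner_sub_right, classInner_add_right, inner_uh]
    rw [if_neg (k (l := l) (m := l * m) (.inr (by simp [lb, i3.symm]))),
      if_neg (k (l := l) (m := l * m⁻¹) (.inr (by simp [lb, mb]))),
      if_neg (k (l := l) (m := l⁻¹ * m) (.inr (by simp [lb, i3.symm]))),
      if_neg (k (l := l) (m := l⁻¹ * m⁻¹) (.inr (by simp [lb, mb]))),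
      if_neg (k (l := l * m) (m := l * m⁻¹) (.inr (by simp [lb, i2]))),
      if_neg (k (l := l * m) (m := l⁻¹ * m) (.inl (by simp [ma, i1]))),
      if_neg (k (l := l * m) (m := l⁻¹ * m⁻¹) (.inl (by simp [ma, i1]))),
      if_neg (k (l := l * m) (m := l) (.inr (by simp [lb, i3]))),
      if_neg (k (l := l * m) (m := l⁻¹) (.inr (by simp [lb, i3]))),
      if_neg (k (l := l) (m := l⁻¹) (.inl (by simp [i1])))]
    norm_num
  have fu {x : T} (x1 : x ≠ 1) (hx : ∀ e : E T, e.1 x = x ∨ e.1 x = x⁻¹) {u : G} (c : IsConj x.1 u) (hu : u ∈ T) :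
      u = x ∨ u = x⁻¹ := by
    obtain ⟨g, rfl⟩ := isConj_iff.1 c
    obtain ⟨e, he⟩ := exists_E (h.norm x.2 (by simpa using x1) hu)
    exact (hx e).imp (fun k => by rw [← he, k]) fun k => by rw [← he, k, coe_inv]
  have fa := @fu a a1 fun e => by rcases cs e with e | e | e | e <;> simp [e, sa, ra]
  have fb := @fu b b1 fun e => by rcases cs e with e | e | e | e <;> simp [e, sb, rb]
  have o3 {x : T} {u : G} (c : IsConj x.1 u) : u ^ 3 = 1 := by
    obtain ⟨g, rfl⟩ := isConj_iff.1 c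
    rw [conj_pow, h.ex x x.2, mul_one, mul_inv_cancel]
  have cinv {x : T} {e : E T} (k : e.1 x = x⁻¹) : IsConj x.1 x.1⁻¹ :=
    let ⟨n, _, hn⟩ := E_spec e; isConj_iff.2 ⟨n, by rw [← hn, k, coe_inv]⟩
  have back {u v g : G} (h1 : u * v ∈ T) (h2 : u * v ≠ 1) (h3 : g * (u * v) * g⁻¹ ∈ T) {x : G} (h4 : g * x * g⁻¹ ∈ T) :
      x ∈ T := (mem_normalizer_iff.1 (h.norm h1 h2 h3) x).2 h4
  have e1 : ⟪indFun T f, fun x => np2 a.1 a.1 x⟫ = 0 := by
    rw [ind_np2, Finset.sum_eq_zero fun p hp => ?_, mul_zero]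
    obtain ⟨-, c1, c2⟩ := Finset.mem_filter.1 hp
    by_cases k : p.1 * p.2 ∈ T
    swap; · exact extendByZero_of_not_mem _ k
    rw [extendByZero_of_mem _ k]
    suffices m ⟨_, k⟩ = 1 by simp [f, this]
    by_cases k1 : p.1 * p.2 = 1
    · rw [(show (⟨_, k⟩ : T) = 1 from Subtype.ext k1), map_one]
    have t {u : G} (hu : u ∈ T) (c : IsConj a.1 u) : m ⟨u, hu⟩ = 1 := by
      rcases fa c hu with rfl | rfl
      exacts [ma, (map_inv m a).trans (by rw [ma, inv_one])]
    by_cases k2 : IsConj a.1 (p.1 * p.2)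
    · exact t k k2
    obtain ⟨g, h1, h2⟩ := h.tri (u := p.1⁻¹) (by rw [inv_pow, o3 c1, inv_one]) (h.ex _ k) (by simpa using o3 c2)
      fun e => k2 (((cinv sa).trans (let ⟨g, hg⟩ := isConj_iff.1 c1; isConj_iff.2 ⟨g, by simp [← hg, mul_assoc]⟩)).trans e)
    have h3 := inv_mem_iff.1 (back k k1 h2 h1)
    have h4 := (mul_mem_cancel_left h3).1 k
    exact (map_mul m ⟨_, h3⟩ ⟨_, h4⟩).trans (by rw [t h3 c1, t h4 c2, one_mul])
  have nab : ¬ IsConj a.1 b.1 := fun e => by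
    rcases fa e b.2 with e | e
    · exact mb (by rw [Subtype.ext e, ma])
    · exact mb (by rw [(Subtype.ext e : b = a⁻¹), map_inv, ma, inv_one])
  have e2 : ⟪indFun T f, fun x => np2 a.1 b.1 x⟫ = (o[T] : ℂ)⁻¹ * 3 := by
    rw [ind_np2, ← Finset.sum_subset (s₁ := {a.1, a.1⁻¹} ×ˢ {b.1, b.1⁻¹}) (fun p hp => ?_) fun p hp n => ?_,
      Finset.sum_product, Finset.sum_pair (b := a.1⁻¹) (fun e => n1 (Subtype.ext e.symm)), Finset.sum_pair (b := b.1⁻¹) (fun e => n2 (Subtype.ext e.symm)),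
      Finset.sum_pair (b := b.1⁻¹) (fun e => n2 (Subtype.ext e.symm))]
    · simp only [← coe_inv, ← coe_mul, extendByZero_coe]
      simp [f, lb, ma]
      linear_combination ((m b : ℂ) + (m b : ℂ)⁻¹ - 2) * w la - w mb
    · simp only [Finset.mem_product, Finset.mem_insert, Finset.mem_singleton] at hp
      refine Finset.mem_filter.2 ⟨Finset.mem_univ _, ?_, ?_⟩
      · rcases hp.1 with e | e <;> rw [e]; exact cinv sa
      · rcases hp.2 with e | e <;> rw [e]; exact cinv rb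
    obtain ⟨-, c1, c2⟩ := Finset.mem_filter.1 hp
    by_cases k : p.1 * p.2 ∈ T
    swap; · exact extendByZero_of_not_mem _ k
    by_cases k1 : p.1 * p.2 = 1
    · rw [k1, ← coe_one T, extendByZero_coe, f1]
    obtain ⟨g, h1, h2⟩ := h.tri (o3 c1) (o3 c2) (h.ex _ k) fun e => nab (c1.trans (e.trans c2.symm))
    have h3 : g * (p.1 * p.2) * g⁻¹ ∈ T := by rw [← conj_mul]; exact mul_mem h1 h2
    exact (n (by simpa using ⟨fa c1 (back k k1 h3 h1), fb c2 (back k k1 h3 h2)⟩)).elim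
  obtain ⟨S, ε, hS, hε, -, -, eΘ⟩ := gΘ.exists_signed_sum nΘ le_rfl
  obtain ⟨x, y, t, d1, d2, d3, rfl⟩ := Finset.card_eq_three.1 hS
  rw [Finset.sum_insert (by simp [d1, d2]), Finset.sum_pair d3] at eΘ
  have v1 := vΘ 1
  have va := vΘ a
  have vb := vΘ b
  rw [w mb, lb] at vb
  rw [ma] at va
  rw [eΘ] at e1 e2 v1 va vb
  simp only [classInner_add_left, classInner_smul_left, inner_np2, Pi.add_apply, Pi.smul_apply, smul_eq_mul, coe_one,
    map_one, Units.val_one, inv_one] at e1 e2 v1 va vb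
  have ia : (C1[a.1].index : ℂ) ≠ 0 := Nat.cast_ne_zero.2 index_ne_zero_of_finite
  have g0 := natCard_ne_zero G
  have sq (u : IrrCharacter G) (hu : u ∈ ({x, y, t} : Finset _)) : (ε u : ℂ) ≠ 0 := by
    rcases hε u hu with e | e <;> simp [e]
  have e3 := tri_arith (sq x (by simp)) (sq y (by simp)) x.2.apply_one_ne_zero y.2.apply_one_ne_zero t.2.apply_one_ne_zero
    (c := ε t) (by linear_combination v1) (v1 := x.1 a) (v2 := y.1 a) (v3 := t.1 a) (by linear_combination va) (w1 := x.1 b) (w2 := y.1 b) (w3 := t.1 b)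
    (mul_left_cancel₀ (div_ne_zero (mul_ne_zero ia ia) g0) (by linear_combination e1))
  obtain ⟨n, hn⟩ := exists_int_of_rational x.2.isGen (g := a.1) fun k hk => by
    rw [orderOf_eq_prime (h.ex a a.2) (by simpa using a1)] at hk
    rw [pow_eq_pow_mod k (h.ex a a.2)]
    have : k % 3 ≠ 0 := fun e => absurd (hk.symm.eq_one_of_dvd (Nat.dvd_of_mod_eq_zero e)) (by norm_num)
    rcases (by omega : k % 3 = 1 ∨ k % 3 = 2) with e | e <;> rw [e]
    · rw [pow_one]
    · rw [eq_inv_of_mul_eq_one_left ((pow_succ a.1 2).symm.trans (h.ex a a.2))]; exact cinv sa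
  have hN : o[N[T]] = o[T] * 4 := by rw [← h4, h.cen, card_mul_relIndex le_normalizer]
  have cc {x : T} (x1 : x ≠ 1) {e : E T} (k : e.1 x = x⁻¹) : o[C1[x.1]] ≤ 2 * o[T] := by
    have l := h.ti x x.2 (by simpa using x1)
    have h1 := card_mul_relIndex l
    have h2 : C1[x.1].relIndex N[T] ≠ 1 := fun e1 => by
      obtain ⟨n, hn, he⟩ := E_spec e
      refine ni x1 (Subtype.ext ?_)
      rw [← k, he, mem_centralizer_singleton_iff.1 (relIndex_eq_one.1 e1 hn), mul_inv_cancel_right]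
    have h3 : C1[x.1].relIndex N[T] ≠ 0 := index_ne_zero_of_finite
    nlinarith [(by omega : 2 ≤ C1[x.1].relIndex N[T])]
  have e4 : 2 * o[T] * n * Nat.card G = -(o[C1[a.1]] * o[C1[b.1]] * charDegree x.1 : ℤ) := by
    have h1 := congrArg (Nat.cast (R := ℂ)) C1[a.1].index_mul_card
    have h2 := congrArg (Nat.cast (R := ℂ)) C1[b.1].index_mul_card
    have h3 := x.2.apply_one_ne_zero
    have h4 := natCard_ne_zero T
    have h5 : (C1[a.1].index * C1[b.1].index * (x.1 a / x.1 1 * -6) / Nat.card G : ℂ) = (o[T] : ℂ)⁻¹ * 3 := by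
      linear_combination e2 - C1[a.1].index * C1[b.1].index / Nat.card G * e3 -
        C1[a.1].index * C1[b.1].index / Nat.card G * (x.1 a / x.1 1) * vb
    rw [hn, irr_one_eq] at h5
    rw [irr_one_eq] at h3
    push_cast at h1 h2 h3 h5
    field_simp at h5
    refine Int.cast_injective (α := ℂ) (mul_left_cancel₀ (mul_ne_zero g0 three_ne_zero) ?_)
    push_cast
    linear_combination -(o[C1[a.1]] * o[C1[b.1]] : ℂ) * h5 - 6 * n * o[T] * Nat.card G * h1 -
      6 * n * o[T] * C1[a.1].index * o[C1[a.1]] * h2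
  have p1 := deg_sq_le x.2
  have p2 : 0 < charDegree x.1 := Nat.pos_of_ne_zero fun e => x.2.apply_one_ne_zero (by rw [irr_one_eq, e]; simp)
  have p3 := Nat.mul_le_mul (cc a1 sa) (cc b1 rb)
  have p4 : 0 < o[C1[a.1]] * o[C1[b.1]] := Nat.mul_pos Nat.card_pos Nat.card_pos
  have p5 : 1 < o[T] := Finite.one_lt_card_iff_nontrivial.2 ⟨a, 1, a1⟩
  have p6 := N[T].card_mul_index
  have p7 := h.index
  have p8 : 2 * o[T] * Nat.card G ≤ o[C1[a.1]] * o[C1[b.1]] * charDegree x.1 := by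
    have := congrArg Int.natAbs e4
    simp only [Int.natAbs_mul, Int.natAbs_neg, Int.natAbs_natCast, Int.reduceAbs] at this
    rw [← this]
    exact Nat.mul_le_mul_right _ (Nat.le_mul_of_pos_right _ (Nat.pos_of_ne_zero fun e => by
      rw [e] at this; have := Nat.mul_pos p4 p2; omega))
  have p9 : Nat.card G ≤ 2 * o[T] * charDegree x.1 :=
    Nat.le_of_mul_le_mul_left (p8.trans ((Nat.mul_le_mul_right _ p3).trans_eq (mul_assoc ..))) (by omega)
  have q1 : charDegree x.1 ≤ 2 * o[T] := by nlinarith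
  have q2 : N[T].index ≤ o[T] := by rw [hN] at p6; nlinarith
  refine index_eq_one.1 (by_contra fun k => ?_)
  have := (Nat.modEq_iff_dvd' (Nat.pos_of_ne_zero index_ne_zero_of_finite)).1 p7.symm
  have := Nat.le_of_dvd (by have := index_ne_zero_of_finite (H := N[T]); omega) this
  omega

end TI3

end CfsgL0
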