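import Cfsg.Agent.L0.V3
import Cfsg.Agent.L0.TwoF

/-! Four-groups as automizers of elementary abelian Sylow 3-subgroups. -/

namespace CfsgL0
open Cfsg Subgroup CfsgH2 CfsgBf CfsgH8

variable {G : Type*} [Group G] [Finite G] {T : Subgroup G}

theorem TI3.four' (h : TI3 T) (h4 : C[T].relIndex N[T] = 4) (sq : ∀ n ∈ N[T], n * n ∈ T) : N[T] = ⊤ := by
  classical
  have := Fintype.ofFinite G
  have := Fintype.ofFinite (E T)
  letI : CommGroup T := { (inferInstance : Group T) with mul_comm x y := Subtype.ext (h.comm x.2 y.2) }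
  have ee (e : E T) (x : T) : e.1 (e.1 x) = x := by
    obtain ⟨n, hn, he⟩ := E_spec e
    refine Subtype.ext ?_
    rw [he, he, ← mul_assoc, ← mul_assoc, mul_assoc _ n⁻¹, ← mul_inv_rev, h.comm (sq n hn) x.2, mul_inv_cancel_right]
  have e2 (e : E T) : e * e = 1 := Subtype.ext (MulEquiv.ext (ee e))
  have cm (e f : E T) (x : T) : e.1 (f.1 x) = f.1 (e.1 x) := by
    have := ee (e * f) (f.1 (e.1 x))
    simpa [ee] using this
  have L (r u : E T) (u1 : u ≠ 1) : (∃ a ≠ 1, r.1 a = a ∧ u.1 a = a⁻¹) ∨ ∃ a ≠ 1, r.1 a = a⁻¹ ∧ u.1 a = a⁻¹ := by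
    by_contra! k
    refine u1 (Subtype.ext (MulEquiv.ext fun x => (mul_inv_eq_one.1 (by_contra fun y1 => ?_)).symm))
    have hy : u.1 (x * (u.1 x)⁻¹) = (x * (u.1 x)⁻¹)⁻¹ := by simp [ee]
    change x * (u.1 x)⁻¹ ≠ 1 at y1
    generalize x * (u.1 x)⁻¹ = y at *
    refine k.2 y y1 (eq_inv_of_mul_eq_one_right (by_contra fun z1 => k.1 _ z1 ?_ ?_)) hy
    · rw [map_mul, ee, mul_comm]
    · rw [map_mul, cm, hy, map_inv, mul_inv]
  have : Nontrivial (E T) := Finite.one_lt_card_iff_nontrivial.1 (by rw [card_E, h4]; norm_num)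
  obtain ⟨s, s1⟩ : ∃ s : E T, s ≠ 1 := exists_ne 1
  obtain ⟨r, hr⟩ : ∃ r : E T, r ∉ ({1, s} : Finset (E T)) := by
    by_contra! k
    have := Finset.card_le_card (fun x _ => k x : Finset.univ ⊆ _)
    rw [Finset.card_univ, ← Nat.card_eq_fintype_card, card_E, h4] at this
    have := Finset.card_le_two (a := 1) (b := s)
    omega
  simp only [Finset.mem_insert, Finset.mem_singleton, not_or] at hr
  have u1 : s * r ≠ 1 := fun e => hr.2 (mul_left_cancel (e.trans (e2 s).symm))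
  rcases L r s s1 with ⟨a, a1, ra, sa⟩ | ⟨c, c1, rc, sc⟩
  · rcases L s r hr.1 with ⟨b, b1, sb, rb⟩ | ⟨c, c1, sc, rc⟩
    · exact h.four h4 a1 b1 sa ra sb rb
    · exact h.four h4 (s := s * r) a1 c1 (by simp [sa, ra]) ra (by simp [sc, rc]) rc
  · rcases L s (s * r) u1 with ⟨b, b1, sb, ub⟩ | ⟨a, a1, sa, ua⟩
    · exact h.four h4 c1 b1 sc (r := s * r) (by simp [sc, rc]) sb ub
    · refine h.four h4 a1 c1 ua ?_ (by simp [sc, rc]) rc
      simpa [← sa] using ua

theorem ti3_108 {a b c s r : G} {H : Subgroup G} (hH : H = Subgroup.closure {a, b, c, s, r}) (a3 : orderOf a = 3) (b3 : orderOf b = 3)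
    (c3 : orderOf c = 3) (ab : Commute a b) (ac : Commute a c) (bc : Commute b c) (sa : s * a * s⁻¹ = a⁻¹)
    (sb : s * b * s⁻¹ = b⁻¹) (sc : s * c * s⁻¹ = c) (ra : r * a * r⁻¹ = a⁻¹) (rb : r * b * r⁻¹ = b)
    (rc : r * c * r⁻¹ = c⁻¹) (ss : s * s = 1) (rr : r * r = 1) (sr : r * s = s * r) (l : T ≤ H) (hT : o[T] = 27)
    (hN : N[T] = H) (hC : ∀ t ∈ T, t ≠ 1 → C1[t] ≤ H) : H = ⊤ := by
  classical
  have := Fintype.ofFinite G
  have : Fact (Nat.Prime 3) := ⟨by norm_num⟩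
  have p3 {x : G} (h : orderOf x = 3) : x ^ 3 = 1 := h ▸ pow_orderOf_eq_one x
  have ni {x : G} (h : orderOf x = 3) : x ≠ x⁻¹ := fun e => by
    have := orderOf_dvd_of_pow_eq_one (x := x) (n := 2) (by rw [sq, mul_eq_one_iff_eq_inv]; exact e)
    rw [h] at this; omega
  have cj1 {x y : G} (h : Commute x y) : y * x * y⁻¹ ∈ zpowers x := by rw [← h.eq, mul_inv_cancel_right]; exact mem_zpowers x
  have srb : s * r * b * (s * r)⁻¹ = b⁻¹ := by
    rw [← sb]; nth_rewrite 2 [← rb]; group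
  have iz (x : G) : x⁻¹ ∈ zpowers x := inv_mem (mem_zpowers x)
  obtain ⟨A, hA⟩ : ∃ A, A = zpowers a ⊔ zpowers b ⊔ zpowers c := ⟨_, rfl⟩
  have nA {g : G} (h1 : g * a * g⁻¹ ∈ zpowers a) (h2 : g * b * g⁻¹ ∈ zpowers b) (h3 : g * c * g⁻¹ ∈ zpowers c) : g ∈ N[A] :=
    hA ▸ mem_norm_sup (mem_norm_sup (mem_norm_zpowers h1) (mem_norm_zpowers h2)) (mem_norm_zpowers h3)
  have cA : o[A] ∣ 27 := by
    have h1 := card_sup_zpowers_dvd (n := 3) (mem_norm_zpowers (cj1 ab)) (p3 b3 ▸ one_mem _)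
    have h2 := card_sup_zpowers_dvd (n := 3) (mem_norm_sup (mem_norm_zpowers (cj1 ac)) (mem_norm_zpowers (cj1 bc)))
      (p3 c3 ▸ one_mem _)
    rw [Nat.card_zpowers, a3] at h1
    exact hA ▸ h2.trans (mul_dvd_mul_right h1 3)
  have s1 : s ≠ 1 := fun e => ni a3 (by simpa [e] using sa)
  have rs : r ∉ zpowers s := fun e => by
    have : Commute r c := by
      obtain ⟨n, rfl⟩ := e
      exact Commute.zpow_left (show Commute s c from mul_inv_eq_iff_eq_mul.1 sc) n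
    exact ni c3 (by rw [← rc, this.eq, mul_inv_cancel_right])
  have k4 := k4_of ss s1 rr rs sr
  have VA : zpowers s ⊔ zpowers r ≤ N[A] := sup_le
    (zpowers_le.2 (nA (sa ▸ iz a) (sb ▸ iz b) (sc.symm ▸ mem_zpowers c)))
    (zpowers_le.2 (nA (ra ▸ iz a) (rb.symm ▸ mem_zpowers b) (rc ▸ iz c)))
  have aA : a ∈ A := hA ▸ mem_sup_left (mem_sup_left (mem_zpowers a))
  have bA : b ∈ A := hA ▸ mem_sup_left (mem_sup_right (mem_zpowers b))
  have cA' : c ∈ A := hA ▸ mem_sup_right (mem_zpowers c)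
  have hA' : A = Subgroup.closure {a, b, c} := by
    simp only [hA, zpowers_eq_closure, ← Subgroup.closure_union]; congr 1; ext; simp; tauto
  have HAV : H = A ⊔ (zpowers s ⊔ zpowers r) := by
    simp only [hH, hA', zpowers_eq_closure, ← Subgroup.closure_union]; congr 1; ext; simp; tauto
  have cH : o[H] ∣ o[A] * 4 := k4.1 ▸ HAV ▸ card_sup_dvd (Or.inr VA)
  have i4 : T.relIndex H ∣ 4 := by
    have := cH.trans (mul_dvd_mul_right cA 4)
    rwa [← card_mul_relIndex l, hT, mul_dvd_mul_iff_left (by norm_num)] at this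
  have sy : Syl 3 T H := ⟨l, isPGroup_of_card (n := 3) hT, fun e => absurd (e.trans i4) (by norm_num)⟩
  have AT : A = T := by
    refine eq_of_le_of_card_le (sy.le_of_norm' (IsPGroup.of_card_dvd_pow (n := 3) cA) (HAV ▸ le_sup_left)
      (hN ▸ HAV ▸ le_sup_left)) (Nat.le_of_dvd Nat.card_pos ?_)
    exact hT ▸ (by norm_num : Nat.Coprime 27 4).dvd_of_dvd_mul_right (hT ▸ (card_dvd_of_le l).trans cH)
  subst AT
  have ce {g : G} (h1 : Commute a g) (h2 : Commute b g) (h3 : Commute c g) : g ∈ C[A] := by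
    rw [hA', centralizer_closure]
    rintro _ (rfl | rfl | rfl) <;> assumption
  have AC : A ≤ C[A] := by
    nth_rewrite 1 [hA]
    exact sup_le (sup_le (zpowers_le.2 (ce rfl ab.symm ac.symm)) (zpowers_le.2 (ce ab rfl bc.symm))) (zpowers_le.2 (ce ac bc rfl))
  have cen : C[A] = A := le_antisymm (fun x hx => by
    obtain ⟨t, ht, v, hv, rfl⟩ := (mem_sup_of_norm' VA).1 (HAV ▸ hN ▸ centralizer_le_normalizer _ hx)
    have hv' : v ∈ C[A] := (mul_mem_cancel_left (AC ht)).1 hx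
    have k {y : G} (hy : y ∈ A) : v * y * v⁻¹ = y := by rw [← hv' y hy, mul_inv_cancel_right]
    rcases k4.cases (mem_sup_left (mem_zpowers s)) s1 (mem_sup_right (mem_zpowers r)) rs hv with rfl | rfl | rfl | rfl
    · simpa
    · exact (ni a3 ((k aA).symm.trans sa)).elim
    · exact (ni a3 ((k aA).symm.trans ra)).elim
    · exact (ni b3 ((k bA).symm.trans srb)).elim) AC
  have ex (x) (hx : x ∈ A) : x ^ 3 = 1 := by
    rw [hA'] at hx AC
    induction hx using closure_induction with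
    | mem x h => rcases h with rfl | rfl | rfl <;> exact p3 ‹_›
    | one => exact one_pow _
    | mul x y hx hy h1 h2 => rw [Commute.mul_pow (AC hy x hx), h1, h2, one_mul]
    | inv x _ h => rw [inv_pow, h, inv_one]
  have h : TI3 A := ⟨.of_norm le_top (by rwa [top_inf_eq, hN]), ex, cen, hN ▸ hC⟩
  have h4 : C[A].relIndex N[A] = 4 := by
    have := card_mul_relIndex l
    rw [cen, hN]
    rw [HAV, card_sup_of_disj (Or.inr VA) (inf_eq_bot_of_coprime' (by rw [hT, k4.1]; norm_num)), k4.1, ← HAV] at this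
    exact mul_left_cancel₀ Nat.card_pos.ne' this
  obtain ⟨e, he⟩ := exists_E (VA (mem_sup_right (mem_zpowers r)))
  obtain ⟨f, hf⟩ := exists_E (VA (mul_mem (mem_sup_left (mem_zpowers s)) (mem_sup_right (mem_zpowers r))))
  rw [← hN]
  refine h.four h4 (a := ⟨a, aA⟩) (b := ⟨b, bA⟩) (s := e) (r := f) (fun k => ni a3 (by simp [show a = 1 from congrArg Subtype.val k]))
    (fun k => ni b3 (by simp [show b = 1 from congrArg Subtype.val k])) (Subtype.ext (he _ ▸ ra)) (Subtype.ext ?_) (Subtype.ext (he _ ▸ rb))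
    (Subtype.ext ((hf _).trans srb))
  rw [hf]; change s * r * a * _ = a
  calc _ = s * (r * a * r⁻¹) * s⁻¹ := by group
    _ = (s * a * s⁻¹)⁻¹ := by rw [ra]; group
    _ = a := by rw [sa, inv_inv]

end CfsgL0
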