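import Cfsg.Agent.L0.ZS4a
import Cfsg.Agent.L0.A6E
import Cfsg.Agent.L0.D8E
import Cfsg.Agent.H4.ZS
import Cfsg.Agent.H1.Frob
import Cfsg.Agent.H2.Misc

/-! Groups with an involution centralizer `Z₂ × S₄`. -/

namespace CfsgL0
open Function Subgroup Cfsg CfsgH2 Q48
open scoped commutatorElement

variable {G : Type*} [Group G] [Finite G] {f : Q48 →* G}

structure ZS (f : Q48 →* G) : Prop where
  inj : Injective f
  ran : ∀ g, g * f t = f t * g → ∃ q, f q = g
  cz : ∀ g, g * f z = f z * g → ∃ q, f q = g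
  syl : Syl 2 C1[f z] ⊤

theorem ZS.of {s : G} (hs : orderOf s = 2) {T : Subgroup G} (hT : Syl 2 T ⊤) (l : T ≤ C1[s]) (e : C1[s] ≃* Q48)
    (h2 : ∀ S : Subgroup G, Syl 2 S ⊤ → C[(⁅S, S⁆ : Subgroup G)] = S) : ∃ f : Q48 →* G, ZS f ∧ f t = s := by
  let f := C1[s].subtype.comp e.symm.toMonoidHom
  have inj : Injective f := C1[s].subtype_injective.comp e.symm.injective
  have ft : f t = s := by
    have h1 (q : Q48) : e ⟨s, self_mem_cent1 s⟩ * q = q * e ⟨s, self_mem_cent1 s⟩ := by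
      obtain ⟨a, rfl⟩ := e.surjective q
      rw [← map_mul, ← map_mul]
      exact congrArg e (Subtype.ext (mem_centralizer_singleton_iff.1 a.2).symm)
    rcases cen' _ (h1 z) (h1 y) with h | h
    · exact absurd (congrArg Subtype.val (e.map_eq_one_iff.1 h)) (inv_ne_one hs)
    · simp [f, ← h]
  have c1 : o[C1[z].map f] = 16 := by rw [card_map_of_injective inj, c16]
  have pg : PG[2, C1[z].map f] := .of_card (n := 4) c1
  obtain ⟨P, hP, lP⟩ := exists_syl_ge pg le_top
  have eP : C1[z].map f = P := by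
    refine eq_of_le_of_card_ge lP ?_
    obtain ⟨k, hk⟩ := IsPGroup.iff_card.1 hT.pg
    have h1 := card_dvd_of_le l
    rw [Nat.card_congr e.toEquiv, Q48.card, hk] at h1
    rw [hP.card_eq_card hT, c1, hk]
    exact Nat.le_of_dvd (by norm_num) ((Nat.Coprime.pow_left k (by norm_num : Nat.Coprime 2 3)).dvd_of_dvd_mul_right
      (by simpa using h1))
  have le : C1[f z] ≤ C1[z].map f := fun g hg => by
    rw [eP, ← h2 P hP, ← eP]
    refine le_cent1_iff.1 (commutator_le.2 ?_)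
    rintro _ ⟨p, hp, rfl⟩ _ ⟨q, hq, rfl⟩
    rw [← map_commutatorElement, commutatorElement_def]
    rcases com p (mem_centralizer_singleton_iff.1 hp) q (mem_centralizer_singleton_iff.1 hq) with h | h <;> rw [h]
    exacts [by rw [map_one]; exact one_mem _, mem_centralizer_singleton_iff.2 (mem_centralizer_singleton_iff.1 hg).symm]
  refine ⟨f, ⟨inj, fun g hg => ⟨e ⟨g, mem_centralizer_singleton_iff.2 (ft ▸ hg)⟩, by simp [f]⟩, fun g hg => ?_, ?_⟩, ft⟩
  · obtain ⟨q, -, h⟩ := le (mem_centralizer_singleton_iff.2 hg)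
    exact ⟨q, h⟩
  · rwa [le_antisymm le, eP]
    rintro _ ⟨q, hq, rfl⟩
    rw [mem_centralizer_singleton_iff, ← map_mul, ← map_mul, mem_centralizer_singleton_iff.1 hq]

theorem ZS.al (h : ZS f) : ZS (f.comp al) := by
  have e1 : f.comp Q48.al t = f t := congrArg f al_t
  have e2 : f.comp Q48.al z = f z := congrArg f al_z
  have e (g : G) (hg : ∃ q, f q = g) : ∃ q, f.comp Q48.al q = g :=
    let ⟨q, hq⟩ := hg; ⟨Q48.al q, (congrArg f (al_al q)).trans hq⟩
  exact ⟨h.inj.comp (LeftInverse.injective al_al), fun g hg => e g (h.ran g (e1 ▸ hg)),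
    fun g hg => e g (h.cz g (e2 ▸ hg)), e2 ▸ h.syl⟩

namespace ZS
variable (h : ZS f)
include h

omit [Finite G] in
theorem cm {p q : Q48} (e : f p * f q = f q * f p) : p * q = q * p := h.inj (by simpa using e)

theorem nc {p q : Q48} (hp : ∀ a, a * z = z * a → a * p = p * a) (hq : ∀ a, a * z = z * a → a * q = q * a)
    (e : IsConj (f p) (f q)) : p = q := by
  have cs (p : Q48) (hp : ∀ a, a * z = z * a → a * p = p * a) : f p ∈ C[C1[f z]] :=
    mem_centralizer_iff.2 fun g hg => by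
      obtain ⟨a, rfl⟩ := h.cz g (mem_centralizer_singleton_iff.1 hg)
      rw [← map_mul, ← map_mul, hp a (h.cm (mem_centralizer_singleton_iff.1 hg))]
  obtain ⟨g, hg⟩ := isConj_iff.1 e
  obtain ⟨n, ⟨-, hn⟩, e1⟩ := h.syl.fusion_cent (mem_top g) (cs p hp) (hg ▸ cs q hq)
  have h1 := mem_centralizer_singleton_iff.1 (conj_mem_of_norm hn (show f r ∈ C1[f z] from
    mem_centralizer_singleton_iff.2 (by rw [← map_mul, ← map_mul]; congr 1; decide +kernel)))
  obtain ⟨a, ha⟩ := h.cz _ h1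
  have h2 : f (a * a) = n * f z * n⁻¹ := by
    rw [map_mul, ha, (show z = r * r by decide +kernel), map_mul]; group
  rcases sq a (h.cm (ha ▸ h1)) with h3 | h3 <;> rw [h3] at h2
  · exact absurd (h.inj ((conj_eq_one_iff.1 (h2.symm.trans (map_one f))).trans (map_one f).symm)) (by decide +kernel)
  · refine h.inj ?_
    rw [← hg, ← e1, mem_centralizer_iff.1 (cs p hp) n
      (mem_centralizer_singleton_iff.2 (mul_inv_eq_iff_eq_mul.1 h2.symm)), mul_inv_cancel_right]

theorem n1 : ¬ IsConj (f t) (f z) := fun e => absurd (h.nc (fun a _ => cen a) (fun _ => id) e) (by decide +kernel)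
theorem n2 : ¬ IsConj (f t) (f (t * z)) := fun e => absurd (h.nc (fun a _ => cen a) Q48.cz e) (by decide +kernel)
theorem n3 : ¬ IsConj (f z) (f (t * z)) := fun e => absurd (h.nc (fun _ => id) Q48.cz e) (by decide +kernel)

theorem both (h1 : IsConj (f t) (f c)) (h2 : IsConj (f t) (f (t * c))) : False := by
  obtain ⟨x, hx⟩ := isConj_iff.1 h1
  have k {a b : G} (e : a * (x * b * x⁻¹) = x * b * x⁻¹ * a) : x⁻¹ * a * x * b = b * (x⁻¹ * a * x) := by
    calc _ = x⁻¹ * (a * (x * b * x⁻¹)) * x := by group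
      _ = _ := by rw [e]; group
  have k' {a b : G} (e : b * (x⁻¹ * a * x) = x⁻¹ * a * x * b) : x * b * x⁻¹ * a = a * (x * b * x⁻¹) := by
    calc _ = x * (b * (x⁻¹ * a * x)) * x⁻¹ := by group
      _ = _ := by rw [e]; group
  have m {p q : Q48} (e : p * q = q * p) : f p * f q = f q * f p := by rw [← map_mul, ← map_mul, e]
  have i {p q : Q48} (e : f p = x⁻¹ * f q * x) (o : q * q = 1) : p * p = 1 := h.inj (by
    rw [map_mul, e, map_one]
    calc _ = x⁻¹ * f (q * q) * x := by rw [map_mul]; group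
      _ = _ := by simp [o])
  obtain ⟨p, hp⟩ := h.ran _ (k (a := f z) (by rw [hx]; exact m (by decide +kernel)))
  obtain ⟨q, hq⟩ := h.ran _ (k (a := f t) (by rw [hx]; exact m (by decide +kernel)))
  obtain ⟨u, -, u1, u2⟩ := two p (i hp (by decide +kernel)) q (i hq (by decide +kernel)) (h.cm (by
    rw [hp, hq]
    calc _ = x⁻¹ * (f z * f t) * x := by group
      _ = _ := by rw [m (cen z)]; group))
  have c1 := k' (hp ▸ m u1)
  obtain ⟨w, hw⟩ := h.cz _ c1
  have c2 : f w * f c = f c * f w := by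
    rw [hw, ← hx]
    calc _ = x * (f (u * z * u⁻¹) * f t) * x⁻¹ := by group
      _ = _ := by rw [m (cen _)]; group
  have e : x * f u * f z * (x * f u)⁻¹ = f w := by rw [hw]; simp only [map_mul, map_inv]; group
  have j : IsConj (f z) (f w) := isConj_iff.2 ⟨_, e⟩
  have jr : IsConj (f w) (f (r * w * r⁻¹)) := f.map_isConj (isConj_iff.2 ⟨r, rfl⟩)
  have o : w * w = 1 := h.inj (by
    rw [map_mul, ← e, map_one, conj_mul, ← map_mul, (show z * z = 1 by decide +kernel), map_one, mul_one,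
      mul_inv_cancel])
  rcases w8 w o (h.cm (hw ▸ c1)) (h.cm c2) with rfl | rfl | rfl | rfl | rfl | e1 | rfl | e1
  · exact absurd (h.inj ((isConj_one_left.1 (map_one f ▸ j)).trans (map_one f).symm)) (by decide +kernel)
  · obtain ⟨v, hv⟩ := h.cz _ (mul_inv_eq_iff_eq_mul.1 e)
    rw [← mul_inv_eq_iff_eq_mul, ← map_inv, ← map_mul] at hv
    rw [← hv, m (cen _), mul_inv_cancel_right] at hx
    exact absurd (h.inj hx) (by decide +kernel)
  exacts [h.n1 j.symm, h.n3 j, h.n1 (h1.trans j.symm), h.n1 (h1.trans (e1 ▸ j.trans jr).symm),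
    h.n1 (h2.trans j.symm), h.n1 (h2.trans (e1 ▸ j.trans jr).symm)]

theorem core : pPrimeCore 2 G = ⊥ := by
  have k (u : Q48) : pPrimeCore 2 G ⊓ C1[f (u * z * u⁻¹)] = ⊥ := by
    refine eq_bot_iff.2 fun a ⟨h1, h2⟩ => ?_
    have h3 : (f u)⁻¹ * a * (f u)⁻¹⁻¹ ∈ pPrimeCore 2 G ⊓ C1[f z] := ⟨Normal.conj_mem inferInstance _ h1 _,
      mem_centralizer_singleton_iff.2 (by
        have := mem_centralizer_singleton_iff.1 h2
        simp only [map_mul, map_inv] at this
        calc _ = (f u)⁻¹ * (a * (f u * f z * (f u)⁻¹)) * f u := by group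
          _ = _ := by rw [this]; group)⟩
    rw [eq_bot_of_pgroup_of_not_dvd (h.syl.pg.to_le inf_le_right)
      fun d => not_dvd_pPrimeCore (d.trans (card_dvd_of_le inf_le_left))] at h3
    exact conj_eq_one_iff.1 h3
  have i (u : Q48) {a : G} (ha : a ∈ pPrimeCore 2 G) := CfsgH1.inv_of_fpf_involution
    (le_normalizer_of_normal (mem_top _)) (k u) (by
      rw [← map_mul, conj_mul, (show z * z = 1 by decide +kernel), mul_one, mul_inv_cancel, map_one]) ha
  refine eq_bot_iff.2 fun a ha => k y⁻¹ ▸ ⟨ha, mem_centralizer_singleton_iff.2 ?_⟩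
  rw [(show y⁻¹ * z * y⁻¹⁻¹ = 1 * z * 1⁻¹ * (y * z * y⁻¹) by decide +kernel), map_mul, eq_comm,
    ← mul_inv_eq_iff_eq_mul]
  calc _ = f (1 * z * 1⁻¹) * (f (y * z * y⁻¹) * a * (f (y * z * y⁻¹))⁻¹) * (f (1 * z * 1⁻¹))⁻¹ := by group
    _ = _ := by rw [i y ha, i 1 (inv_mem ha), inv_inv]

omit [Finite G] in
theorem ot : orderOf (f t) = 2 := by
  rw [orderOf_injective f h.inj]; exact orderOf_eq_prime (by decide +kernel) (by decide +kernel)

theorem cls (g : G) (e : g * f t * g⁻¹ * f t = f t * (g * f t * g⁻¹)) (n : ¬ IsConj (f t) (f c)) :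
    g * f t * g⁻¹ = f t ∨ IsConj (f t) (f (t * c)) ∧ g * f t * g⁻¹ ∉ (MonoidHom.fst _ _).ker.map f := by
  obtain ⟨q, hq⟩ := h.ran _ e
  have j (u : Q48) : IsConj (f t) (f (u * q * u⁻¹)) :=
    (isConj_iff.2 ⟨g, hq.symm⟩).trans (f.map_isConj (isConj_iff.2 ⟨u, rfl⟩))
  rcases Q48.cls q (h.inj (by rw [map_mul, hq, conj_mul, inv_mul_self h.ot, map_one, mul_one, mul_inv_cancel])) with
    rfl | rfl | ⟨u, e | e | ⟨e1, e | e⟩⟩
  · exact absurd (conj_eq_one_iff.1 (hq.symm.trans (map_one f))) (inv_ne_one h.ot)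
  exacts [.inl hq.symm, absurd (e ▸ j u) h.n1, absurd (e ▸ j u) n, absurd (e ▸ j u) h.n2,
    .inr ⟨e ▸ j u, fun m => e1 ((mem_map_iff_mem h.inj).1 (hq ▸ m))⟩]

theorem s6 (n : ¬ IsConj (f t) (f c)) (j : IsConj (f t) (f (t * c))) : Nonempty (G ≃* Equiv.Perm (Fin 6)) := by
  classical
  have m {p q : Q48} (e : p * q = q * p) : f p * f q = f q * f p := by rw [← map_mul, ← map_mul, e]
  have t1 : f t ∉ (MonoidHom.fst _ _).ker.map f := fun m =>
    absurd ((mem_map_iff_mem h.inj).1 m) (by rw [MonoidHom.mem_ker]; decide +kernel)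
  obtain ⟨M, hn, hi, tM⟩ := thompson_transfer (P := C1[f z]) (Q := (MonoidHom.fst _ _).ker.map f)
    (Nat.odd_iff.2 (Nat.two_dvd_ne_zero.1 (relIndex_top_right C1[f z] ▸ h.syl.nd)))
    (relIndex_eq_two_iff_exists_notMem_and'.2 ⟨f t, mem_centralizer_singleton_iff.2 (m (cen z).symm), t1, fun b hb => by
      obtain ⟨q, rfl⟩ := h.cz b (mem_centralizer_singleton_iff.1 hb)
      rw [← map_mul, mem_map_iff_mem h.inj, mem_map_iff_mem h.inj]
      exact (Q48.fst q).symm⟩) (inv_mul_self h.ot) (mem_centralizer_singleton_iff.2 (m (cen z).symm)) fun g hg => by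
      rcases h.cls g (by obtain ⟨q, -, e⟩ := hg; rw [← e, m (cen q)]) n with e | e
      exacts [t1 (e ▸ hg), e.2 hg]
  obtain ⟨x, hx⟩ := isConj_iff.1 j
  have cM : f c ∈ M := by
    have := (mul_mem_iff_of_index_two hi (a := f t) (b := f (t * c))).2 (iff_of_false tM fun e =>
      tM ((hn.mem_comm_iff.1 (mul_assoc x _ _ ▸ hx ▸ e) |> (by simpa using ·))))
    rwa [← map_mul, ← mul_assoc, (show t * t = 1 by decide +kernel), one_mul] at this
  have mM (q : Q48) : f q ∈ M ↔ q.1 = 1 := by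
    have k (q : Q48) (e : q.1 = 1) : f q ∈ M := by
      obtain ⟨a, rfl | rfl⟩ := sqs q e <;> simp only [map_mul]
      exacts [mul_self_mem_of_index_two hi _, mul_mem cM (mul_self_mem_of_index_two hi _)]
    refine ⟨fun e => (Q48.fst q).resolve_right fun e1 => tM ?_, k q⟩
    have := k _ e1
    rwa [map_mul, mul_mem_cancel_right e] at this
  have zM : f z ∈ M := (mM z).2 rfl
  have yM : f y ∈ M := (mM y).2 rfl
  let ψ := (f.comp dh).codRestrict M fun d => (mM _).2 ((dh_ran _).1 ⟨d, rfl⟩).1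
  have ψi : Injective ψ := fun a b e => dh_inj (h.inj (congrArg Subtype.val e))
  have ψr : C1[(⟨f z, zM⟩ : M)] = ψ.range := by
    ext a
    rw [mem_centralizer_singleton_iff, Subtype.ext_iff]
    refine ⟨fun e => ?_, by rintro ⟨d, rfl⟩; exact m ((dh_ran _).1 ⟨d, rfl⟩).2⟩
    obtain ⟨q, hq⟩ := h.cz a e
    obtain ⟨d, rfl⟩ := (dh_ran q).2 ⟨(mM q).1 (hq ▸ a.2), h.cm (by rw [hq]; exact e)⟩
    exact ⟨d, Subtype.ext hq⟩
  have cC : o[C1[f t]] = 48 := by
    rw [← Q48.card, Nat.card_congr (MonoidHom.ofInjective h.inj).toEquiv]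
    congr 2
    ext g
    rw [mem_centralizer_singleton_iff]
    exact ⟨h.ran g, by rintro ⟨q, rfl⟩; exact m (cen q)⟩
  have c8 : 8 ≤ C1[f t].index := by
    have k (q : Q48) (hq : q ∈ insert t sw) : IsConj (f t) (f q) := by
      rcases Finset.mem_insert.1 hq with rfl | hq
      · rfl
      · exact j.trans (f.map_isConj (isConj_iff.2 (Finset.mem_filter.1 hq).2))
    have h1 : x⁻¹ * f (y * (t * c) * y⁻¹) * x⁻¹⁻¹ ∉ (insert t sw).image f := fun e => by
      obtain ⟨q, -, e⟩ := Finset.mem_image.1 e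
      have := m (cen q)
      refine absurd (h.cm (p := y * (t * c) * y⁻¹) (q := t * c) ?_) (by decide +kernel)
      rw [← hx]
      rw [e] at this
      calc _ = x * (x⁻¹ * f (y * (t * c) * y⁻¹) * x⁻¹⁻¹ * f t) * x⁻¹ := by group
        _ = _ := by rw [this]; group
    rw [← CfsgH8.ncard_conj_eq_index]
    refine le_of_eq_of_le ?_ (Set.ncard_le_ncard (s := ((insert (x⁻¹ * f (y * (t * c) * y⁻¹) * x⁻¹⁻¹)
      ((insert t sw).image f) : Finset G) : Set G)) (fun g hg => ?_))
    · rw [Set.ncard_coe_finset, Finset.card_insert_of_notMem h1, Finset.card_image_of_injective _ h.inj, card_sw]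
    · rcases Finset.mem_insert.1 hg with rfl | hg
      · exact (j.trans (f.map_isConj (isConj_iff.2 ⟨y, rfl⟩))).trans (isConj_iff.2 ⟨_, rfl⟩)
      · obtain ⟨q, hq, rfl⟩ := Finset.mem_image.1 hg
        exact k q hq
  have e1 := C1[f t].card_mul_index
  have e2 := M.card_mul_index
  rw [cC] at e1
  rw [hi] at e2
  rcases d8_main (z := (⟨f z, zM⟩ : M)) (by
    rw [← orderOf_coe, orderOf_injective f h.inj]; exact orderOf_eq_prime (by decide +kernel) (by decide +kernel))
    ((MulEquiv.subgroupCongr ψr).trans (MonoidHom.ofInjective ψi).symm) with ⟨_, e | e⟩ | ⟨-, e | ⟨⟨e⟩⟩ | ⟨⟨e⟩⟩⟩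
  · omega
  · obtain ⟨φ, hφ⟩ := a6_ext (a6_360 e).some (y := ⟨f y, yM⟩) (by
      rw [← orderOf_coe, orderOf_injective f h.inj]
      exact @orderOf_eq_prime _ _ _ _ ⟨Nat.prime_three⟩ (by decide +kernel) (by decide +kernel)) (fun g => by
        by_cases hg : g ∈ M
        · exact isConj_iff.2 ⟨⟨g, hg⟩, rfl⟩
        · refine isConj_iff.2 ⟨⟨g * f t, (mul_mem_iff_of_index_two hi).2 (iff_of_false hg tM)⟩, Subtype.ext ?_⟩
          change g * f t * f y * (g * f t)⁻¹ = g * f y * g⁻¹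
          rw [mul_assoc g, ← m (cen y)]; group) (eq_bot_iff.2 fun k hk => by
        have k1 := (mem_centralizer_iff.1 hk _ zM).symm
        obtain ⟨q, rfl⟩ := h.cz k k1
        rcases cen' q (h.cm k1) (h.cm (mem_centralizer_iff.1 hk _ yM).symm) with rfl | rfl
        · exact map_one f
        · have := card_le_of_le (le_cent1_iff.2 hk)
          omega)
    exact CfsgH8.nonempty_equiv_perm_of_injective (n := 6) φ hφ (by simp) (by simp [Nat.factorial]; omega)
  · rw [show oddCore M = ⊥ from CfsgH4.core_eq_bot_of_normal h.core M, sup_bot_eq] at e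
    have : (⟨f y, yM⟩ : M) ∈ C1[(⟨f z, zM⟩ : M)] := e ▸ mem_top _
    exact absurd (h.cm (p := y) (q := z) (Subtype.ext_iff.1 (mem_centralizer_singleton_iff.1 this)))
      (by decide +kernel)
  all_goals
    have := Nat.card_congr e.toEquiv
    rw [Nat.card_perm, Nat.card_fin] at this
    simp only [Nat.factorial] at this
    omega

theorem main : f t ∈ center G ∨ Nonempty (G ≃* Equiv.Perm (Fin 6)) := by
  wlog n : ¬ IsConj (f t) (f c) generalizing f
  · have := this h.al (by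
      rw [MonoidHom.comp_apply, MonoidHom.comp_apply, al_t, al_c]; exact h.both (not_not.1 n))
    rwa [MonoidHom.comp_apply, al_t] at this
  by_cases j : IsConj (f t) (f (t * c))
  · exact .inr (h.s6 n j)
  · exact .inl (CfsgH4.zstar_center ⟨h.ot, fun g e => (h.cls g e.symm n).resolve_right fun e => j e.1⟩ h.core)

end ZS

end CfsgL0
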