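import Cfsg.Agent.H2.BG0

/-! Computations in `Z₂ × S₄`. -/

namespace CfsgL0
open Function Subgroup Equiv

abbrev Q48 := Multiplicative (ZMod 2) × Perm (Fin 4)

namespace Q48
set_option synthInstance.maxSize 1024
def t : Q48 := (Multiplicative.ofAdd 1, 1)
def z : Q48 := (1, swap 0 1 * swap 2 3)
def c : Q48 := (1, swap 0 1)
def y : Q48 := (1, swap 1 2 * swap 2 3)
def r : Q48 := (1, swap 0 1 * (swap 0 2 * swap 1 3))

theorem card : Nat.card Q48 = 48 := by
  simp [Nat.card_prod, Nat.card_eq_fintype_card, Fintype.card_perm, Nat.factorial]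
theorem cen : ∀ q, q * t = t * q := by decide +kernel
theorem cen' : ∀ q : Q48, q * z = z * q → q * y = y * q → q = 1 ∨ q = t := by decide +kernel
theorem sq : ∀ q, q * z = z * q → q * q = 1 ∨ q * q = z := by decide +kernel
theorem com : ∀ p, p * z = z * p → ∀ q, q * z = z * q → p * q * p⁻¹ * q⁻¹ = 1 ∨ p * q * p⁻¹ * q⁻¹ = z := by
  decide +kernel
theorem cz : ∀ p : Q48, p * z = z * p → p * (t * z) = t * z * p := by decide +kernel
theorem cls : ∀ q : Q48, q * q = 1 → q = 1 ∨ q = t ∨ ∃ u, u * q * u⁻¹ = z ∨ u * q * u⁻¹ = c ∨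
    q.1 ≠ 1 ∧ (u * q * u⁻¹ = t * z ∨ u * q * u⁻¹ = t * c) := by decide +kernel
theorem two : ∀ p : Q48, p * p = 1 → ∀ q, q * q = 1 → p * q = q * p → ∃ u, (u = 1 ∨ u = y ∨ u = y⁻¹) ∧
    u * z * u⁻¹ * p = p * (u * z * u⁻¹) ∧ u * z * u⁻¹ * q = q * (u * z * u⁻¹) := by
  simp only [exists_eq_or_imp, or_and_right, exists_or, exists_eq_left]
  decide +kernel
theorem w8 : ∀ q : Q48, q * q = 1 → q * z = z * q → q * c = c * q → q = 1 ∨ q = z ∨ q = t ∨ q = t * z ∨
    q = c ∨ r * q * r⁻¹ = c ∨ q = t * c ∨ r * q * r⁻¹ = t * c := by decide +kernel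
theorem sqs : ∀ q : Q48, q.1 = 1 → ∃ a, q = a * a ∨ q = c * (a * a) := by decide +kernel
theorem fst : ∀ q : Q48, q.1 = 1 ∨ (t * q).1 = 1 := by decide +kernel
theorem c16 : Nat.card (centralizer {z}) = 16 := by
  rw [Nat.card_congr (Equiv.subtypeEquivRight fun _ => mem_centralizer_singleton_iff), Nat.card_eq_fintype_card]
  decide +kernel

def sg : ℤˣ →* Multiplicative (ZMod 2) :=
  MonoidHom.mk' (fun u => if u = 1 then 1 else Multiplicative.ofAdd 1) (by decide)

def al : Q48 →* Q48 := ((MonoidHom.fst _ _) * sg.comp (Perm.sign.comp (MonoidHom.snd _ _))).prod (MonoidHom.snd _ _)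

theorem al_al (q : Q48) : al (al q) = q := by
  have : ∀ a b : Multiplicative (ZMod 2), a * b * b = a := by decide
  simp [al, this]
theorem al_t : al t = t := by simp [al, t]
theorem al_z : al z = z := by simp [al, z]
theorem al_c : al c = t * c := by simp [al, c, t, sg]

def dh : DihedralGroup 4 →* Q48 :=
  MonoidHom.mk' (fun | .r i => r ^ i.val | .sr i => c * r ^ i.val) (by decide +kernel)
theorem dh_inj : Injective dh := (injective_iff_map_eq_one _).2 (by decide +kernel)
theorem dh_ran : ∀ q, (∃ d, dh d = q) ↔ q.1 = 1 ∧ q * z = z * q := by decide +kernel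

def sw : Finset Q48 := Finset.univ.filter fun q => ∃ u, u * (t * c) * u⁻¹ = q
theorem card_sw : (insert t sw).card = 7 := by decide +kernel
end Q48

end CfsgL0
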